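import Groth.Agent.L24.St.FlatCover
import Groth.Agent.L23.Epi

/-!
Being a monomorphism is local on the base for fppf coverings of algebraic spaces.
-/

set_option autoImplicit false
set_option backward.isDefEq.respectTransparency false
set_option backward.isDefEq.respectTransparency.types false

universe u

open CategoryTheory CategoryTheory.Limits AlgebraicGeometry Opposite AlgSp

namespace Groth.L24.St

variable {S : Scheme.{u}}

theorem generate_mem_J {T : Over S} {ι : Type u} (W : ι → Over S) (v : ∀ i, W i ⟶ T)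
    (h₁ : ∀ i, Flat (v i).left) (h₂ : ∀ i, LocallyOfFinitePresentation (v i).left)
    (h₃ : ∀ t : ↥T.left, ∃ i, t ∈ Set.range (v i).left) :
    Sieve.generate (Presieve.ofArrows W v) ∈ J S T := by
  rw [GrothendieckTopology.mem_over_iff, Sieve.overEquiv_generate]
  refine GrothendieckTopology.superset_covering _ ?_ (Precoverage.generate_mem_toGrothendieck
    (J := Scheme.fppfPrecoverage)
    ((Scheme.ofArrows_mem_precoverage_iff _).2 ⟨h₃, fun i => ⟨h₁ i, h₂ i⟩⟩ :
      Presieve.ofArrows (fun i => (W i).left) (fun i => (v i).left) ∈ Scheme.fppfPrecoverage T.left))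
  apply Sieve.generate_mono
  rintro X k ⟨i⟩
  exact ⟨_, v i, 𝟙 _, ⟨i⟩, by simp⟩

theorem hom_ext_of_cover {X : Sp S} {T : Over S} {ι : Type u} (W : ι → Over S) (v : ∀ i, W i ⟶ T)
    (h₁ : ∀ i, Flat (v i).left) (h₂ : ∀ i, LocallyOfFinitePresentation (v i).left)
    (h₃ : ∀ t : ↥T.left, ∃ i, t ∈ Set.range (v i).left) {a b : (yon S).obj T ⟶ X}
    (h : ∀ i, (yon S).map (v i) ≫ a = (yon S).map (v i) ≫ b) : a = b := by
  apply (J S).uliftYonedaEquiv.injective
  refine (((isSheaf_iff_isSheaf_of_type _ _).1 X.property) _ (generate_mem_J W v h₁ h₂ h₃)).isSeparatedFor.ext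
    fun V k hk => ?_
  obtain ⟨_, j, _, ⟨i⟩, rfl⟩ := hk
  have := congrArg (J S).uliftYonedaEquiv (h i)
  rw [← GrothendieckTopology.uliftYonedaEquiv_naturality, ← GrothendieckTopology.uliftYonedaEquiv_naturality] at this
  simp only [op_comp, Functor.map_comp_apply]
  exact congrArg _ this

theorem isLocalOnBase_mono_fppf : IsLocalOnBase IsFppfCover (MorphismProperty.monomorphisms (Sp S)) := by
  intro ι Y Yi g hY hYi hcov X f hX Xi p q hXi sq
  refine ⟨fun h i => (MorphismProperty.monomorphisms (Sp S)).of_isPullback (sq i) h, fun h => ?_⟩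
  refine Groth.L23.mono_of_yon fun T a b e => ?_
  let k := a ≫ f
  have hW : ∀ i, IsAlgSpace (pullback (g i) k) := fun i =>
    isAlgSpace_pullback (hYi i) (IsAlgSpace.yon_obj T) hY _ _
  choose W c hc hcs using fun i => (hW i).atlas
  have hsq : ∀ i, ∃ vi : W i ⟶ T, (yon S).map vi = c i ≫ pullback.snd (g i) k ∧
      Flat vi.left ∧ LocallyOfFinitePresentation vi.left := by
    intro i
    obtain ⟨vi, hvi⟩ := (yon S).map_surjective (c i ≫ pullback.snd (g i) k)
    refine ⟨vi, hvi, ?_, ?_⟩
    · exact Groth.L23.locP_of_isPullback Groth.L23.etLocal_flat (hYi i) hY (IsAlgSpace.yon_obj T)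
        (IsPullback.of_hasPullback (g i) k) (hcov.1 i).1 (c i) (𝟙 _) vi (hc i) (repWith_id _ T) (by simp [hvi])
    · exact Groth.L23.locP_of_isPullback Groth.L23.etLocal_lfp (hYi i) hY (IsAlgSpace.yon_obj T)
        (IsPullback.of_hasPullback (g i) k) (hcov.1 i).2 (c i) (𝟙 _) vi (hc i) (repWith_id _ T) (by simp [hvi])
  choose v hv hvf hvp using hsq
  refine hom_ext_of_cover W v hvf hvp (fun t => ?_) (fun i => ?_)
  · obtain ⟨i, y, hy⟩ := hcov.2 (Points.ofPt k t)
    obtain ⟨P, hP₁, hP₂⟩ := Groth.L23.exists_of_isPullback (IsPullback.of_hasPullback (g i) k) y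
      (Points.ofScheme T t) (hy.trans (Points.ofPt_eq_map_ofScheme k t))
    obtain ⟨w, rfl⟩ := Groth.L23.surjective_ofPt (hcs i) P
    refine ⟨i, w, ?_⟩
    apply (Points.schemeEquiv T).injective
    change Points.ofScheme T ((v i).left w) = Points.ofScheme T t
    rw [← Groth.L23.ofPt_map, hv, ← Points.map_ofPt]
    exact hP₂
  · rw [hv]
    simp only [Category.assoc]
    congr 1
    let la := (sq i).lift (pullback.snd (g i) k ≫ a) (pullback.fst (g i) k)
      (by rw [Category.assoc]; exact pullback.condition.symm)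
    let lb := (sq i).lift (pullback.snd (g i) k ≫ b) (pullback.fst (g i) k)
      (by rw [Category.assoc, ← e]; exact pullback.condition.symm)
    have : Mono (p i) := h i
    have hl : la = lb := by rw [← cancel_mono (p i), (sq i).lift_snd, (sq i).lift_snd]
    simpa [la, lb] using congrArg (· ≫ q i) hl

end Groth.L24.St
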