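import Groth.Agent.L24.St.LocPStack
import Groth.Agent.L24.St.MonoLocal

/-!
A property of schemes which is etale local for charts and fppf local on the target is fppf local on
the base for algebraic spaces.
-/

set_option autoImplicit false
set_option backward.isDefEq.respectTransparency false
set_option backward.isDefEq.respectTransparency.types false

universe u

open CategoryTheory CategoryTheory.Limits AlgebraicGeometry Opposite AlgSp

namespace Groth.L24.St

variable {S : Scheme.{u}} {P : MorphismProperty Scheme.{u}}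

theorem prop_of_locP_map {U V : Over S} {h : U ⟶ V} (hh : LocP P ((yon S).map h)) : P h.left :=
  hh (𝟙 _) (𝟙 _) h (repWith_id _ U) (repWith_id _ V) (by rw [Category.id_comp, Category.comp_id])

/-- An fppf covering of an algebraic space induces one of every scheme over it. -/
theorem exists_scheme_cover {ι : Type u} {Y : Sp S} {Yi : ι → Sp S} {g : ∀ i, Yi i ⟶ Y}
    (hY : IsAlgSpace Y) (hYi : ∀ i, IsAlgSpace (Yi i)) (hcov : IsFppfCover Yi g) {V : Over S}
    (k : (yon S).obj V ⟶ Y) :
    ∃ (W : ι → Over S) (v : ∀ i, W i ⟶ V) (l : ∀ i, (yon S).obj (W i) ⟶ Yi i),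
      (∀ i, (yon S).map (v i) ≫ k = l i ≫ g i) ∧ (∀ i, Flat (v i).left) ∧
      (∀ i, LocallyOfFinitePresentation (v i).left) ∧ ∀ t : ↥V.left, ∃ i, t ∈ Set.range (v i).left := by
  have hW : ∀ i, IsAlgSpace (pullback (g i) k) := fun i =>
    isAlgSpace_pullback (hYi i) (IsAlgSpace.yon_obj V) hY _ _
  choose W c hc hcs using fun i => (hW i).atlas
  have hsq : ∀ i, ∃ vi : W i ⟶ V, (yon S).map vi = c i ≫ pullback.snd (g i) k ∧
      Flat vi.left ∧ LocallyOfFinitePresentation vi.left := by
    intro i
    obtain ⟨vi, hvi⟩ := (yon S).map_surjective (c i ≫ pullback.snd (g i) k)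
    refine ⟨vi, hvi, ?_, ?_⟩
    · exact Groth.L23.locP_of_isPullback Groth.L23.etLocal_flat (hYi i) hY (IsAlgSpace.yon_obj V)
        (IsPullback.of_hasPullback (g i) k) (hcov.1 i).1 (c i) (𝟙 _) vi (hc i) (repWith_id _ V) (by simp [hvi])
    · exact Groth.L23.locP_of_isPullback Groth.L23.etLocal_lfp (hYi i) hY (IsAlgSpace.yon_obj V)
        (IsPullback.of_hasPullback (g i) k) (hcov.1 i).2 (c i) (𝟙 _) vi (hc i) (repWith_id _ V) (by simp [hvi])
  choose v hv hvf hvp using hsq
  refine ⟨W, v, fun i => c i ≫ pullback.fst (g i) k,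
    fun i => by rw [hv i, Category.assoc, Category.assoc, pullback.condition], hvf, hvp, fun t => ?_⟩
  obtain ⟨i, y, hy⟩ := hcov.2 (Points.ofPt k t)
  obtain ⟨p, hp₁, hp₂⟩ := Groth.L23.exists_of_isPullback (IsPullback.of_hasPullback (g i) k) y
    (Points.ofScheme V t) (hy.trans (Points.ofPt_eq_map_ofScheme k t))
  obtain ⟨w, rfl⟩ := Groth.L23.surjective_ofPt (hcs i) p
  refine ⟨i, w, ?_⟩
  apply (Points.schemeEquiv V).injective
  change Points.ofScheme V ((v i).left w) = Points.ofScheme V t
  rw [← Groth.L23.ofPt_map, hv, ← Points.map_ofPt]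
  exact hp₂

theorem isLocalOnBase_locP_fppf (hP : Groth.L23.EtLocal P) :
    IsLocalOnBase (S := S) IsFppfCover (LocP P) := by
  intro ι Y Yi g hY hYi hcov X f hX Xi p q hXi sq
  refine ⟨fun h i => Groth.L23.locP_of_isPullback hP hX hY (hYi i) (sq i) h, fun h => ?_⟩
  obtain ⟨U, V, a, b, k, ha, has, hb, -, w⟩ := Groth.L23.exists_chart hX hY f
  refine Groth.L23.locP_of_chart hP ha has hb w ?_
  obtain ⟨W, v, l, hl, hvf, hvp, hvs⟩ := exists_scheme_cover hY hYi hcov b
  have hK : Presieve.ofArrows (fun i => (W i).left) (fun i => (v i).left) ∈ Scheme.fppfPrecoverage V.left :=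
    (Scheme.ofArrows_mem_precoverage_iff _).2 ⟨hvs, fun i => ⟨hvf i, hvp i⟩⟩
  have := hP.target
  refine MorphismProperty.IsLocalAtTarget.of_forall_pullbackSnd hK ?_
  rintro _ _ _ ⟨i⟩
  have := hP.stable
  -- `X ×_Y V` and its base change to `W i`
  let ρ := pullback.snd f b
  have hZ : IsAlgSpace (pullback f b) := isAlgSpace_pullback hX (IsAlgSpace.yon_obj V) hY f b
  have hZ' : IsAlgSpace (pullback ρ ((yon S).map (v i))) :=
    isAlgSpace_pullback hZ (IsAlgSpace.yon_obj (W i)) (IsAlgSpace.yon_obj V) _ _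
  let r := pullback.lift a ((yon S).map k) w
  have hr : LocP @Etale r := by
    refine Groth.L23.locP_of_comp_of_locP (g := pullback.fst f b) Groth.L23.etLocal_etale
      (Q := @Etale) (fun φ ψ h1 h2 => ?_) (IsAlgSpace.yon_obj U) hZ hX ?_ ?_
    · have := h1; have := h2; exact Etale.of_comp φ ψ
    · rw [pullback.lift_fst]; exact Groth.L23.locP_of_repWith Groth.L23.etLocal_etale ha
    · exact Groth.L23.locP_of_repWith Groth.L23.etLocal_etale
        (Groth.L23.repWith_of_isPullback (IsPullback.of_hasPullback f b).flip hb)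
  let Q := pullback k (v i)
  have hQ : IsPullback ((yon S).map (pullback.fst k (v i))) ((yon S).map (pullback.snd k (v i)))
      ((yon S).map k) ((yon S).map (v i)) := (IsPullback.of_hasPullback k (v i)).map (yon S)
  let m : (yon S).obj Q ⟶ pullback ρ ((yon S).map (v i)) :=
    pullback.lift ((yon S).map (pullback.fst k (v i)) ≫ r) ((yon S).map (pullback.snd k (v i)))
      (by rw [Category.assoc, pullback.lift_snd]; exact hQ.w)
  have hm₁ : (yon S).map (pullback.fst k (v i)) ≫ r = m ≫ pullback.fst ρ ((yon S).map (v i)) := (pullback.lift_fst _ _ _).symm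
  have hm₂ : m ≫ pullback.snd ρ ((yon S).map (v i)) = (yon S).map (pullback.snd k (v i)) := pullback.lift_snd _ _ _
  have sqm : IsPullback ((yon S).map (pullback.fst k (v i))) m r (pullback.fst ρ ((yon S).map (v i))) :=
    IsPullback.of_bot (by rw [hm₂, pullback.lift_snd]; exact hQ) hm₁ (IsPullback.of_hasPullback ρ ((yon S).map (v i)))
  have hm : LocP P m := Groth.L23.locP_mono (fun φ hφ => hP.etale φ hφ)
    (Groth.L23.locP_of_isPullback Groth.L23.etLocal_etale (IsAlgSpace.yon_obj U) hZ hZ' sqm hr)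
  -- the projection of `X ×_Y W i` is a base change of `p i`
  have sqZ : IsPullback (pullback.fst ρ ((yon S).map (v i)) ≫ pullback.fst f b) (pullback.snd ρ ((yon S).map (v i))) f (l i ≫ g i) := by
    rw [← hl i]
    exact (IsPullback.of_hasPullback ρ ((yon S).map (v i))).paste_horiz (IsPullback.of_hasPullback f b)
  let j := (sq i).lift (pullback.fst ρ ((yon S).map (v i)) ≫ pullback.fst f b) (pullback.snd ρ ((yon S).map (v i)) ≫ l i)
    (by rw [sqZ.w, Category.assoc])
  have sqj : IsPullback j (pullback.snd ρ ((yon S).map (v i))) (p i) (l i) :=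
    IsPullback.of_right (by rw [(sq i).lift_fst]; exact sqZ) ((sq i).lift_snd _ _ _) (sq i)
  have hsnd : LocP P (pullback.snd ρ ((yon S).map (v i))) :=
    Groth.L23.locP_of_isPullback hP (hXi i) (hYi i) (IsAlgSpace.yon_obj (W i)) sqj (h i)
  have hfin := Groth.L23.locP_comp hP (IsAlgSpace.yon_obj Q) hZ' (IsAlgSpace.yon_obj (W i)) hm hsnd
  rw [hm₂] at hfin
  have hs := prop_of_locP_map hfin
  have sqS := (IsPullback.of_hasPullback k (v i)).map (Over.forget S)
  have e := sqS.isoPullback_hom_snd
  change _ = (pullback.snd k (v i)).left at e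
  rw [← e] at hs
  exact (P.cancel_left_of_respectsIso _ _).1 hs

end Groth.L24.St
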