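import Groth.Agent.L24.St.PshRep
import Groth.Agent.L09.FibMisc
import Groth.Agent.L09.FibFiberwise

/-!
Fibrewise consequences of representability by algebraic spaces.
-/

set_option autoImplicit false
set_option backward.isDefEq.respectTransparency false
set_option backward.isDefEq.respectTransparency.types false

universe v₃ u₃ v₂ u₂ u

open CategoryTheory CategoryTheory.Limits AlgebraicGeometry Opposite

namespace Groth.L24.St

variable {S : Scheme.{u}} {𝒳 : BasedCategory.{v₂, u₂} (Over S)} {𝒴 : BasedCategory.{v₃, u₃} (Over S)}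

theorem faithful_of_rep1 (h𝒳 : FibCat.IsFibGrpd 𝒳.p) (h𝒴 : FibCat.IsFibGrpd 𝒴.p) (f : 𝒳 ⥤ᵇ 𝒴)
    (hf : AlgSt.RepByAlgSp1 f) : f.toFunctor.Faithful := by
  refine ⟨fun {a b φ ψ} hφ => ?_⟩
  have hp : 𝒳.p.map φ = 𝒳.p.map ψ := by
    have h1 := Functor.congr_hom f.w φ
    have h2 := Functor.congr_hom f.w ψ
    simp only [Functor.comp_map] at h1 h2
    rw [hφ] at h1
    rw [h1] at h2
    exact (cancel_mono _).1 ((cancel_epi _).1 h2)
  obtain ⟨y, k, hk⟩ := exists_overCat_functor h𝒴 (f.obj a) (f.w_obj a)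
  let ξ : (FibCat.fp y f).obj := fpObj (idObj (𝒳.p.obj a)) a k hk
  have := h𝒳.isStronglyCartesian φ
  have hl : 𝒳.p.IsHomLift (𝟙 (𝒳.p.obj a) ≫ 𝒳.p.map φ) ψ := by
    rw [Category.id_comp, hp]; infer_instance
  obtain ⟨χ, ⟨hχ, hc⟩, -⟩ := Functor.IsStronglyCartesian.universal_property 𝒳.p (𝒳.p.map φ) φ
    (𝟙 (𝒳.p.obj a)) (𝟙 (𝒳.p.obj a) ≫ 𝒳.p.map φ) rfl ψ
  have := h𝒴.isStronglyCartesian (f.map φ)
  have hfχ : f.map χ = 𝟙 _ := by
    have h1 : OverId (f.map χ) := (overId_of_lift hχ).map f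
    obtain ⟨_, h2⟩ := h1.eq
    have : 𝒴.p.IsHomLift (𝟙 (𝒴.p.obj (f.obj a))) (f.map χ) := h1
    have : 𝒴.p.IsHomLift (𝟙 (𝒴.p.obj (f.obj a))) (𝟙 (f.obj a)) := overId_id _
    refine Functor.IsStronglyCartesian.ext 𝒴.p (𝒴.p.map (f.map φ)) (f.map φ) (𝟙 (𝒴.p.obj (f.obj a))) ?_
    rw [Category.id_comp, ← f.toFunctor.map_comp, hc, hφ]
  let m : ξ ⟶ ξ := fpHom (𝟙 (idObj (𝒳.p.obj a))) χ
    (show y.map (𝟙 _) ≫ k.hom = k.hom ≫ f.map χ by simp [hfχ])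
  have hm : m = 𝟙 ξ := by
    have hs := isFibSetoid_of_repByAlgSp (hf (𝒳.p.obj a) y)
    have h1 : OverId m := overId_fp m (overId_id _)
    have : (FibCat.fp y f).p.IsHomLift (𝟙 ((FibCat.fp y f).p.obj ξ)) m := h1
    have : (FibCat.fp y f).p.IsHomLift (𝟙 ((FibCat.fp y f).p.obj ξ)) (𝟙 ξ) := overId_id _
    exact L09.Fib.setoid_ext hs (𝟙 ((FibCat.fp y f).p.obj ξ))
  have : χ = 𝟙 a := congrArg (fun t : ξ ⟶ ξ => t.hom.snd) hm
  rw [← hc, this, Category.id_comp]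

theorem app_injective_of_mono {F G : AlgSp.Sp S} (a : F ⟶ G) [Mono a] (T : (Over S)ᵒᵖ) :
    Function.Injective (a.hom.app T) := by
  have : Mono a.hom := inferInstanceAs (Mono ((sheafToPresheaf (AlgSp.J S) _).map a))
  exact (CategoryTheory.mono_iff_injective _).1 (inferInstance : Mono (a.hom.app T))

theorem full_of_isMono (h𝒳 : FibCat.IsFibGrpd 𝒳.p) (h𝒴 : FibCat.IsFibGrpd 𝒴.p) (j : 𝒳 ⥤ᵇ 𝒴)
    (hj : AlgSt.IsMono j) : j.toFunctor.Full := by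
  have := L09.Fib.isFibered_of_isFibGrpd _ h𝒳
  refine L09.Fib.full_of_fiber j (L09.Fib.preservesStronglyCartesian_of_isFibGrpd j h𝒴) fun U => ⟨?_⟩
  rintro ⟨a, ha⟩ ⟨b, hb⟩ β
  let β0 : j.obj a ⟶ j.obj b := β.1
  have hβ : 𝒴.p.IsHomLift (𝟙 U) β0 := β.2
  have : IsIso β0 := L09.Fib.isIso_of_isFibGrpd _ h𝒴 (𝟙 U) β0
  obtain ⟨y, k, hk⟩ := exists_overCat_functor h𝒴 (j.obj a) ((j.w_obj a).trans ha)
  let ξ : (FibCat.fp y j).obj := fpObj (idObj U) a k hk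
  let ξ' : (FibCat.fp y j).obj := fpObj (idObj U) b (k ≪≫ asIso β0) (hk.comp (overId_of_lift hβ))
  obtain ⟨F, e, he, hm⟩ := hj U y
  have hm : Mono (AlgSt.spMapOfOver (BasedFunctor.comp e (FibCat.fpFst y j))) := hm
  obtain ⟨_, _⟩ := eqv_fullFaithful he
  obtain ⟨σ, i, hi⟩ := eqv_exists_overId he ξ
  obtain ⟨σ', i', hi'⟩ := eqv_exists_overId he ξ'
  let c := BasedFunctor.comp (BasedFunctor.comp e (FibCat.fpFst y j)) (AlgSt.ofOverCat U)
  have key : ∀ {σ : (AlgSt.ofSp F.obj).obj} {ζ : (FibCat.fp y j).obj} (i : e.obj σ ≅ ζ) (_ : OverId i.hom)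
      (hζ : ζ.obj.fst = idObj U),
      ∃ h : σ.base = U, secAt (G := ((AlgSp.yon S).obj U).obj) c σ =
        ((AlgSp.yon S).obj U).obj.map (eqToHom h).op ⟨𝟙 U⟩ := by
    intro σ ζ i hi hζ
    obtain ⟨e1, he1⟩ := hi.eq
    obtain ⟨⟨ζ1, ζ2, ζi⟩, hζp⟩ := ζ
    obtain rfl : ζ1 = idObj U := hζ
    have h0 : σ.base = U := (BasedFunctor.w_obj e σ).symm.trans e1
    refine ⟨h0, ULift.ext _ _ ?_⟩
    change eqToHom (baseEq c σ).symm ≫ ((e.obj σ).obj.fst).hom = eqToHom h0 ≫ 𝟙 U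
    have hw := Over.w i.hom.hom.fst
    rw [show i.hom.hom.fst.left = eqToHom e1 from he1] at hw
    rw [← hw]
    exact (eqToHom_trans_assoc _ _ _).trans rfl
  obtain ⟨h, hs⟩ := key i hi rfl
  obtain ⟨h', hs'⟩ := key i' hi' rfl
  have hsec : F.obj.obj.map (eqToHom (h.trans h'.symm)).op σ'.sec = σ.sec := by
    refine app_injective_of_mono (AlgSt.spMapOfOver (BasedFunctor.comp e (FibCat.fpFst y j)))
      (op σ.base) ?_
    rw [NatTrans.naturality_apply]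
    erw [pshMapOf_app c σ, pshMapOf_app c σ', hs, hs']
    erw [map_eqToHom_trans]
  let d : σ ≅ σ' := eltIso (h.trans h'.symm) hsec
  let m : ξ ⟶ ξ' := i.inv ≫ e.map d.hom ≫ i'.hom
  have hmid : OverId m := hi.inv.comp ((OverId.map e (eltIso_overId _ _)).comp hi')
  have hm2 : OverId m.hom.snd := by
    have h1 : (FibCat.fp y j).p.IsHomLift (𝟙 _) m := hmid
    exact overId_of_lift (L09.Fib.fp_snd_lift _ m h1)
  have hfst : m.hom.fst = 𝟙 (idObj U) := by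
    obtain ⟨_, h2⟩ := hmid.eq
    exact Over.OverMorphism.ext (h2.trans (eqToHom_refl _ _))
  refine ⟨⟨m.hom.snd, hm2.lift ha⟩, Functor.Fiber.hom_ext ?_⟩
  show j.map m.hom.snd = β0
  have hw := m.hom.w
  rw [hfst] at hw
  change y.map (𝟙 _) ≫ k.hom ≫ β0 = k.hom ≫ j.map m.hom.snd at hw
  rw [CategoryTheory.Functor.map_id, Category.id_comp, cancel_epi] at hw
  exact hw.symm

end Groth.L24.St
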