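import Groth.Prelude.Def_FibCat2
import Groth.Agent.L09.FibFp
import Groth.Agent.L09.FibBasic

/-!
2-categorical calculus of the fibre products over a base category.
-/

set_option autoImplicit false
set_option backward.isDefEq.respectTransparency false
set_option backward.isDefEq.respectTransparency.types false

universe v₇ u₇ v₆ u₆ v₅ u₅ v₄ u₄ v₃ u₃ v₂ u₂ v u

open CategoryTheory CategoryTheory.Limits Category

namespace Groth.L24.St

variable {C : Type u} [Category.{v} C]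

section OverId

variable {𝒳 : BasedCategory.{v₂, u₂} C} {𝒴 : BasedCategory.{v₃, u₃} C}

/-- A morphism lying over an identity of the base. -/
def OverId {a b : 𝒳.obj} (φ : a ⟶ b) : Prop := 𝒳.p.IsHomLift (𝟙 (𝒳.p.obj a)) φ

theorem OverId.eq {a b : 𝒳.obj} {φ : a ⟶ b} (h : OverId φ) :
    ∃ e : 𝒳.p.obj a = 𝒳.p.obj b, 𝒳.p.map φ = eqToHom e := by
  have : 𝒳.p.IsHomLift (𝟙 (𝒳.p.obj a)) φ := h
  refine ⟨(IsHomLift.codomain_eq 𝒳.p (𝟙 (𝒳.p.obj a)) φ).symm, ?_⟩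
  have h' := IsHomLift.fac' 𝒳.p (𝟙 (𝒳.p.obj a)) φ
  simpa using h'

theorem OverId.of_eq {a b : 𝒳.obj} {φ : a ⟶ b} (e : 𝒳.p.obj a = 𝒳.p.obj b)
    (h : 𝒳.p.map φ = eqToHom e) : OverId φ :=
  IsHomLift.of_fac' 𝒳.p (𝟙 (𝒳.p.obj a)) φ rfl e.symm (by simp [h])

theorem OverId.lift {a b : 𝒳.obj} {φ : a ⟶ b} (h : OverId φ) {R : C} (hR : 𝒳.p.obj a = R) :
    𝒳.p.IsHomLift (𝟙 R) φ := by
  subst hR; exact h

theorem overId_of_lift {a b : 𝒳.obj} {φ : a ⟶ b} {R : C} (h : 𝒳.p.IsHomLift (𝟙 R) φ) : OverId φ := by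
  have := h
  obtain rfl := IsHomLift.domain_eq 𝒳.p (𝟙 R) φ
  exact h

theorem overId_id (a : 𝒳.obj) : OverId (𝟙 a) := OverId.of_eq rfl (by simp)

theorem OverId.comp {a b c : 𝒳.obj} {φ : a ⟶ b} {ψ : b ⟶ c} (h : OverId φ) (h' : OverId ψ) :
    OverId (φ ≫ ψ) := by
  obtain ⟨e, he⟩ := h.eq
  obtain ⟨e', he'⟩ := h'.eq
  exact OverId.of_eq (e.trans e') (by simp [he, he'])

theorem OverId.inv {a b : 𝒳.obj} {i : a ≅ b} (h : OverId i.hom) : OverId i.inv := by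
  obtain ⟨e, he⟩ := h.eq
  refine OverId.of_eq e.symm ?_
  rw [← cancel_epi (𝒳.p.map i.hom), ← Functor.map_comp, i.hom_inv_id, he]
  simp

theorem OverId.hom {a b : 𝒳.obj} {i : a ≅ b} (h : OverId i.inv) : OverId i.hom :=
  OverId.inv (i := i.symm) h

theorem OverId.map (F : 𝒳 ⥤ᵇ 𝒴) {a b : 𝒳.obj} {φ : a ⟶ b} (h : OverId φ) : OverId (F.map φ) := by
  obtain ⟨e, he⟩ := h.eq
  refine OverId.of_eq ((F.w_obj a).trans (e.trans (F.w_obj b).symm)) ?_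
  have := Functor.congr_hom F.w φ
  simp only [Functor.comp_map] at this
  simp [this, he]

theorem overId_app {F G : 𝒳 ⥤ᵇ 𝒴} (α : F ⟶ G) (x : 𝒳.obj) : OverId (α.toNatTrans.app x) :=
  overId_of_lift (BasedNatTrans.isHomLift α (a := x) rfl)

/-- The component of a 2-isomorphism as an isomorphism. -/
@[simps]
def appIso {F G : 𝒳 ⥤ᵇ 𝒴} (e : F ≅ G) (x : 𝒳.obj) : F.obj x ≅ G.obj x where
  hom := e.hom.toNatTrans.app x
  inv := e.inv.toNatTrans.app x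
  hom_inv_id := congrArg (fun t => t.toNatTrans.app x) e.hom_inv_id
  inv_hom_id := congrArg (fun t => t.toNatTrans.app x) e.inv_hom_id

theorem appIso_naturality {F G : 𝒳 ⥤ᵇ 𝒴} (e : F ≅ G) {x y : 𝒳.obj} (φ : x ⟶ y) :
    F.map φ ≫ e.hom.toNatTrans.app y = e.hom.toNatTrans.app x ≫ G.map φ :=
  e.hom.toNatTrans.naturality φ

/-- Build a 2-isomorphism from components over identities. -/
def mkIso2 {F G : 𝒳 ⥤ᵇ 𝒴} (i : ∀ x, F.obj x ≅ G.obj x)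
    (w : ∀ ⦃x y : 𝒳.obj⦄ (φ : x ⟶ y), F.map φ ≫ (i y).hom = (i x).hom ≫ G.map φ)
    (h : ∀ x, OverId (i x).hom) : F ≅ G :=
  BasedNatIso.mkNatIso (NatIso.ofComponents i (fun φ => w φ)) fun x => (h x).lift (F.w_obj x)

@[simp] theorem mkIso2_hom_app {F G : 𝒳 ⥤ᵇ 𝒴} (i : ∀ x, F.obj x ≅ G.obj x) (w h) (x : 𝒳.obj) :
    (mkIso2 (F := F) (G := G) i w h).hom.toNatTrans.app x = (i x).hom := rfl

theorem isEquivOver_of_overId (F : 𝒳 ⥤ᵇ 𝒴) [F.toFunctor.Full] [F.toFunctor.Faithful]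
    (h : ∀ η : 𝒴.obj, ∃ (ξ : 𝒳.obj) (e : F.obj ξ ≅ η), OverId e.hom) :
    FibCat.IsEquivOver F :=
  L09.Fib.isEquivOver_mk F fun η => by
    obtain ⟨ξ, e, he⟩ := h η
    obtain ⟨e', -⟩ := he.eq
    exact ⟨ξ, e, he.lift e'⟩

theorem eqv_fullFaithful {F : 𝒳 ⥤ᵇ 𝒴} (h : FibCat.IsEquivOver F) :
    F.toFunctor.Full ∧ F.toFunctor.Faithful := ((L09.Fib.isEquivOver_iff F).1 h).1

theorem eqv_exists_overId {F : 𝒳 ⥤ᵇ 𝒴} (h : FibCat.IsEquivOver F) (η : 𝒴.obj) :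
    ∃ (ξ : 𝒳.obj) (e : F.obj ξ ≅ η), OverId e.hom := by
  obtain ⟨ξ, e, he⟩ := ((L09.Fib.isEquivOver_iff F).1 h).2 η
  exact ⟨ξ, e, overId_of_lift he⟩

theorem isEquivOver_id (𝒳 : BasedCategory.{v₂, u₂} C) : FibCat.IsEquivOver (BasedFunctor.id 𝒳) :=
  ⟨BasedFunctor.id 𝒳, ⟨Iso.refl _⟩, ⟨Iso.refl _⟩⟩

theorem isEquivOver_comp {𝒵 : BasedCategory.{v₄, u₄} C} {F : 𝒳 ⥤ᵇ 𝒴} {G : 𝒴 ⥤ᵇ 𝒵}
    (hF : FibCat.IsEquivOver F) (hG : FibCat.IsEquivOver G) :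
    FibCat.IsEquivOver (BasedFunctor.comp F G) := by
  obtain ⟨_, _⟩ := eqv_fullFaithful hF
  obtain ⟨_, _⟩ := eqv_fullFaithful hG
  have : (BasedFunctor.comp F G).toFunctor.Full := inferInstanceAs (F.toFunctor ⋙ G.toFunctor).Full
  have : (BasedFunctor.comp F G).toFunctor.Faithful :=
    inferInstanceAs (F.toFunctor ⋙ G.toFunctor).Faithful
  refine isEquivOver_of_overId _ fun η => ?_
  obtain ⟨y, e, he⟩ := eqv_exists_overId hG η
  obtain ⟨x, e', he'⟩ := eqv_exists_overId hF y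
  exact ⟨x, G.toFunctor.mapIso e' ≪≫ e, (he'.map G).comp he⟩

theorem isEquivOver_congr {F G : 𝒳 ⥤ᵇ 𝒴} (e : F ≅ G) (h : FibCat.IsEquivOver F) :
    FibCat.IsEquivOver G := by
  obtain ⟨_, _⟩ := eqv_fullFaithful h
  let e' : F.toFunctor ≅ G.toFunctor := (BasedNatTrans.forgetful _ _).mapIso e
  have : G.toFunctor.Full := Functor.Full.of_iso e'
  have : G.toFunctor.Faithful := Functor.Faithful.of_iso e'
  refine isEquivOver_of_overId _ fun η => ?_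
  obtain ⟨x, i, hi⟩ := eqv_exists_overId h η
  exact ⟨x, (appIso e x).symm ≪≫ i, (overId_app e.inv x).comp hi⟩

theorem exists_inverse {F : 𝒳 ⥤ᵇ 𝒴} (h : FibCat.IsEquivOver F) :
    ∃ G : 𝒴 ⥤ᵇ 𝒳, FibCat.IsEquivOver G ∧ Nonempty (BasedFunctor.comp F G ≅ BasedFunctor.id 𝒳) ∧
      Nonempty (BasedFunctor.comp G F ≅ BasedFunctor.id 𝒴) := by
  obtain ⟨G, h1, h2⟩ := h
  exact ⟨G, ⟨F, h2, h1⟩, h1, h2⟩

/-- Whiskering a 2-isomorphism on the left. -/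
def whiskerL {𝒵 : BasedCategory.{v₄, u₄} C} (F : 𝒳 ⥤ᵇ 𝒴) {G H : 𝒴 ⥤ᵇ 𝒵} (e : G ≅ H) :
    BasedFunctor.comp F G ≅ BasedFunctor.comp F H :=
  mkIso2 (fun x => appIso e (F.obj x)) (fun _ _ φ => appIso_naturality e (F.map φ))
    (fun _ => overId_app e.hom _)

/-- Whiskering a 2-isomorphism on the right. -/
def whiskerR {𝒵 : BasedCategory.{v₄, u₄} C} {F G : 𝒳 ⥤ᵇ 𝒴} (e : F ≅ G) (H : 𝒴 ⥤ᵇ 𝒵) :
    BasedFunctor.comp F H ≅ BasedFunctor.comp G H :=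
  mkIso2 (fun x => H.toFunctor.mapIso (appIso e x))
    (fun _ _ φ => ((H.toFunctor.map_comp _ _).symm.trans
      ((congrArg H.toFunctor.map (appIso_naturality e φ)).trans (H.toFunctor.map_comp _ _))))
    (fun x => (overId_app e.hom x).map H)

end OverId

section CompApp

variable {𝒳' : BasedCategory.{v₅, u₅} C} {𝒳 : BasedCategory.{v₂, u₂} C} {𝒮 : BasedCategory.{v₄, u₄} C}
  {F : 𝒳 ⥤ᵇ 𝒮} {F' : 𝒳' ⥤ᵇ 𝒮} {a : 𝒳' ⥤ᵇ 𝒳}

/-- The component of a 2-isomorphism out of a composite. -/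
def compApp (α : BasedFunctor.comp a F ≅ F') (x : 𝒳'.obj) : F.obj (a.obj x) ≅ F'.obj x := appIso α x

theorem compApp_naturality (α : BasedFunctor.comp a F ≅ F') {x y : 𝒳'.obj} (φ : x ⟶ y) :
    F.map (a.map φ) ≫ (compApp α y).hom = (compApp α x).hom ≫ F'.map φ :=
  appIso_naturality α φ

theorem compApp_naturality_inv (α : BasedFunctor.comp a F ≅ F') {x y : 𝒳'.obj} (φ : x ⟶ y) :
    F'.map φ ≫ (compApp α y).inv = (compApp α x).inv ≫ F.map (a.map φ) :=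
  appIso_naturality α.symm φ

theorem compApp_overId (α : BasedFunctor.comp a F ≅ F') (x : 𝒳'.obj) : OverId (compApp α x).hom :=
  overId_app α.hom x

end CompApp

section Fp

variable {𝒳 : BasedCategory.{v₂, u₂} C} {𝒴 : BasedCategory.{v₃, u₃} C} {𝒮 : BasedCategory.{v₄, u₄} C}
  {F : 𝒳 ⥤ᵇ 𝒮} {G : 𝒴 ⥤ᵇ 𝒮}

/-- An object of the fibre product. -/
def fpObj (x : 𝒳.obj) (y : 𝒴.obj) (i : F.obj x ≅ G.obj y) (hi : OverId i.hom) :
    (FibCat.fp F G).obj :=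
  ⟨⟨x, y, i⟩, hi.lift (F.w_obj x)⟩

theorem fp_overId (x : (FibCat.fp F G).obj) : OverId x.obj.iso.hom := overId_of_lift x.property

/-- A morphism of the fibre product. -/
def fpHom {x y : (FibCat.fp F G).obj} (a : x.obj.fst ⟶ y.obj.fst) (b : x.obj.snd ⟶ y.obj.snd)
    (w : F.map a ≫ y.obj.iso.hom = x.obj.iso.hom ≫ G.map b) : x ⟶ y :=
  ObjectProperty.homMk { fst := a, snd := b, w := w }

@[simp] theorem fpHom_fst {x y : (FibCat.fp F G).obj} (a : x.obj.fst ⟶ y.obj.fst)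
    (b : x.obj.snd ⟶ y.obj.snd) (w) : (fpHom (F := F) (G := G) a b w).hom.fst = a := rfl

@[simp] theorem fpHom_snd {x y : (FibCat.fp F G).obj} (a : x.obj.fst ⟶ y.obj.fst)
    (b : x.obj.snd ⟶ y.obj.snd) (w) : (fpHom (F := F) (G := G) a b w).hom.snd = b := rfl

theorem fp_ext {x y : (FibCat.fp F G).obj} {m m' : x ⟶ y} (h1 : m.hom.fst = m'.hom.fst)
    (h2 : m.hom.snd = m'.hom.snd) : m = m' :=
  ObjectProperty.hom_ext _ (CategoricalPullback.hom_ext h1 h2)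

/-- An isomorphism of the fibre product. -/
@[simps]
def fpIsoMk {x y : (FibCat.fp F G).obj} (a : x.obj.fst ≅ y.obj.fst) (b : x.obj.snd ≅ y.obj.snd)
    (w : F.map a.hom ≫ y.obj.iso.hom = x.obj.iso.hom ≫ G.map b.hom) : x ≅ y where
  hom := fpHom a.hom b.hom w
  inv := fpHom a.inv b.inv (by
    have h := congrArg (fun t => F.map a.inv ≫ t ≫ G.map b.inv) w
    simp only [Category.assoc, ← Functor.map_comp, Iso.hom_inv_id, Functor.map_id, Category.comp_id] at h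
    rw [← Functor.map_comp_assoc, Iso.inv_hom_id, Functor.map_id, Category.id_comp] at h
    exact h.symm)
  hom_inv_id := fp_ext (by exact a.hom_inv_id) (by exact b.hom_inv_id)
  inv_hom_id := fp_ext (by exact a.inv_hom_id) (by exact b.inv_hom_id)

theorem overId_fp {x y : (FibCat.fp F G).obj} (m : x ⟶ y) (h : OverId m.hom.fst) : OverId m :=
  (L09.Fib.fp_isHomLift_iff (F := F) (G := G) _ m).2 h

/-- The functor between fibre products induced by functors on the two factors. -/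
def fpMap {𝒳' : BasedCategory.{v₅, u₅} C} {𝒴' : BasedCategory.{v₆, u₆} C}
    {F' : 𝒳' ⥤ᵇ 𝒮} {G' : 𝒴' ⥤ᵇ 𝒮} (a : 𝒳' ⥤ᵇ 𝒳) (b : 𝒴' ⥤ᵇ 𝒴)
    (α : BasedFunctor.comp a F ≅ F') (β : BasedFunctor.comp b G ≅ G') :
    FibCat.fp F' G' ⥤ᵇ FibCat.fp F G :=
  FibCat.fpLift (BasedFunctor.comp (FibCat.fpFst F' G') a) (BasedFunctor.comp (FibCat.fpSnd F' G') b)
    (mkIso2 (fun x => compApp α x.obj.fst ≪≫ x.obj.iso ≪≫ (compApp β x.obj.snd).symm)
      (fun x y m => by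
        change F.map (a.map m.hom.fst) ≫ (compApp α y.obj.fst).hom ≫ y.obj.iso.hom ≫
          (compApp β y.obj.snd).inv = ((compApp α x.obj.fst).hom ≫ x.obj.iso.hom ≫
            (compApp β x.obj.snd).inv) ≫ G.map (b.map m.hom.snd)
        rw [reassoc_of% (compApp_naturality α m.hom.fst), reassoc_of% m.hom.w]
        simp only [Category.assoc]
        rw [compApp_naturality_inv β m.hom.snd])
      (fun x => ((compApp_overId α _).comp ((fp_overId x).comp (OverId.inv (compApp_overId β _))))))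

theorem fpMap_map {𝒳' : BasedCategory.{v₅, u₅} C} {𝒴' : BasedCategory.{v₆, u₆} C}
    {F' : 𝒳' ⥤ᵇ 𝒮} {G' : 𝒴' ⥤ᵇ 𝒮} (a : 𝒳' ⥤ᵇ 𝒳) (b : 𝒴' ⥤ᵇ 𝒴)
    (α : BasedFunctor.comp a F ≅ F') (β : BasedFunctor.comp b G ≅ G')
    {x y : (FibCat.fp F' G').obj} (m : x ⟶ y) :
    ((fpMap a b α β).map m).hom.fst = a.map m.hom.fst ∧ ((fpMap a b α β).map m).hom.snd = b.map m.hom.snd :=
  ⟨rfl, rfl⟩

theorem fpMap_fst {𝒳' : BasedCategory.{v₅, u₅} C} {𝒴' : BasedCategory.{v₆, u₆} C}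
    {F' : 𝒳' ⥤ᵇ 𝒮} {G' : 𝒴' ⥤ᵇ 𝒮} (a : 𝒳' ⥤ᵇ 𝒳) (b : 𝒴' ⥤ᵇ 𝒴)
    (α : BasedFunctor.comp a F ≅ F') (β : BasedFunctor.comp b G ≅ G') :
    BasedFunctor.comp (fpMap a b α β) (FibCat.fpFst F G) = BasedFunctor.comp (FibCat.fpFst F' G') a := rfl

theorem fpMap_snd {𝒳' : BasedCategory.{v₅, u₅} C} {𝒴' : BasedCategory.{v₆, u₆} C}
    {F' : 𝒳' ⥤ᵇ 𝒮} {G' : 𝒴' ⥤ᵇ 𝒮} (a : 𝒳' ⥤ᵇ 𝒳) (b : 𝒴' ⥤ᵇ 𝒴)
    (α : BasedFunctor.comp a F ≅ F') (β : BasedFunctor.comp b G ≅ G') :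
    BasedFunctor.comp (fpMap a b α β) (FibCat.fpSnd F G) = BasedFunctor.comp (FibCat.fpSnd F' G') b := by
  rfl

/-- Equivalences of the factors induce an equivalence of fibre products. -/
theorem fpMap_isEquivOver {𝒳' : BasedCategory.{v₅, u₅} C} {𝒴' : BasedCategory.{v₆, u₆} C}
    {F' : 𝒳' ⥤ᵇ 𝒮} {G' : 𝒴' ⥤ᵇ 𝒮} {a : 𝒳' ⥤ᵇ 𝒳} {b : 𝒴' ⥤ᵇ 𝒴}
    (ha : FibCat.IsEquivOver a) (hb : FibCat.IsEquivOver b)
    (α : BasedFunctor.comp a F ≅ F') (β : BasedFunctor.comp b G ≅ G') :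
    FibCat.IsEquivOver (fpMap a b α β) := by
  obtain ⟨_, _⟩ := eqv_fullFaithful ha
  obtain ⟨_, _⟩ := eqv_fullFaithful hb
  have hfaith : (fpMap a b α β).toFunctor.Faithful := ⟨fun {x y m m'} h => fp_ext
    (a.toFunctor.map_injective (congrArg (fun t => t.hom.fst) h))
    (b.toFunctor.map_injective (congrArg (fun t => t.hom.snd) h))⟩
  have hfull : (fpMap a b α β).toFunctor.Full := ⟨fun {x y} m => by
    obtain ⟨m1, hm1⟩ : ∃ m1 : x.obj.fst ⟶ y.obj.fst, a.map m1 = m.hom.fst :=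
      a.toFunctor.map_surjective m.hom.fst
    obtain ⟨m2, hm2⟩ : ∃ m2 : x.obj.snd ⟶ y.obj.snd, b.map m2 = m.hom.snd :=
      b.toFunctor.map_surjective m.hom.snd
    refine ⟨fpHom m1 m2 ?_, fp_ext hm1 hm2⟩
    have h := m.hom.w
    change F.map m.hom.fst ≫ (compApp α y.obj.fst).hom ≫ y.obj.iso.hom ≫
      (compApp β y.obj.snd).inv = ((compApp α x.obj.fst).hom ≫ x.obj.iso.hom ≫
        (compApp β x.obj.snd).inv) ≫ G.map m.hom.snd at h
    rw [← hm1, ← hm2, reassoc_of% (compApp_naturality α m1)] at h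
    simp only [Category.assoc] at h
    rw [← compApp_naturality_inv β m2, cancel_epi] at h
    rw [← Category.assoc, ← Category.assoc, cancel_mono] at h
    exact h⟩
  refine isEquivOver_of_overId _ fun η => ?_
  obtain ⟨x, i, hi⟩ := eqv_exists_overId ha η.obj.fst
  obtain ⟨y, j, hj⟩ := eqv_exists_overId hb η.obj.snd
  let k : F'.obj x ≅ G'.obj y :=
    (compApp α x).symm ≪≫ F.toFunctor.mapIso i ≪≫ η.obj.iso ≪≫ (G.toFunctor.mapIso j).symm ≪≫ compApp β y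
  have hk : OverId k.hom := (OverId.inv (compApp_overId α x)).comp ((hi.map F).comp ((fp_overId η).comp
    ((hj.inv.map G).comp (compApp_overId β y))))
  refine ⟨fpObj x y k hk, fpIsoMk i j ?_, overId_fp _ hi⟩
  change F.map i.hom ≫ η.obj.iso.hom = ((compApp α x).hom ≫ k.hom ≫ (compApp β y).inv) ≫ G.map j.hom
  simp only [k, Iso.trans_hom, Iso.symm_hom, Functor.mapIso_hom, Functor.mapIso_inv, Category.assoc,
    Iso.hom_inv_id_assoc, Iso.inv_hom_id_assoc]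
  erw [← Functor.map_comp, Iso.inv_hom_id, Functor.map_id, Category.comp_id]

/-- Symmetry of the fibre product. -/
def fpSwap : FibCat.fp F G ⥤ᵇ FibCat.fp G F :=
  FibCat.fpLift (FibCat.fpSnd F G) (FibCat.fpFst F G) (FibCat.fpIso F G).symm

theorem fpSwap_isEquivOver : FibCat.IsEquivOver (fpSwap (F := F) (G := G)) :=
  ⟨fpSwap (F := G) (G := F),
    ⟨mkIso2 (fun x => fpIsoMk (Iso.refl _) (Iso.refl _) (by
        change F.map (𝟙 _) ≫ x.obj.iso.hom = x.obj.iso.hom ≫ G.map (𝟙 _)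
        simp))
      (fun x y m => fp_ext (by exact (Category.comp_id _).trans (Category.id_comp _).symm)
        (by exact (Category.comp_id _).trans (Category.id_comp _).symm))
      (fun x => overId_fp _ (overId_id _))⟩,
    ⟨mkIso2 (fun x => fpIsoMk (Iso.refl _) (Iso.refl _) (by
        change G.map (𝟙 _) ≫ x.obj.iso.hom = x.obj.iso.hom ≫ F.map (𝟙 _)
        simp))
      (fun x y m => fp_ext (by exact (Category.comp_id _).trans (Category.id_comp _).symm)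
        (by exact (Category.comp_id _).trans (Category.id_comp _).symm))
      (fun x => overId_fp _ (overId_id _))⟩⟩

/-- The first projection of a base change of an equivalence is an equivalence. -/
theorem fpFst_isEquivOver (hG : FibCat.IsEquivOver G) : FibCat.IsEquivOver (FibCat.fpFst F G) := by
  obtain ⟨_, _⟩ := eqv_fullFaithful hG
  have : (FibCat.fpFst F G).toFunctor.Faithful := ⟨fun {x y m m'} h => fp_ext h
    (G.toFunctor.map_injective (by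
      have h1 := m.hom.w
      have h2 := m'.hom.w
      rw [show m.hom.fst = m'.hom.fst from h] at h1
      exact (cancel_epi x.obj.iso.hom).1 (h1.symm.trans h2)))⟩
  have : (FibCat.fpFst F G).toFunctor.Full := ⟨fun {x y} m => by
    obtain ⟨m2, hm2⟩ := G.toFunctor.map_surjective (x.obj.iso.inv ≫ F.map m ≫ y.obj.iso.hom)
    exact ⟨fpHom m m2 (by rw [hm2, Iso.hom_inv_id_assoc]), rfl⟩⟩
  refine isEquivOver_of_overId _ fun η => ?_
  obtain ⟨y, j, hj⟩ := eqv_exists_overId hG (F.obj η)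
  exact ⟨fpObj η y j.symm hj.inv, Iso.refl _, overId_id _⟩

end Fp

section Paste

variable {𝒳 : BasedCategory.{v₂, u₂} C} {𝒴 : BasedCategory.{v₃, u₃} C} {𝒵 : BasedCategory.{v₄, u₄} C}

/-- Pasting of fibre product squares. -/
def fpPaste {𝒲 : BasedCategory.{v₅, u₅} C} (h : 𝒲 ⥤ᵇ 𝒵) (g : 𝒵 ⥤ᵇ 𝒴) (f : 𝒳 ⥤ᵇ 𝒴) :
    FibCat.fp h (FibCat.fpFst g f) ⥤ᵇ FibCat.fp (BasedFunctor.comp h g) f :=
  FibCat.fpLift (FibCat.fpFst h (FibCat.fpFst g f))
    (BasedFunctor.comp (FibCat.fpSnd h (FibCat.fpFst g f)) (FibCat.fpSnd g f))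
    (mkIso2 (fun x => g.toFunctor.mapIso x.obj.iso ≪≫ x.obj.snd.obj.iso)
      (fun x y m => by
        change g.map (h.map m.hom.fst) ≫ g.map y.obj.iso.hom ≫ y.obj.snd.obj.iso.hom =
          (g.map x.obj.iso.hom ≫ x.obj.snd.obj.iso.hom) ≫ f.map m.hom.snd.hom.snd
        rw [← Functor.map_comp_assoc, m.hom.w, Functor.map_comp_assoc, Category.assoc]
        exact congrArg (fun t => g.map x.obj.iso.hom ≫ t) m.hom.snd.hom.w)
      (fun x => ((fp_overId x).map g).comp (fp_overId x.obj.snd)))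

theorem fpPaste_fst {𝒲 : BasedCategory.{v₅, u₅} C} (h : 𝒲 ⥤ᵇ 𝒵) (g : 𝒵 ⥤ᵇ 𝒴) (f : 𝒳 ⥤ᵇ 𝒴) :
    BasedFunctor.comp (fpPaste h g f) (FibCat.fpFst _ _) = FibCat.fpFst h (FibCat.fpFst g f) := rfl

theorem fpPaste_isEquivOver {𝒲 : BasedCategory.{v₅, u₅} C} (h : 𝒲 ⥤ᵇ 𝒵) (g : 𝒵 ⥤ᵇ 𝒴)
    (f : 𝒳 ⥤ᵇ 𝒴) : FibCat.IsEquivOver (fpPaste h g f) := by
  have : (fpPaste h g f).toFunctor.Faithful := ⟨fun {x y m m'} hm => by
    have h1 : m.hom.fst = m'.hom.fst := congrArg (fun t => t.hom.fst) hm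
    have h2 : m.hom.snd.hom.snd = m'.hom.snd.hom.snd := congrArg (fun t => t.hom.snd) hm
    refine fp_ext h1 (fp_ext ?_ h2)
    have e1 := m.hom.w
    have e2 := m'.hom.w
    rw [h1] at e1
    exact (cancel_epi x.obj.iso.hom).1 (e1.symm.trans e2)⟩
  have : (fpPaste h g f).toFunctor.Full := ⟨fun {x y} m => by
    refine ⟨fpHom m.hom.fst (fpHom (x.obj.iso.inv ≫ h.map m.hom.fst ≫ y.obj.iso.hom) m.hom.snd ?_) ?_,
      fp_ext rfl rfl⟩
    · have hm := m.hom.w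
      change g.map (h.map m.hom.fst) ≫ g.map y.obj.iso.hom ≫ y.obj.snd.obj.iso.hom =
        (g.map x.obj.iso.hom ≫ x.obj.snd.obj.iso.hom) ≫ f.map m.hom.snd at hm
      rw [← cancel_epi (g.map x.obj.iso.hom), ← Functor.map_comp_assoc, Iso.hom_inv_id_assoc,
        Functor.map_comp_assoc, hm, Category.assoc]
    · exact (Iso.hom_inv_id_assoc _ _).symm⟩
  refine isEquivOver_of_overId _ fun η => ?_
  refine ⟨fpObj η.obj.fst (fpObj (h.obj η.obj.fst) η.obj.snd η.obj.iso (fp_overId η)) (Iso.refl _)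
      (overId_id _), fpIsoMk (Iso.refl _) (Iso.refl _) ?_, overId_fp _ (overId_id _)⟩
  change g.map (h.map (𝟙 _)) ≫ η.obj.iso.hom = (g.map (𝟙 _) ≫ η.obj.iso.hom) ≫ f.map (𝟙 _)
  simp

/-- The fibre product with a composite, computed in two steps. -/
def fpComp {𝒲 : BasedCategory.{v₅, u₅} C} (y : 𝒲 ⥤ᵇ 𝒵) (f : 𝒳 ⥤ᵇ 𝒴) (g : 𝒴 ⥤ᵇ 𝒵) :
    FibCat.fp (FibCat.fpSnd y g) f ⥤ᵇ FibCat.fp y (BasedFunctor.comp f g) :=
  FibCat.fpLift (BasedFunctor.comp (FibCat.fpFst (FibCat.fpSnd y g) f) (FibCat.fpFst y g))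
    (FibCat.fpSnd (FibCat.fpSnd y g) f)
    (mkIso2 (fun x => x.obj.fst.obj.iso ≪≫ g.toFunctor.mapIso x.obj.iso)
      (fun x x' m => by
        change y.map m.hom.fst.hom.fst ≫ x'.obj.fst.obj.iso.hom ≫ g.map x'.obj.iso.hom =
          (x.obj.fst.obj.iso.hom ≫ g.map x.obj.iso.hom) ≫ g.map (f.map m.hom.snd)
        rw [reassoc_of% m.hom.fst.hom.w, Category.assoc, ← Functor.map_comp, ← Functor.map_comp]
        exact congrArg (fun t => x.obj.fst.obj.iso.hom ≫ g.map t) m.hom.w)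
      (fun x => (fp_overId x.obj.fst).comp ((fp_overId x).map g)))

theorem fpComp_fst {𝒲 : BasedCategory.{v₅, u₅} C} (y : 𝒲 ⥤ᵇ 𝒵) (f : 𝒳 ⥤ᵇ 𝒴) (g : 𝒴 ⥤ᵇ 𝒵) :
    BasedFunctor.comp (fpComp y f g) (FibCat.fpFst _ _) =
      BasedFunctor.comp (FibCat.fpFst (FibCat.fpSnd y g) f) (FibCat.fpFst y g) := rfl

theorem fpComp_isEquivOver {𝒲 : BasedCategory.{v₅, u₅} C} (y : 𝒲 ⥤ᵇ 𝒵) (f : 𝒳 ⥤ᵇ 𝒴)
    (g : 𝒴 ⥤ᵇ 𝒵) : FibCat.IsEquivOver (fpComp y f g) := by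
  have : (fpComp y f g).toFunctor.Faithful := ⟨fun {x x' m m'} hm => by
    have h1 : m.hom.fst.hom.fst = m'.hom.fst.hom.fst := congrArg (fun t => t.hom.fst) hm
    have h2 : m.hom.snd = m'.hom.snd := congrArg (fun t => t.hom.snd) hm
    refine fp_ext (fp_ext h1 ?_) h2
    have e1 := m.hom.w
    have e2 := m'.hom.w
    rw [h2] at e1
    exact (cancel_mono x'.obj.iso.hom).1 (e1.trans e2.symm)⟩
  have : (fpComp y f g).toFunctor.Full := ⟨fun {x x'} m => by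
    refine ⟨fpHom (fpHom m.hom.fst (x.obj.iso.hom ≫ f.map m.hom.snd ≫ x'.obj.iso.inv) ?_) m.hom.snd ?_,
      fp_ext rfl rfl⟩
    · have hm := m.hom.w
      change y.map m.hom.fst ≫ x'.obj.fst.obj.iso.hom ≫ g.map x'.obj.iso.hom =
        (x.obj.fst.obj.iso.hom ≫ g.map x.obj.iso.hom) ≫ g.map (f.map m.hom.snd) at hm
      rw [← cancel_mono (g.map x'.obj.iso.hom), Category.assoc, hm]
      simp only [Category.assoc, ← Functor.map_comp, Iso.inv_hom_id, Category.comp_id]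
    · change (x.obj.iso.hom ≫ f.map m.hom.snd ≫ x'.obj.iso.inv) ≫ x'.obj.iso.hom = _
      simp⟩
  refine isEquivOver_of_overId _ fun η => ?_
  refine ⟨fpObj (fpObj η.obj.fst (f.obj η.obj.snd) η.obj.iso (fp_overId η)) η.obj.snd (Iso.refl _)
      (overId_id _), fpIsoMk (Iso.refl _) (Iso.refl _) ?_, overId_fp _ (overId_id _)⟩
  change y.map (𝟙 _) ≫ η.obj.iso.hom = (η.obj.iso.hom ≫ g.map (𝟙 _)) ≫ g.map (f.map (𝟙 _))
  simp only [Functor.map_id, Category.id_comp]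
  exact ((Category.comp_id _).trans (Category.comp_id _)).symm

/-- Postcomposing both legs of a fibre product. -/
def fpPost {𝒲 : BasedCategory.{v₅, u₅} C} (y : 𝒲 ⥤ᵇ 𝒵) (f : 𝒳 ⥤ᵇ 𝒵) (b : 𝒵 ⥤ᵇ 𝒴) :
    FibCat.fp y f ⥤ᵇ FibCat.fp (BasedFunctor.comp y b) (BasedFunctor.comp f b) :=
  FibCat.fpLift (FibCat.fpFst y f) (FibCat.fpSnd y f)
    (mkIso2 (fun x => b.toFunctor.mapIso x.obj.iso)
      (fun x x' m => ((b.toFunctor.map_comp _ _).symm.trans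
        ((congrArg b.toFunctor.map m.hom.w).trans (b.toFunctor.map_comp _ _))))
      (fun x => (fp_overId x).map b))

theorem fpPost_isEquivOver {𝒲 : BasedCategory.{v₅, u₅} C} (y : 𝒲 ⥤ᵇ 𝒵) (f : 𝒳 ⥤ᵇ 𝒵) {b : 𝒵 ⥤ᵇ 𝒴}
    (hb : FibCat.IsEquivOver b) : FibCat.IsEquivOver (fpPost y f b) := by
  obtain ⟨_, _⟩ := eqv_fullFaithful hb
  have : (fpPost y f b).toFunctor.Faithful := ⟨fun {x x' m m'} hm =>
    fp_ext (congrArg (fun t : (fpPost y f b).obj x ⟶ (fpPost y f b).obj x' => t.hom.fst) hm)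
      (congrArg (fun t : (fpPost y f b).obj x ⟶ (fpPost y f b).obj x' => t.hom.snd) hm)⟩
  have : (fpPost y f b).toFunctor.Full := ⟨fun {x x'} m =>
    ⟨fpHom m.hom.fst m.hom.snd (b.toFunctor.map_injective
      ((b.toFunctor.map_comp _ _).trans (m.hom.w.trans (b.toFunctor.map_comp _ _).symm))),
      fp_ext rfl rfl⟩⟩
  refine isEquivOver_of_overId _ fun η => ?_
  let i : y.obj η.obj.fst ≅ f.obj η.obj.snd := b.toFunctor.preimageIso η.obj.iso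
  have hbi : b.map i.hom = η.obj.iso.hom := b.toFunctor.map_preimage _
  have hi : OverId i.hom := by
    obtain ⟨e, he⟩ := (fp_overId η).eq
    refine OverId.of_eq ((b.w_obj _).symm.trans (e.trans (b.w_obj _))) ?_
    have h := Functor.congr_hom b.w i.hom
    simp only [Functor.comp_map] at h
    erw [hbi] at h
    rw [he] at h
    have h2 := (eqToHom_comp_iff _ _ _).1 h.symm
    rw [comp_eqToHom_iff] at h2
    simpa using h2
  refine ⟨fpObj η.obj.fst η.obj.snd i hi, fpIsoMk (Iso.refl _) (Iso.refl _) ?_, overId_fp _ (overId_id _)⟩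
  change b.map (y.map (𝟙 _)) ≫ η.obj.iso.hom = b.map i.hom ≫ b.map (f.map (𝟙 _))
  rw [hbi]
  simp

end Paste

end Groth.L24.St
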