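import Groth.Prelude.Def_AlgSt
import Groth.Agent.L24.St.Calc
import Groth.Agent.L09.FibFp
import Mathlib.CategoryTheory.Limits.Types.Pullbacks
import Mathlib.CategoryTheory.Limits.Shapes.Pullback.IsPullback.Basic
import Mathlib.CategoryTheory.Limits.FunctorCategory.Basic

/-!
Functors into the category attached to a presheaf of sets.
-/

set_option autoImplicit false
set_option backward.isDefEq.respectTransparency false
set_option backward.isDefEq.respectTransparency.types false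

universe w v₄ u₄ v₃ u₃ v₂ u₂ v u

open CategoryTheory CategoryTheory.Limits Category Opposite

namespace Groth.L24.St

variable {C : Type u} [Category.{v} C]

section SecAt

variable {F G H : Cᵒᵖ ⥤ Type w} {𝒳 : BasedCategory.{v₂, u₂} C}

theorem map_eqToHom_trans {a b c : C} (h : a = b) (h' : b = c) (s : G.obj (op c)) :
    G.map (eqToHom h).op (G.map (eqToHom h').op s) = G.map (eqToHom (h.trans h')).op s := by
  subst h; subst h'; simp

theorem baseEq (Φ : 𝒳 ⥤ᵇ Stk.ofPsh G) (x : 𝒳.obj) : (Φ.obj x).base = 𝒳.p.obj x := Φ.w_obj x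

/-- The section over `p x` of the presheaf given by a functor at the object `x`. -/
def secAt (Φ : 𝒳 ⥤ᵇ Stk.ofPsh G) (x : 𝒳.obj) : G.obj (op (𝒳.p.obj x)) :=
  G.map (eqToHom (baseEq Φ x).symm).op (Φ.obj x).sec

theorem ofPsh_map_hom (Φ : 𝒳 ⥤ᵇ Stk.ofPsh G) {x y : 𝒳.obj} (φ : x ⟶ y) :
    (Φ.map φ).hom = eqToHom (baseEq Φ x) ≫ 𝒳.p.map φ ≫ eqToHom (baseEq Φ y).symm :=
  Functor.congr_hom Φ.w φ

theorem secAt_natural (Φ : 𝒳 ⥤ᵇ Stk.ofPsh G) {x y : 𝒳.obj} (φ : x ⟶ y) :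
    G.map (𝒳.p.map φ).op (secAt Φ y) = secAt Φ x := by
  have h : (Stk.EltObj.Hom.hom (Φ.map φ)) = _ := ofPsh_map_hom Φ φ
  have hs := (Φ.map φ).map_sec
  rw [h] at hs
  unfold secAt
  rw [← hs, ← Functor.map_comp_apply, ← op_comp, ← Functor.map_comp_apply, ← op_comp]
  simp

/-- Objects of `ofPsh G` over the same object with the same section are isomorphic. -/
@[simps]
def eltIso {a b : Stk.EltObj G} (e : a.base = b.base) (h : G.map (eqToHom e).op b.sec = a.sec) :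
    a ≅ b where
  hom := ⟨eqToHom e, h⟩
  inv := ⟨eqToHom e.symm, by rw [← h, ← Functor.map_comp_apply, ← op_comp]; simp⟩
  hom_inv_id := Stk.EltObj.hom_ext (by simp)
  inv_hom_id := Stk.EltObj.hom_ext (by simp)

theorem eltIso_overId {a b : Stk.EltObj G} (e : a.base = b.base) (h : G.map (eqToHom e).op b.sec = a.sec) :
    OverId (𝒳 := Stk.ofPsh G) (eltIso e h).hom :=
  OverId.of_eq (𝒳 := Stk.ofPsh G) e rfl

theorem secAt_congr {Φ Ψ : 𝒳 ⥤ᵇ Stk.ofPsh G} (e : Φ ≅ Ψ) (x : 𝒳.obj) : secAt Φ x = secAt Ψ x := by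
  obtain ⟨he, hm⟩ : ∃ he : (Φ.obj x).base = (Ψ.obj x).base,
      (Stk.EltObj.forget G).map (e.hom.toNatTrans.app x) = eqToHom he := (overId_app e.hom x).eq
  have hs := (e.hom.toNatTrans.app x).map_sec
  rw [show (e.hom.toNatTrans.app x).hom = eqToHom he from hm] at hs
  unfold secAt
  rw [← hs, map_eqToHom_trans]

/-- Functors into `ofPsh G` with the same sections are 2-isomorphic. -/
def isoOfSecAt {Φ Ψ : 𝒳 ⥤ᵇ Stk.ofPsh G} (h : ∀ x, secAt Φ x = secAt Ψ x) : Φ ≅ Ψ :=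
  mkIso2 (fun x => eltIso ((baseEq Φ x).trans (baseEq Ψ x).symm) (by
      have := congrArg (G.map (eqToHom (baseEq Φ x)).op) (h x)
      simp only [secAt, map_eqToHom_trans] at this
      simpa using this.symm))
    (fun x y φ => Stk.EltObj.hom_ext (by simp [ofPsh_map_hom]))
    (fun x => eltIso_overId _ _)

/-- The map of presheaves determined by a functor between their categories. -/
def pshMapOf (Φ : Stk.ofPsh F ⥤ᵇ Stk.ofPsh G) : F ⟶ G where
  app T := ↾fun s => secAt Φ (⟨T.unop, s⟩ : Stk.EltObj F)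
  naturality T T' g := by
    ext s
    exact (secAt_natural Φ (x := (⟨T'.unop, F.map g s⟩ : Stk.EltObj F)) (y := ⟨T.unop, s⟩)
      ⟨g.unop, rfl⟩).symm

theorem pshMapOf_app (Φ : Stk.ofPsh F ⥤ᵇ Stk.ofPsh G) (x : Stk.EltObj F) :
    (pshMapOf Φ).app (op x.base) x.sec = secAt Φ x := rfl

theorem secAt_comp (Φ : 𝒳 ⥤ᵇ Stk.ofPsh F) (Ψ : Stk.ofPsh F ⥤ᵇ Stk.ofPsh G) (x : 𝒳.obj) :
    secAt (BasedFunctor.comp Φ Ψ) x = (pshMapOf Ψ).app (op (𝒳.p.obj x)) (secAt Φ x) := by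
  unfold secAt
  rw [NatTrans.naturality_apply (φ := pshMapOf Ψ)]
  erw [pshMapOf_app Ψ (Φ.obj x)]
  unfold secAt
  erw [map_eqToHom_trans]
  rfl

theorem pshMapOf_comp (Φ : Stk.ofPsh F ⥤ᵇ Stk.ofPsh G) (Ψ : Stk.ofPsh G ⥤ᵇ Stk.ofPsh H) :
    pshMapOf (BasedFunctor.comp Φ Ψ) = pshMapOf Φ ≫ pshMapOf Ψ := by
  ext T s
  exact secAt_comp Φ Ψ _

theorem pshMapOf_congr {Φ Ψ : Stk.ofPsh F ⥤ᵇ Stk.ofPsh G} (e : Φ ≅ Ψ) : pshMapOf Φ = pshMapOf Ψ := by
  ext T s
  exact secAt_congr e _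

theorem pshMapOf_id : pshMapOf (BasedFunctor.id (Stk.ofPsh F)) = 𝟙 F := by
  ext T s
  show F.map (eqToHom (rfl : T.unop = T.unop)).op s = s
  simp

theorem pshMapOf_ofPshMap (a : F ⟶ G) : pshMapOf (Stk.ofPshMap a) = a := by
  ext T s
  show G.map (eqToHom (rfl : T.unop = T.unop)).op (a.app _ s) = a.app T s
  simp

theorem secAt_ofPshMap_comp (Φ : 𝒳 ⥤ᵇ Stk.ofPsh F) (a : F ⟶ G) (x : 𝒳.obj) :
    secAt (BasedFunctor.comp Φ (Stk.ofPshMap a)) x = a.app _ (secAt Φ x) := by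
  rw [secAt_comp, pshMapOf_ofPshMap]

/-- A functor between categories of presheaves comes from its map of presheaves. -/
def isoOfPshMapOf (Φ : Stk.ofPsh F ⥤ᵇ Stk.ofPsh G) : Φ ≅ Stk.ofPshMap (pshMapOf Φ) :=
  isoOfSecAt fun x => by
    rw [← pshMapOf_app (Stk.ofPshMap (pshMapOf Φ)) x, pshMapOf_ofPshMap]
    rfl

def isoOfPshMapEq {Φ Ψ : Stk.ofPsh F ⥤ᵇ Stk.ofPsh G} (h : pshMapOf Φ = pshMapOf Ψ) : Φ ≅ Ψ :=
  isoOfSecAt fun x => by rw [← pshMapOf_app Φ x, h]; rfl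

theorem isIso_pshMapOf {Φ : Stk.ofPsh F ⥤ᵇ Stk.ofPsh G} (h : FibCat.IsEquivOver Φ) :
    IsIso (pshMapOf Φ) := by
  obtain ⟨Ψ, ⟨e⟩, ⟨e'⟩⟩ := h
  exact ⟨pshMapOf Ψ, by rw [← pshMapOf_comp, pshMapOf_congr e, pshMapOf_id],
    by rw [← pshMapOf_comp, pshMapOf_congr e', pshMapOf_id]⟩

theorem ofPshMap_isEquivOver (a : F ⟶ G) [IsIso a] : FibCat.IsEquivOver (Stk.ofPshMap a) :=
  ⟨Stk.ofPshMap (inv a),
    ⟨isoOfPshMapEq (by rw [pshMapOf_comp, pshMapOf_ofPshMap, pshMapOf_ofPshMap, pshMapOf_id, IsIso.hom_inv_id])⟩,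
    ⟨isoOfPshMapEq (by rw [pshMapOf_comp, pshMapOf_ofPshMap, pshMapOf_ofPshMap, pshMapOf_id, IsIso.inv_hom_id])⟩⟩

theorem ofPsh_faithful (Φ : 𝒳 ⥤ᵇ Stk.ofPsh G) {x y : 𝒳.obj} {φ ψ : x ⟶ y} (h : 𝒳.p.map φ = 𝒳.p.map ψ) :
    Φ.map φ = Φ.map ψ :=
  Stk.EltObj.hom_ext (by rw [ofPsh_map_hom, ofPsh_map_hom, h])

end SecAt

section Pullback

variable {F G H P : Cᵒᵖ ⥤ Type w} {a : F ⟶ H} {b : G ⟶ H} {fst : P ⟶ F} {snd : P ⟶ G}

/-- The comparison from the category of a fibre product of presheaves to the 2-fibre product. -/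
def pshFp (w : fst ≫ a = snd ≫ b) : Stk.ofPsh P ⥤ᵇ FibCat.fp (Stk.ofPshMap a) (Stk.ofPshMap b) :=
  FibCat.fpLift (Stk.ofPshMap fst) (Stk.ofPshMap snd) (isoOfPshMapEq (by
    rw [pshMapOf_comp, pshMapOf_comp, pshMapOf_ofPshMap, pshMapOf_ofPshMap, pshMapOf_ofPshMap,
      pshMapOf_ofPshMap, w]))

theorem pshFp_fst (w : fst ≫ a = snd ≫ b) :
    BasedFunctor.comp (pshFp w) (FibCat.fpFst _ _) = Stk.ofPshMap fst := rfl

theorem pshFp_isEquivOver (sq : IsPullback fst snd a b) : FibCat.IsEquivOver (pshFp sq.w) := by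
  have hP : ∀ (T : Cᵒᵖ), IsPullback (fst.app T) (snd.app T) (a.app T) (b.app T) := fun T => sq.map ((evaluation _ _).obj T)
  have : (pshFp sq.w).toFunctor.Faithful := ⟨fun {x y m m'} h => by
    have h1 : (Stk.ofPshMap fst).map m = (Stk.ofPshMap fst).map m' :=
      congrArg (fun t : (pshFp sq.w).obj x ⟶ (pshFp sq.w).obj y => t.hom.fst) h
    exact Stk.EltObj.hom_ext (congrArg (fun t : (Stk.ofPshMap fst).obj x ⟶ (Stk.ofPshMap fst).obj y => t.hom) h1)⟩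
  have : (pshFp sq.w).toFunctor.Full := ⟨fun {x y} m => by
    obtain ⟨g, hg⟩ : ∃ g : x.base ⟶ y.base, g = m.hom.fst.hom := ⟨_, rfl⟩
    have hm : P.map g.op y.sec = x.sec := by
      refine (Types.ext_of_isPullback (hP (op x.base)) ?_ ?_)
      · rw [NatTrans.naturality_apply (φ := fst)]
        subst hg
        exact m.hom.fst.map_sec
      · rw [NatTrans.naturality_apply (φ := snd)]
        subst hg
        have h1 := L09.Fib.fp_snd_lift (F := Stk.ofPshMap a) (G := Stk.ofPshMap b) m.hom.fst.hom m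
          ((L09.Fib.fp_isHomLift_iff _ m).2 (IsHomLift.map (Stk.EltObj.forget F) m.hom.fst))
        have h2 : m.hom.snd.hom = m.hom.fst.hom :=
          (IsHomLift.eq_of_isHomLift (p := Stk.EltObj.forget G) (a := (pshFp sq.w).obj x |>.obj.snd)
            (b := (pshFp sq.w).obj y |>.obj.snd) m.hom.fst.hom m.hom.snd).symm
        have := m.hom.snd.map_sec
        rw [h2] at this
        exact this
    refine ⟨⟨g, hm⟩, fp_ext (Stk.EltObj.hom_ext hg) (Stk.EltObj.hom_ext (hg.trans ?_))⟩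
    have h1 := L09.Fib.fp_snd_lift (F := Stk.ofPshMap a) (G := Stk.ofPshMap b) m.hom.fst.hom m
      ((L09.Fib.fp_isHomLift_iff _ m).2 (IsHomLift.map (Stk.EltObj.forget F) m.hom.fst))
    exact IsHomLift.eq_of_isHomLift (p := Stk.EltObj.forget G) (a := (pshFp sq.w).obj x |>.obj.snd)
            (b := (pshFp sq.w).obj y |>.obj.snd) m.hom.fst.hom m.hom.snd⟩
  refine isEquivOver_of_overId _ fun η => ?_
  obtain ⟨he, hm⟩ : ∃ he : η.obj.fst.base = η.obj.snd.base,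
      (Stk.EltObj.forget H).map η.obj.iso.hom = eqToHom he := (fp_overId η).eq
  have hsec := η.obj.iso.hom.map_sec
  rw [show η.obj.iso.hom.hom = eqToHom he from hm] at hsec
  let g : G.obj (op η.obj.fst.base) := G.map (eqToHom (C := C) he).op η.obj.snd.sec
  have hcond : a.app _ η.obj.fst.sec = b.app _ g := by
    simp only [g]
    rw [NatTrans.naturality_apply (φ := b)]
    exact hsec.symm
  obtain ⟨s, hs1, hs2⟩ := Types.exists_of_isPullback (hP (op η.obj.fst.base)) η.obj.fst.sec g hcond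
  refine ⟨⟨η.obj.fst.base, s⟩, fpIsoMk
    (eltIso rfl ((FunctorToTypes.map_id_apply F η.obj.fst.sec).trans hs1.symm))
    (eltIso he (by exact hs2.symm)) ?_, overId_fp _ (eltIso_overId _ _)⟩
  apply Stk.EltObj.hom_ext
  show (eqToHom (rfl : η.obj.fst.base = η.obj.fst.base) ≫ η.obj.iso.hom.hom : η.obj.fst.base ⟶ η.obj.snd.base) =
    eqToHom (rfl : η.obj.fst.base = η.obj.fst.base) ≫ eqToHom he
  rw [show η.obj.iso.hom.hom = eqToHom he from hm]

end Pullback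

end Groth.L24.St
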