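import Groth.Agent.L24.St.Calc
import Groth.Agent.L09.FibYoneda
import Groth.Agent.L09.FibSets

/-!
The 2-Yoneda lemma, in terms of components over identities.
-/

set_option autoImplicit false
set_option backward.isDefEq.respectTransparency false
set_option backward.isDefEq.respectTransparency.types false

universe v₃ u₃ v₂ u₂ v u

open CategoryTheory Category

namespace Groth.L24.St

variable {C : Type u} [Category.{v} C] {𝒳 : BasedCategory.{v₂, u₂} C} {U : C}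

theorem overCat_isFibGrpd (U : C) : FibCat.IsFibGrpd (FibCat.overCat U).p :=
  L09.Fib.isFibSet_overForget.1

/-- The identity object of the slice. -/
abbrev idObj (U : C) : (FibCat.overCat U).obj := Over.mk (𝟙 U)

theorem exists_iso_of_evalId (h : FibCat.IsFibGrpd 𝒳.p) {G H : FibCat.overCat U ⥤ᵇ 𝒳}
    (φ : G.obj (idObj U) ≅ H.obj (idObj U)) (hφ : OverId φ.hom) :
    ∃ e : G ≅ H, e.hom.toNatTrans.app (idObj U) = φ.hom := by
  have := L09.Fib.evalAtId_isEquivalence h U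
  let ψ : (FibCat.evalAtId 𝒳 U).obj G ≅ (FibCat.evalAtId 𝒳 U).obj H :=
    ⟨⟨φ.hom, hφ.lift (G.w_obj _)⟩, ⟨φ.inv, hφ.inv.lift (H.w_obj _)⟩,
      Functor.Fiber.hom_ext φ.hom_inv_id, Functor.Fiber.hom_ext φ.inv_hom_id⟩
  refine ⟨(FibCat.evalAtId 𝒳 U).preimageIso ψ, ?_⟩
  exact congrArg Subtype.val ((FibCat.evalAtId 𝒳 U).map_preimage ψ.hom)

theorem exists_overCat_functor (h : FibCat.IsFibGrpd 𝒳.p) (x : 𝒳.obj) (hx : 𝒳.p.obj x = U) :
    ∃ (G : FibCat.overCat U ⥤ᵇ 𝒳) (φ : G.obj (idObj U) ≅ x), OverId φ.hom := by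
  have := L09.Fib.evalAtId_isEquivalence h U
  obtain ⟨G, ⟨i⟩⟩ : ∃ G, Nonempty ((FibCat.evalAtId 𝒳 U).obj G ≅ Functor.Fiber.mk hx) :=
    ⟨_, ⟨(FibCat.evalAtId 𝒳 U).objObjPreimageIso (Functor.Fiber.mk hx)⟩⟩
  exact ⟨G, ⟨i.hom.1, i.inv.1, congrArg Subtype.val i.hom_inv_id, congrArg Subtype.val i.inv_hom_id⟩,
    overId_of_lift i.hom.2⟩

end Groth.L24.St
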