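import Groth.Prelude.Def_AlgSt
import Groth.Agent.L24.St.OfPsh
import Groth.Agent.L24.St.Yoneda
import Groth.Agent.L09.FibFp
import Groth.Agent.L09.FibHom
import Mathlib.CategoryTheory.Sites.IsSheafFor
import Mathlib.CategoryTheory.Sites.SheafOfTypes

/-!
Stacks: categories of sheaves, fibre products, and descent along representable functors.
-/

set_option autoImplicit false
set_option backward.isDefEq.respectTransparency false
set_option backward.isDefEq.respectTransparency.types false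

universe w v₅ u₅ v₄ u₄ v₃ u₃ v₂ u₂ v u

open CategoryTheory CategoryTheory.Limits Category Opposite

namespace Groth.L24.St

variable {C : Type u} [Category.{v} C] {J : GrothendieckTopology C}

section NatTransCalc

variable {𝒳 : BasedCategory.{v₂, u₂} C} {P : Cᵒᵖ ⥤ Type w}

theorem secAt_congr_hom {Φ Ψ : 𝒳 ⥤ᵇ Stk.ofPsh P} (e : Φ ⟶ Ψ) (x : 𝒳.obj) : secAt Φ x = secAt Ψ x := by
  obtain ⟨he, hm⟩ : ∃ he : (Φ.obj x).base = (Ψ.obj x).base,
      (Stk.EltObj.forget P).map (e.toNatTrans.app x) = eqToHom he := (overId_app e x).eq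
  have hs := (e.toNatTrans.app x).map_sec
  rw [show (e.toNatTrans.app x).hom = eqToHom he from hm] at hs
  unfold secAt
  rw [← hs, map_eqToHom_trans]

theorem ofPsh_natTrans_subsingleton {Φ Ψ : 𝒳 ⥤ᵇ Stk.ofPsh P} (a b : Φ ⟶ Ψ) : a = b := by
  apply BasedNatTrans.homCategory.ext
  ext x
  obtain ⟨_, h1⟩ := (overId_app a x).eq
  obtain ⟨_, h2⟩ := (overId_app b x).eq
  exact h1.trans h2.symm

theorem natTrans_app_congr {ℬ : BasedCategory.{v₃, u₃} C} {Φ Ψ : 𝒳 ⥤ᵇ ℬ} {a b : Φ ⟶ Ψ} (h : a = b) (x : 𝒳.obj) :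
    a.toNatTrans.app x = b.toNatTrans.app x := by rw [h]

end NatTransCalc

section OfPsh

variable {P : Cᵒᵖ ⥤ Type w} {U : C}

/-- The functor out of the slice given by a section. -/
def funOfSec (s : P.obj (op U)) : FibCat.overCat U ⥤ᵇ Stk.ofPsh P where
  toFunctor :=
    { obj := fun a => ⟨a.left, P.map a.hom.op s⟩
      map := fun {a b} φ => ⟨φ.left, by
        show P.map φ.left.op (P.map b.hom.op s) = P.map a.hom.op s
        rw [← Functor.map_comp_apply, ← op_comp, Over.w φ]⟩ }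
  w := rfl

theorem secAt_funOfSec (s : P.obj (op U)) (a : Over U) : secAt (funOfSec s) a = P.map a.hom.op s := by
  show P.map (eqToHom (rfl : a.left = a.left)).op (P.map a.hom.op s) = P.map a.hom.op s
  simp

theorem secAt_eq_map_id (Φ : FibCat.overCat U ⥤ᵇ Stk.ofPsh P) (a : Over U) :
    secAt Φ a = P.map a.hom.op (secAt Φ (idObj U)) :=
  (secAt_natural Φ (x := a) (y := idObj U) (L09.Fib.toTerm a)).symm

/-- The family of sections given by a functor out of a sieve. -/
def famOf {R : Sieve U} (G : Stk.sieveCat R ⥤ᵇ Stk.ofPsh P) : Presieve.FamilyOfElements P R.arrows :=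
  fun _ f hf => secAt G ⟨Over.mk f, hf⟩

theorem famOf_compatible {R : Sieve U} (G : Stk.sieveCat R ⥤ᵇ Stk.ofPsh P) : (famOf G).Compatible := by
  rw [Presieve.compatible_iff_sieveCompatible]
  intro Y Z f g hf
  exact (secAt_natural G (x := ⟨Over.mk (g ≫ f), R.downward_closed hf g⟩) (y := ⟨Over.mk f, hf⟩)
    (ObjectProperty.homMk (Over.homMk g rfl))).symm

/-- The functor out of a sieve given by a compatible family. -/
def funOfFam {R : Sieve U} (x : Presieve.FamilyOfElements P R.arrows) (hx : x.Compatible) :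
    Stk.sieveCat R ⥤ᵇ Stk.ofPsh P where
  toFunctor :=
    { obj := fun a => ⟨a.obj.left, x a.obj.hom a.property⟩
      map := fun {a b} φ => ⟨φ.hom.left, by
        have h := (Presieve.compatible_iff_sieveCompatible x).1 hx b.obj.hom φ.hom.left b.property
        refine h.symm.trans ?_
        congr 1
        exact Over.w φ.hom⟩ }
  w := rfl

theorem secAt_funOfFam {R : Sieve U} (x : Presieve.FamilyOfElements P R.arrows) (hx : x.Compatible)
    (a : (Stk.sieveCat R).obj) : secAt (funOfFam x hx) a = x a.obj.hom a.property := by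
  show P.map (eqToHom (rfl : a.obj.left = a.obj.left)).op (x a.obj.hom a.property) = _
  simp

theorem isStackFor_ofPsh_iff {R : Sieve U} :
    Stk.IsStackFor R (Stk.ofPsh P) ↔ Presieve.IsSheafFor P R.arrows := by
  constructor
  · intro h x hx
    have : (Stk.resSieve R (Stk.ofPsh P)).IsEquivalence := h
    obtain ⟨G, ⟨e⟩⟩ : ∃ G, Nonempty ((Stk.resSieve R (Stk.ofPsh P)).obj G ≅ funOfFam x hx) :=
      ⟨_, ⟨(Stk.resSieve R (Stk.ofPsh P)).objObjPreimageIso _⟩⟩
    refine ⟨secAt G (idObj U), fun Y f hf => ?_, fun s hs => ?_⟩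
    · exact (secAt_eq_map_id G (Over.mk f)).symm.trans
        ((secAt_congr e ⟨Over.mk f, hf⟩).trans (secAt_funOfFam x hx ⟨Over.mk f, hf⟩))
    · have e' : (Stk.resSieve R (Stk.ofPsh P)).obj (funOfSec s) ≅ (Stk.resSieve R (Stk.ofPsh P)).obj G :=
        isoOfSecAt (fun a => by
          rw [secAt_congr e a, secAt_funOfFam]
          exact (secAt_funOfSec s a.obj).trans (hs a.obj.hom a.property)) 
      have h1 := secAt_congr ((Stk.resSieve R (Stk.ofPsh P)).preimageIso e') (idObj U)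
      rw [secAt_funOfSec] at h1
      simpa using h1
  · intro h
    have hfaith : (Stk.resSieve R (Stk.ofPsh P)).Faithful := ⟨fun _ => ofPsh_natTrans_subsingleton _ _⟩
    have hfull : (Stk.resSieve R (Stk.ofPsh P)).Full := ⟨fun {Φ Ψ} β => by
      have key : secAt Φ (idObj U) = secAt Ψ (idObj U) := by
        refine h.isSeparatedFor.ext fun Y f hf => ?_
        exact (secAt_eq_map_id Φ (Over.mk f)).symm.trans
          ((secAt_congr_hom β ⟨Over.mk f, hf⟩).trans (secAt_eq_map_id Ψ (Over.mk f)))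
      exact ⟨(isoOfSecAt fun a =>
        (secAt_eq_map_id Φ a).trans ((congrArg _ key).trans (secAt_eq_map_id Ψ a).symm)).hom,
        ofPsh_natTrans_subsingleton _ _⟩⟩
    have hess : (Stk.resSieve R (Stk.ofPsh P)).EssSurj := ⟨fun G => by
      obtain ⟨s, hs, -⟩ := h (famOf G) (famOf_compatible G)
      refine ⟨funOfSec s, ⟨isoOfSecAt fun a => ?_⟩⟩
      exact (secAt_funOfSec s a.obj).trans (hs a.obj.hom a.property)⟩
    exact Functor.IsEquivalence.mk

theorem isStack_ofPsh_iff (P : Cᵒᵖ ⥤ Type w) : Stk.IsStack J (Stk.ofPsh P) ↔ Presieve.IsSheaf J P :=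
  ⟨fun h _ R hR => isStackFor_ofPsh_iff.1 (h.2 R hR),
    fun h => ⟨Stk.isFibGrpd_ofPsh P, fun _ R hR => isStackFor_ofPsh_iff.2 (h R hR)⟩⟩

end OfPsh

section Fp

variable {𝒳 : BasedCategory.{v₂, u₂} C} {𝒴 : BasedCategory.{v₃, u₃} C} {𝒮 : BasedCategory.{v₄, u₄} C}
  {F : 𝒳 ⥤ᵇ 𝒮} {G : 𝒴 ⥤ᵇ 𝒮} {U : C} {R : Sieve U}

theorem isStackFor_fp (h1 : Stk.IsStackFor R 𝒳) (h2 : Stk.IsStackFor R 𝒴) (h3 : Stk.IsPrestackFor R 𝒮) :
    Stk.IsStackFor R (FibCat.fp F G) := by
  have : (Stk.resSieve R 𝒳).IsEquivalence := h1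
  have : (Stk.resSieve R 𝒴).IsEquivalence := h2
  obtain ⟨_, _⟩ := h3
  let p1 := FibCat.fpFst F G
  let p2 := FibCat.fpSnd F G
  have hfaith : (Stk.resSieve R (FibCat.fp F G)).Faithful := ⟨fun {A B a b} h => by
    have e1 : BasedCategory.whiskerRight a p1 = BasedCategory.whiskerRight b p1 :=
      (Stk.resSieve R 𝒳).map_injective (BasedNatTrans.homCategory.ext _ _ (by
        ext x
        exact congrArg (fun m : ((Stk.resSieve R (FibCat.fp F G)).obj A).obj x ⟶
          ((Stk.resSieve R (FibCat.fp F G)).obj B).obj x => m.hom.fst) (natTrans_app_congr h x)))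
    have e2 : BasedCategory.whiskerRight a p2 = BasedCategory.whiskerRight b p2 :=
      (Stk.resSieve R 𝒴).map_injective (BasedNatTrans.homCategory.ext _ _ (by
        ext x
        exact congrArg (fun m : ((Stk.resSieve R (FibCat.fp F G)).obj A).obj x ⟶
          ((Stk.resSieve R (FibCat.fp F G)).obj B).obj x => m.hom.snd) (natTrans_app_congr h x)))
    refine BasedNatTrans.homCategory.ext _ _ (NatTrans.ext (funext fun x => ?_))
    exact fp_ext (natTrans_app_congr e1 x) (natTrans_app_congr e2 x)⟩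
  have hfull : (Stk.resSieve R (FibCat.fp F G)).Full := ⟨fun {A B} β => by
    obtain ⟨α1, hα1⟩ := (Stk.resSieve R 𝒳).map_surjective
      (show (Stk.resSieve R 𝒳).obj (BasedFunctor.comp A p1) ⟶ (Stk.resSieve R 𝒳).obj (BasedFunctor.comp B p1)
        from BasedCategory.whiskerRight β p1)
    obtain ⟨α2, hα2⟩ := (Stk.resSieve R 𝒴).map_surjective
      (show (Stk.resSieve R 𝒴).obj (BasedFunctor.comp A p2) ⟶ (Stk.resSieve R 𝒴).obj (BasedFunctor.comp B p2)
        from BasedCategory.whiskerRight β p2)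
    let Θ1 : BasedFunctor.comp A (BasedFunctor.comp p1 F) ⟶ BasedFunctor.comp B (BasedFunctor.comp p2 G) :=
      BasedCategory.whiskerRight α1 F ≫ BasedCategory.whiskerLeft B (FibCat.fpIso F G).hom
    let Θ2 : BasedFunctor.comp A (BasedFunctor.comp p1 F) ⟶ BasedFunctor.comp B (BasedFunctor.comp p2 G) :=
      BasedCategory.whiskerLeft A (FibCat.fpIso F G).hom ≫ BasedCategory.whiskerRight α2 G
    have hw : Θ1 = Θ2 := (Stk.resSieve R 𝒮).map_injective (BasedNatTrans.homCategory.ext _ _ (by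
      ext x
      show F.map (α1.toNatTrans.app x.obj) ≫ (B.obj x.obj).obj.iso.hom =
        (A.obj x.obj).obj.iso.hom ≫ G.map (α2.toNatTrans.app x.obj)
      rw [show α1.toNatTrans.app x.obj = (β.toNatTrans.app x).hom.fst from natTrans_app_congr hα1 x,
        show α2.toNatTrans.app x.obj = (β.toNatTrans.app x).hom.snd from natTrans_app_congr hα2 x]
      exact (β.toNatTrans.app x).hom.w))
    refine ⟨⟨⟨fun a => fpHom (α1.toNatTrans.app a) (α2.toNatTrans.app a)
      (natTrans_app_congr hw a), fun a b φ => ?_⟩, fun a => ?_⟩, ?_⟩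
    · exact fp_ext (α1.toNatTrans.naturality φ) (α2.toNatTrans.naturality φ)
    · exact (overId_fp _ (overId_app α1 a)).lift (A.w_obj a)
    · refine BasedNatTrans.homCategory.ext _ _ (NatTrans.ext (funext fun x => ?_))
      exact fp_ext (natTrans_app_congr hα1 x) (natTrans_app_congr hα2 x)⟩
  have hess : (Stk.resSieve R (FibCat.fp F G)).EssSurj := ⟨fun K => by
    let X := (Stk.resSieve R 𝒳).objPreimage (BasedFunctor.comp K p1)
    let Y := (Stk.resSieve R 𝒴).objPreimage (BasedFunctor.comp K p2)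
    let a : (Stk.resSieve R 𝒳).obj X ≅ BasedFunctor.comp K p1 := (Stk.resSieve R 𝒳).objObjPreimageIso _
    let b : (Stk.resSieve R 𝒴).obj Y ≅ BasedFunctor.comp K p2 := (Stk.resSieve R 𝒴).objObjPreimageIso _
    let γ : (Stk.resSieve R 𝒮).obj (BasedFunctor.comp X F) ≅ (Stk.resSieve R 𝒮).obj (BasedFunctor.comp Y G) :=
      whiskerR a F ≪≫ whiskerL K (FibCat.fpIso F G) ≪≫ (whiskerR b G).symm
    let e := (Stk.resSieve R 𝒮).preimageIso γ
    have he : ∀ x : (Stk.sieveCat R).obj, e.hom.toNatTrans.app x.obj = γ.hom.toNatTrans.app x := fun x =>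
      natTrans_app_congr ((Stk.resSieve R 𝒮).map_preimage γ.hom) x
    refine ⟨FibCat.fpLift X Y e, ⟨mkIso2 (fun x => fpIsoMk (appIso a x) (appIso b x) ?_) ?_ ?_⟩⟩
    · show F.map (a.hom.toNatTrans.app x) ≫ (K.obj x).obj.iso.hom =
        e.hom.toNatTrans.app x.obj ≫ G.map (b.hom.toNatTrans.app x)
      rw [he]
      show _ = (F.map (a.hom.toNatTrans.app x) ≫ (K.obj x).obj.iso.hom ≫ G.map (b.inv.toNatTrans.app x)) ≫ _
      simp only [Category.assoc, ← G.toFunctor.map_comp]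
      rw [show b.inv.toNatTrans.app x ≫ b.hom.toNatTrans.app x = 𝟙 _ from
        natTrans_app_congr b.inv_hom_id x]
      exact congrArg (fun t => F.map (a.hom.toNatTrans.app x) ≫ t)
        ((congrArg (fun t => (K.obj x).obj.iso.hom ≫ t) (G.toFunctor.map_id _)).trans (Category.comp_id _)).symm
    · intro x y φ
      exact fp_ext (appIso_naturality a φ) (appIso_naturality b φ)
    · intro x
      exact overId_fp _ (overId_app a.hom x)⟩
  exact Functor.IsEquivalence.mk

theorem isStack_fp (h1 : Stk.IsStack J 𝒳) (h2 : Stk.IsStack J 𝒴) (h3 : Stk.IsPrestack J 𝒮) :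
    Stk.IsStack J (FibCat.fp F G) :=
  ⟨L09.Fib.fp_isFibGrpd h1.1 h2.1 h3.1,
    fun _ R hR => isStackFor_fp (h1.2 R hR) (h2.2 R hR) (h3.2 R hR)⟩

end Fp

theorem isPrestack_of_isStack {𝒳 : BasedCategory.{v₂, u₂} C} (h : Stk.IsStack J 𝒳) : Stk.IsPrestack J 𝒳 :=
  ⟨h.1, fun _ R hR => by
    have : (Stk.resSieve R 𝒳).IsEquivalence := h.2 R hR
    exact ⟨inferInstance, inferInstance⟩⟩

section Descent

variable {𝒳 : BasedCategory.{v₂, u₂} C} {𝒴 : BasedCategory.{v₃, u₃} C} {j : 𝒳 ⥤ᵇ 𝒴} {U : C} {R : Sieve U}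

theorem isStackFor_of_fp [j.toFunctor.Faithful] (h𝒴g : FibCat.IsFibGrpd 𝒴.p) (h𝒴 : Stk.IsStackFor R 𝒴)
    (hfp : ∀ y : FibCat.overCat U ⥤ᵇ 𝒴, Stk.IsStackFor R (FibCat.fp y j)) : Stk.IsStackFor R 𝒳 := by
  have : (Stk.resSieve R 𝒴).IsEquivalence := h𝒴
  have hfaith : (Stk.resSieve R 𝒳).Faithful := ⟨fun {A B a b} h => by
    have e1 : BasedCategory.whiskerRight a j = BasedCategory.whiskerRight b j :=
      (Stk.resSieve R 𝒴).map_injective (BasedNatTrans.homCategory.ext _ _ (by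
        ext x
        exact congrArg j.toFunctor.map (natTrans_app_congr h x)))
    apply BasedNatTrans.homCategory.ext
    ext x
    exact j.toFunctor.map_injective (natTrans_app_congr e1 x)⟩
  have hess : (Stk.resSieve R 𝒳).EssSurj := ⟨fun G => by
    let y := (Stk.resSieve R 𝒴).objPreimage (BasedFunctor.comp G j)
    let ε : (Stk.resSieve R 𝒴).obj y ≅ BasedFunctor.comp G j := (Stk.resSieve R 𝒴).objObjPreimageIso _
    have : (Stk.resSieve R (FibCat.fp y j)).IsEquivalence := hfp y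
    let G' : Stk.sieveCat R ⥤ᵇ FibCat.fp y j := FibCat.fpLift (Stk.sieveIncl R) G ε
    let H := (Stk.resSieve R (FibCat.fp y j)).objPreimage G'
    let i : (Stk.resSieve R (FibCat.fp y j)).obj H ≅ G' := (Stk.resSieve R (FibCat.fp y j)).objObjPreimageIso _
    exact ⟨BasedFunctor.comp H (FibCat.fpSnd y j), ⟨whiskerR i (FibCat.fpSnd y j)⟩⟩⟩
  have hfull : (Stk.resSieve R 𝒳).Full := ⟨fun {G H} β => by
    obtain ⟨γ, hγ⟩ := (Stk.resSieve R 𝒴).map_surjective
      (show (Stk.resSieve R 𝒴).obj (BasedFunctor.comp G j) ⟶ (Stk.resSieve R 𝒴).obj (BasedFunctor.comp H j)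
        from BasedCategory.whiskerRight β j)
    have hiso : ∀ a, IsIso (γ.toNatTrans.app a) := fun a => by
      have : 𝒴.p.IsHomLift (𝟙 (𝒴.p.obj ((BasedFunctor.comp G j).obj a))) (γ.toNatTrans.app a) := overId_app γ a
      exact L09.Fib.isIso_of_isFibGrpd _ h𝒴g (𝟙 (𝒴.p.obj ((BasedFunctor.comp G j).obj a))) (γ.toNatTrans.app a)
    let γi : BasedFunctor.comp G j ≅ BasedFunctor.comp H j :=
      mkIso2 (fun a => @asIso _ _ _ _ (γ.toNatTrans.app a) (hiso a))
        (fun a b φ => γ.toNatTrans.naturality φ) (fun a => overId_app γ a)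
    let yH := BasedFunctor.comp H j
    have : (Stk.resSieve R (FibCat.fp yH j)).IsEquivalence := hfp yH
    let A : FibCat.overCat U ⥤ᵇ FibCat.fp yH j := FibCat.fpLift (BasedFunctor.id _) G γi.symm
    let B : FibCat.overCat U ⥤ᵇ FibCat.fp yH j :=
      FibCat.fpLift (BasedFunctor.id _) H
        (show BasedFunctor.comp (BasedFunctor.id _) yH ≅ BasedFunctor.comp H j from Iso.refl _)
    let β' : (Stk.resSieve R (FibCat.fp yH j)).obj A ⟶ (Stk.resSieve R (FibCat.fp yH j)).obj B :=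
      { toNatTrans :=
          { app := fun x => fpHom (𝟙 x.obj) (β.toNatTrans.app x) (by
              show yH.map (𝟙 x.obj) ≫ 𝟙 _ = γi.inv.toNatTrans.app x.obj ≫ j.map (β.toNatTrans.app x)
              rw [CategoryTheory.Functor.map_id,
                show j.map (β.toNatTrans.app x) = γ.toNatTrans.app x.obj from (natTrans_app_congr hγ x).symm]
              exact (Category.comp_id _).trans (natTrans_app_congr γi.inv_hom_id x.obj).symm)
            naturality := fun x x' φ => fp_ext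
              (show φ.hom ≫ 𝟙 _ = 𝟙 _ ≫ φ.hom by simp) (β.toNatTrans.naturality φ) }
        isHomLift' := fun x => (overId_fp _ (overId_id _)).lift rfl }
    obtain ⟨φ, hφ⟩ := (Stk.resSieve R (FibCat.fp yH j)).map_surjective β'
    refine ⟨show G ⟶ H from BasedCategory.whiskerRight φ (FibCat.fpSnd yH j), ?_⟩
    apply BasedNatTrans.homCategory.ext
    ext x
    exact congrArg (fun m : ((Stk.resSieve R (FibCat.fp yH j)).obj A).obj x ⟶
      ((Stk.resSieve R (FibCat.fp yH j)).obj B).obj x => m.hom.snd) (natTrans_app_congr hφ x)⟩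
  exact Functor.IsEquivalence.mk

theorem isStack_of_fp [j.toFunctor.Faithful] (h𝒳 : FibCat.IsFibGrpd 𝒳.p) (h𝒴 : Stk.IsStack J 𝒴)
    (hfp : ∀ (U : C) (y : FibCat.overCat U ⥤ᵇ 𝒴), Stk.IsStack J (FibCat.fp y j)) : Stk.IsStack J 𝒳 :=
  ⟨h𝒳, fun U R hR => isStackFor_of_fp h𝒴.1 (h𝒴.2 R hR) (fun y => (hfp U y).2 R hR)⟩

end Descent

end Groth.L24.St

namespace Groth.L24.St

variable {C : Type u} [Category.{v} C]

/-- The slice `C/U` maps to the category of elements of the representable presheaf. -/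
def overToOfPsh (U : C) : FibCat.overCat U ⥤ᵇ Stk.ofPsh (yoneda.obj U) where
  toFunctor :=
    { obj := fun a => ⟨a.left, a.hom⟩
      map := fun {a b} φ => ⟨φ.left, Over.w φ⟩ }
  w := rfl

theorem overToOfPsh_isEquivOver (U : C) : FibCat.IsEquivOver (overToOfPsh U) := by
  have hF : (overToOfPsh U).toFunctor.Faithful := ⟨fun {a b f g} h => Over.OverMorphism.ext
    (congrArg Stk.EltObj.Hom.hom h)⟩
  have hU : (overToOfPsh U).toFunctor.Full := ⟨fun {a b} m =>
    ⟨Over.homMk (show a.left ⟶ b.left from m.hom) m.map_sec, rfl⟩⟩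
  refine L09.Fib.isEquivOver_mk _ (fun η => ⟨Over.mk (show η.base ⟶ U from η.sec), Iso.refl _, ?_⟩)
  exact IsHomLift.id (show ((Stk.ofPsh (yoneda.obj U)).p.obj _ = _) from rfl)

theorem isStack_overCat_iff (J : GrothendieckTopology C) (U : C) :
    Stk.IsStack J (FibCat.overCat U) ↔ Presieve.IsSheaf J (yoneda.obj U) :=
  (L09.Fib.isStack_iff J (overToOfPsh_isEquivOver U)).trans (isStack_ofPsh_iff _)

end Groth.L24.St

namespace Groth.L24.St

variable {C : Type u} [Category.{v} C] {𝒳 : BasedCategory.{v₂, u₂} C} {𝒴 : BasedCategory.{v₃, u₃} C}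
  {𝒮 : BasedCategory.{v₄, u₄} C} {F : 𝒳 ⥤ᵇ 𝒮} {G : 𝒴 ⥤ᵇ 𝒮}

theorem fp_fst_lift {x y : (FibCat.fp F G).obj} {R S : C} (f : R ⟶ S) (m : x ⟶ y)
    (h : (FibCat.fp F G).p.IsHomLift f m) : 𝒳.p.IsHomLift f m.hom.fst :=
  IsHomLift.of_fac' 𝒳.p f m.hom.fst
    (@IsHomLift.domain_eq _ _ _ _ (FibCat.fp F G).p _ _ _ _ f m h)
    (@IsHomLift.codomain_eq _ _ _ _ (FibCat.fp F G).p _ _ _ _ f m h)
    (@IsHomLift.fac' _ _ _ _ (FibCat.fp F G).p _ _ _ _ f m h)

end Groth.L24.St
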