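import Groth.Prelude.Def_AlgSt2
import Groth.Agent.L24.St.Stack
import Groth.Agent.L24.St.Fibrewise

/-!
Stacks for the fppf topology on schemes over `S`: algebraic spaces, schemes, sources of representable morphisms.
-/

set_option autoImplicit false
set_option backward.isDefEq.respectTransparency false
set_option backward.isDefEq.respectTransparency.types false

universe v₃ u₃ v₂ u₂ u

open CategoryTheory CategoryTheory.Limits AlgebraicGeometry Opposite

namespace Groth.L24.St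

variable {S : Scheme.{u}} {𝒳 : BasedCategory.{v₂, u₂} (Over S)} {𝒴 : BasedCategory.{v₃, u₃} (Over S)}

theorem isStack_ofSp (F : AlgSp.Sp S) : Stk.IsStack (AlgSp.J S) (AlgSt.ofSp F) :=
  (isStack_ofPsh_iff F.obj).2 ((isSheaf_iff_isSheaf_of_type _ _).1 F.property)

theorem isStack_of_repByAlgSp (h : AlgSt.RepByAlgSp 𝒳) : Stk.IsStack (AlgSp.J S) 𝒳 := by
  obtain ⟨F, e, he⟩ := h
  exact (L09.Fib.isStack_iff _ he).1 (isStack_ofSp F.obj)

theorem isStack_overCat (U : Over S) : Stk.IsStack (AlgSp.J S) (FibCat.overCat U) :=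
  (isStack_overCat_iff _ U).2 (GrothendieckTopology.Subcanonical.isSheaf_of_isRepresentable (J := AlgSp.J S) _)

theorem isStack_of_rep1 (h𝒳 : FibCat.IsFibGrpd 𝒳.p) (h𝒴 : Stk.IsStack (AlgSp.J S) 𝒴) (j : 𝒳 ⥤ᵇ 𝒴)
    (hj : AlgSt.RepByAlgSp1 j) : Stk.IsStack (AlgSp.J S) 𝒳 := by
  have := faithful_of_rep1 h𝒳 h𝒴.1 j hj
  exact isStack_of_fp h𝒳 h𝒴 (fun U y => isStack_of_repByAlgSp (hj U y))

end Groth.L24.St
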