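import Groth.Agent.L24.St.DiagCover

/-!
The diagonal of a functor of algebraic stacks is locally of finite type.
-/

set_option autoImplicit false
set_option backward.isDefEq.respectTransparency false
set_option backward.isDefEq.respectTransparency.types false

universe u

open CategoryTheory CategoryTheory.Limits AlgebraicGeometry Opposite AlgSt

noncomputable section

namespace Groth.L24.St

variable {S : Scheme.{u}} {𝒳 𝒴 𝒵 : AlgSt.Cat S}

/-- The map to the self product as a change of both legs. -/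
def cmpMapIso (f : 𝒳 ⥤ᵇ 𝒵) (g : 𝒴 ⥤ᵇ 𝒵) {𝒯 : AlgSt.Cat S} (t : 𝒵 ⥤ᵇ 𝒯) :
    (fpMap (F := t) (G := t) f g (Iso.refl (BasedFunctor.comp f t)) (Iso.refl (BasedFunctor.comp g t))) ≅
      cmpMap f g t :=
  mkIso2 (fun x => fpIsoMk (Iso.refl _) (Iso.refl _) (by
      show t.map (𝟙 _) ≫ x.obj.iso.hom = (𝟙 _ ≫ x.obj.iso.hom ≫ 𝟙 _) ≫ t.map (𝟙 _)
      simp
      exact (Category.comp_id _).symm))
    (fun x y m => fp_ext (show f.map m.hom.fst ≫ 𝟙 _ = 𝟙 _ ≫ f.map m.hom.fst by simp)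
      (show g.map m.hom.snd ≫ 𝟙 _ = 𝟙 _ ≫ g.map m.hom.snd by simp))
    (fun x => overId_fp _ (overId_id _))

/-- A property of schemes with cancellation passes from an fppf cover by a space to the absolute diagonal. -/
theorem diag_toSelf_locP_of_cover {R : MorphismProperty Scheme.{u}} (hR : Groth.L23.EtLocal R)
    (hpost : ∀ {A B C : Scheme.{u}} (φ : A ⟶ B) (ψ : B ⟶ C), R (φ ≫ ψ) → R φ)
    (h𝒳 : IsAlgStack Scheme.fppfPrecoverage 𝒳) {𝒲 : AlgSt.Cat S} (hW : FibCat.IsFibGrpd 𝒲.p)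
    (hWr : RepByAlgSp 𝒲) {x : 𝒲 ⥤ᵇ 𝒳} (hx₁ : RepByAlgSpWith (AlgSp.LocP @Flat) x)
    (hx₂ : RepByAlgSpWith (AlgSp.LocP @LocallyOfFinitePresentation) x)
    (hx₃ : RepByAlgSpWith AlgSp.IsSurjectiveMor x) (hx : RepByAlgSpWith (AlgSp.LocP R) x) :
    RepByAlgSpWith (AlgSp.LocP R) (FibCat.diag (FibCat.toSelf 𝒳)) := by
  have hS : FibCat.IsFibGrpd (FibCat.selfOver (Over S)).p := (L09.Fib.isFibSet_id _).1
  have h1 := h𝒳.isStack.1
  let t := FibCat.toSelf 𝒳
  have hz : ∀ {Q : MorphismProperty Scheme.{u}}, Groth.L23.EtLocal Q →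
      RepByAlgSpWith (AlgSp.LocP Q) x → RepByAlgSpWith (AlgSp.LocP Q) (cmpMap x x t) := fun hQ h =>
    (repWith_congr (cmpMapIso x x t)).1 (fpMap_repWith hasAtlasCovers_atlasCov
      (pBase_locP hQ) (pComp_locP hQ) (isLocalOnBase_locP hQ) hW h1 hW hS h h)
  have hzf := hz Groth.L23.etLocal_flat hx₁
  have hzs : RepByAlgSpWith AlgSp.IsSurjectiveMor (cmpMap x x t) :=
    (repWith_congr (cmpMapIso x x t)).1 (repWith_surjective_of_isSurjective (L09.Fib.fp_isFibGrpd hW hW hS)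
      (L09.Fib.fp_isFibGrpd h1 h1 hS) (repWith_rep1 ((repWith_congr (cmpMapIso x x t)).2 hzf))
      (isSurjective_legs h1 hW h1 hW hS x x _ _ (isSurjective_of_repWith hW h1 hx₃)
        (isSurjective_of_repWith hW h1 hx₃)))
  refine repWith_of_fpFst_cover hasAtlasCovers_fppf (pBase_locP hR)
    (isLocalOnBase_locP_fppf hR) (fun _ _ _ h => h) h1 (L09.Fib.fp_isFibGrpd h1 h1 hS)
    (L09.Fib.fp_isFibGrpd hW hW hS) h𝒳.diag hzf (hz Groth.L23.etLocal_lfp hx₂) hzs ?_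
  have hx' : RepByAlgSp1 (BasedFunctor.comp x t) :=
    rep1_of_repByAlgSp hWr selfOver_repByAlgSp _
  have h2 : RepByAlgSpWith (AlgSp.LocP R) (fpPost x x t) := by
    refine repWith_of_comp_of (pBase_locP hR)
      (fun _ _ _ hX hY hZ _ _ _ h => Groth.L23.locP_of_comp hR hpost hX hY hZ h)
      (b := FibCat.fpFst (BasedFunctor.comp x t) (BasedFunctor.comp x t))
      (repWith_fpFst _ ((rep1_iff _).1 hx')) ?_
    exact repWith_fpFst x hx
  rw [← cmpLift_fst x x t] at h2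
  exact (repWith_precomp (cmpLift_isEquivOver x x t) _).1 h2

/-- The absolute diagonal of an algebraic stack is locally of finite type. -/
theorem diag_toSelf_lft (h𝒳 : IsAlgStack Scheme.fppfPrecoverage 𝒳) :
    RepByAlgSpWith (AlgSp.LocP @LocallyOfFiniteType) (FibCat.diag (FibCat.toSelf 𝒳)) := by
  obtain ⟨U, x, hx, hxs⟩ := h𝒳.atlas
  exact diag_toSelf_locP_of_cover Groth.L23.etLocal_lft
    (fun φ ψ h => have := h; locallyOfFiniteType_of_comp φ ψ) h𝒳 (overCat_isFibGrpd U) (overCat_repByAlgSp U)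
    (repWith_mono (fun _ _ _ _ h => Groth.L23.locP_mono (fun φ (hφ : Smooth φ) => have := hφ; (inferInstance : Flat φ)) h) hx)
    (repWith_mono (fun _ _ _ _ h => Groth.L23.locP_mono
      (fun φ (hφ : Smooth φ) => have := hφ; (inferInstance : LocallyOfFinitePresentation φ)) h) hx) hxs
    (repWith_mono (fun _ _ _ _ h => Groth.L23.locP_mono
      (fun φ (hφ : Smooth φ) => have := hφ; (inferInstance : LocallyOfFiniteType φ)) h) hx)

theorem diag_lft (h𝒳 : IsAlgStack Scheme.fppfPrecoverage 𝒳) (h𝒴 : IsAlgStack Scheme.fppfPrecoverage 𝒴)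
    (f : 𝒳 ⥤ᵇ 𝒴) : RepByAlgSpWith (AlgSp.LocP @LocallyOfFiniteType) (FibCat.diag f) :=
  diag_locP_of_comp (g := FibCat.toSelf 𝒴) Groth.L23.etLocal_lft
    (fun φ ψ h => have := h; locallyOfFiniteType_of_comp φ ψ) h𝒴.diag
    ((diag_toSelf_comp_iff f).1 (diag_toSelf_lft h𝒳))

end Groth.L24.St
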