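import Groth.Agent.L24.St.QcSep
import Groth.Agent.L24.St.DiagLft

/-!
Separation axioms of functors representable by algebraic spaces, read on the diagonal.
-/

set_option autoImplicit false
set_option backward.isDefEq.respectTransparency false
set_option backward.isDefEq.respectTransparency.types false

universe u

open CategoryTheory CategoryTheory.Limits AlgebraicGeometry Opposite AlgSt

noncomputable section

namespace Groth.L24.St

variable {S : Scheme.{u}} {𝒳 𝒴 : AlgSt.Cat S} {P Q : MorphismProperty (AlgSp.Sp S)}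

theorem descends_of_local (hL : AlgSp.IsLocalOnBase AlgSp.IsFppfCover P) : Descends P := by
  intro V G a hV hG h
  obtain ⟨U, p, hp, hp'⟩ := hG.atlas
  exact (hL (fun _ : PUnit => (AlgSp.yon S).obj U) (fun _ => p) hG (fun _ => AlgSp.IsAlgSpace.yon_obj U)
    (atlas_isFppfCover hp hp') a hV (fun _ => pullback a p) (fun _ => pullback.snd a p)
    (fun _ => pullback.fst a p) (fun _ => isAlgSpace_pullback hV (AlgSp.IsAlgSpace.yon_obj U) hG a p)
    (fun _ => IsPullback.of_hasPullback a p)).2 fun _ => h U p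

theorem pBase_univClosed : PBase (AlgSp.IsUnivClosedMor : MorphismProperty (AlgSp.Sp S)) :=
  fun _ _ _ _ _ _ _ _ _ _ _ _ sq h => Groth.L23.univSp_of_isPullback sq h

/-- The diagonal of a representable functor is read on the diagonals of the representing spaces. -/
theorem diag_repWith_iff_rep1 (hB : PBase P) (hD : Descends P) {f : 𝒳 ⥤ᵇ 𝒴} (hf : RepByAlgSp1 f) :
    RepByAlgSpWith P (FibCat.diag f) ↔ RepByAlgSpWith (fun _ _ a => P (pullback.diagonal a)) f := by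
  have key : ∀ (U : Over S) (y : FibCat.overCat U ⥤ᵇ 𝒴) (F : AlgSp.Space S)
      (e : ofSp F.obj ⥤ᵇ FibCat.fp y f), FibCat.IsEquivOver e →
      (RepByAlgSpWith P (FibCat.diag (FibCat.fpFst y f)) ↔
        P (pullback.diagonal (spMapOfOver (BasedFunctor.comp e (FibCat.fpFst y f))))) := by
    intro U y F e he
    let g0 : AlgSt.ofSp F.obj ⥤ᵇ AlgSt.ofSch U :=
      BasedFunctor.comp (BasedFunctor.comp e (FibCat.fpFst y f)) (AlgSt.ofOverCat U)
    refine (diag_repWith_square he (toOverCat_isEquivOver U)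
      (show BasedFunctor.comp (AlgSt.ofSpMap (spMap g0)) (AlgSt.toOverCat U) ≅
          BasedFunctor.comp e (FibCat.fpFst y f) from
        whiskerR (isoOfSpMap g0).symm (AlgSt.toOverCat U))).trans ?_
    refine (diag_repWith_ofSpMap _).trans ?_
    have hD' := isAlgSpace_pullback F.property F.property (AlgSp.IsAlgSpace.yon_obj U) (spMap g0) (spMap g0)
    exact ⟨fun h => hD _ F.property hD' (prop_snd_of_repWith hB F.property hD' _ h),
      fun h => repWith_ofSpMap_of_prop hB F.property hD' _ h⟩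
  refine (diag_repWith_iff_forall_overCat f).trans ⟨fun h U y => ?_, fun h U y => ?_⟩
  · obtain ⟨F, e, he⟩ := hf U y
    exact ⟨F, e, he, (key U y F e he).1 (h U y)⟩
  · obtain ⟨F, e, he, hP⟩ := h U y
    exact (key U y F e he).2 hP

theorem repWith_inf (hQ : PBase Q) {f : 𝒳 ⥤ᵇ 𝒴} (hP : RepByAlgSpWith P f) (hQf : RepByAlgSpWith Q f) :
    RepByAlgSpWith (P ⊓ Q) f := fun U y => by
  obtain ⟨F, e, he, h1⟩ := hP U y
  exact ⟨F, e, he, h1, Wit.prop_of_equiv
    (fun F F' hF hF' i hi b hb => hQ.iso_left hF hF' (AlgSp.IsAlgSpace.yon_obj U) i hb) (hQf U y) F.property e he⟩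

/-- The diagonal of a representable functor has representable witnesses. -/
theorem diag_space_iff {R R' : MorphismProperty (AlgSp.Sp S)}
    (h : ∀ ⦃V : AlgSp.Sp S⦄ ⦃G : AlgSp.Sp S⦄ (a : V ⟶ G), AlgSp.IsAlgSpace V → AlgSp.IsAlgSpace G → R a → R' a)
    {f : 𝒳 ⥤ᵇ 𝒴} (hf : RepByAlgSpWith R f) : RepByAlgSpWith R' f := fun U y => by
  obtain ⟨F, e, he, ha⟩ := hf U y
  exact ⟨F, e, he, h _ F.property (AlgSp.IsAlgSpace.yon_obj U) ha⟩

theorem rep_qsMor_iff {f : 𝒳 ⥤ᵇ 𝒴} (hf : RepByAlgSp1 f) :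
    RepByAlgSpWith AlgSp.IsQuasiSeparatedMor f ↔ RepByAlgSpWith AlgSp.IsQuasiCompactMor (FibCat.diag f) := by
  rw [diag_repWith_iff_rep1 pBase_qcMor (descends_of_local Groth.L24.Alg.isLocalOnBase_fppf_qcMor) hf]
  exact ⟨fun h => diag_space_iff (fun _ _ a _ _ ha => Groth.L23.isQuasiCompactMor_of_repWith ha) h,
    fun h => diag_space_iff (fun _ _ a hV _ ha => Groth.L23.repWith_quasiCompact_of_isQuasiCompactMor
      (Groth.L23.diagonal_properties hV a).1 ha) h⟩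

theorem rep_sepMor_iff {f : 𝒳 ⥤ᵇ 𝒴} (hf : RepByAlgSp1 f) :
    RepByAlgSpWith AlgSp.IsSeparatedMor f ↔ IsClosedImm (FibCat.diag f) :=
  (diag_repWith_iff_rep1 (pBase_repWith _) (descends_repWith _) hf).symm

theorem rep_sepMor_iff_univClosed {f : 𝒳 ⥤ᵇ 𝒴} (hf : RepByAlgSp1 f) :
    RepByAlgSpWith AlgSp.IsSeparatedMor f ↔ RepByAlgSpWith AlgSp.IsUnivClosedMor (FibCat.diag f) := by
  rw [diag_repWith_iff_rep1 pBase_univClosed (descends_of_local Groth.L24.Alg.isLocalOnBase_fppf_univClosed) hf]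
  exact ⟨fun h => diag_space_iff (fun _ _ a hV _ ha => (Groth.L23.isSeparatedMor_iff_univClosed hV a).1 ha) h,
    fun h => diag_space_iff (fun _ _ a hV _ ha => (Groth.L23.isSeparatedMor_iff_univClosed hV a).2 ha) h⟩

theorem tfae_separated {f : 𝒳 ⥤ᵇ 𝒴} (hf : RepByAlgSp1 f) :
    [RepByAlgSpWith AlgSp.IsSeparatedMor f, IsClosedImm (FibCat.diag f),
      IsSeparatedMor f, RepByAlgSpWith AlgSp.IsUnivClosedMor (FibCat.diag f)].TFAE := by
  tfae_have 1 ↔ 2 := rep_sepMor_iff hf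
  tfae_have 2 → 3 := fun h => repWith_mono (fun _ _ _ _ hi => Groth.L23.isProperMor_of_repWith
    (Groth.L23.repWith_mono (fun φ (_ : IsClosedImmersion φ) => by infer_instance) hi)) h
  tfae_have 3 → 4 := fun h => repWith_mono (fun _ _ _ _ hp => hp.2.2) h
  tfae_have 4 → 1 := (rep_sepMor_iff_univClosed hf).2
  tfae_finish

theorem tfae_quasiSeparated (h𝒳 : IsAlgStack Scheme.fppfPrecoverage 𝒳)
    (h𝒴 : IsAlgStack Scheme.fppfPrecoverage 𝒴) {f : 𝒳 ⥤ᵇ 𝒴} (hf : RepByAlgSp1 f) :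
    [RepByAlgSpWith AlgSp.IsQuasiSeparatedMor f,
      RepByAlgSpWith AlgSp.IsQuasiCompactMor (FibCat.diag f),
      RepByAlgSpWith AlgSp.IsFiniteTypeMor (FibCat.diag f)].TFAE := by
  tfae_have 1 ↔ 2 := rep_qsMor_iff hf
  tfae_have 2 → 3 := fun h => repWith_inf pBase_qcMor (diag_lft h𝒳 h𝒴 f) h
  tfae_have 3 → 2 := fun h => repWith_mono (fun _ _ _ _ hp => hp.2) h
  tfae_finish

theorem isQuasiSeparatedMor_iff_rep {f : 𝒳 ⥤ᵇ 𝒴} (hf : RepByAlgSp1 f) :
    IsQuasiSeparatedMor f ↔ RepByAlgSpWith AlgSp.IsQuasiSeparatedMor f := by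
  rw [rep_qsMor_iff hf]
  exact ⟨fun h => repWith_mono (fun _ _ _ _ hp => hp.1) h, fun h => repWith_inf pBase_qsMor h
    (repWith_mono (fun _ _ _ _ hs =>
      Groth.L23.repWith_mono (fun φ (_ : IsClosedImmersion φ) => by infer_instance) hs) (separatedDiag_of_rep1 hf))⟩

theorem isQuasiSeparatedMor_iff_diag_diag (h𝒳 : IsAlgStack Scheme.fppfPrecoverage 𝒳)
    (h𝒴 : IsAlgStack Scheme.fppfPrecoverage 𝒴) (f : 𝒳 ⥤ᵇ 𝒴) :
    IsQuasiSeparatedMor f ↔ RepByAlgSpWith AlgSp.IsQuasiCompactMor (FibCat.diag f) ∧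
      RepByAlgSpWith AlgSp.IsQuasiCompactMor (FibCat.diag (FibCat.diag f)) := by
  have hΔ := diag_rep1_alg h𝒳 h𝒴 f
  rw [← rep_qsMor_iff hΔ]
  exact ⟨fun h => ⟨repWith_mono (fun _ _ _ _ hp => hp.1) h, repWith_mono (fun _ _ _ _ hp => hp.2) h⟩,
    fun h => repWith_inf pBase_qsMor h.1 h.2⟩

theorem isSeparatedMor_of_univClosed (h𝒳 : IsAlgStack Scheme.fppfPrecoverage 𝒳)
    (h𝒴 : IsAlgStack Scheme.fppfPrecoverage 𝒴) {f : 𝒳 ⥤ᵇ 𝒴}
    (h₁ : RepByAlgSpWith AlgSp.IsUnivClosedMor (FibCat.diag f))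
    (h₂ : RepByAlgSpWith AlgSp.IsUnivClosedMor (FibCat.diag (FibCat.diag f))) : IsSeparatedMor f := by
  have h := repWith_inf pBase_univClosed (repWith_inf (pBase_locP Groth.L23.etLocal_lft)
    ((rep_sepMor_iff_univClosed (diag_rep1_alg h𝒳 h𝒴 f)).2 h₂) (diag_lft h𝒳 h𝒴 f)) h₁
  exact diag_space_iff (fun _ _ a hV hG ha =>
    ⟨ha.1.1, ⟨ha.1.2, Groth.L23.isQuasiCompactMor_of_isUnivClosedMor hV hG ha.2⟩, ha.2⟩) h

end Groth.L24.St
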