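import Groth.Agent.L09.FibFp
import Groth.Agent.L24.St.DiagSep
import Groth.Prelude.Def_W4stkcategoriessitesFib

/-!
The inertia as a fibre product of diagonals, with its neutral section; separation of the inertia.
-/

set_option autoImplicit false
set_option backward.isDefEq.respectTransparency false
set_option backward.isDefEq.respectTransparency.types false

universe v u

open CategoryTheory CategoryTheory.Category CategoryTheory.Functor CategoryTheory.Limits FibCat Groth.L09.Fib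

namespace Groth.L24.St

section Equiv

variable {C : Type u} [Category.{v} C] {𝒳 𝒴 : BasedCategory.{v, max u v} C} (F : 𝒳 ⥤ᵇ 𝒴)

theorem inertia_aut_lift (z : (FibCat.inertia F).obj) : 𝒳.p.IsHomLift (𝟙 (𝒳.p.obj z.pt)) z.aut.hom := by
  rw [← BasedFunctor.isHomLift_iff F, z.map_aut]
  exact IsHomLift.id (F.w_obj z.pt)

/-- The inertia maps to the fibre product of two diagonals by `(x, α) ↦ (x, x, (α, 1))`. -/
def inertiaE : FibCat.inertia F ⥤ᵇ FibCat.fp (FibCat.diag F) (FibCat.diag F) where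
  toFunctor :=
    { obj := fun z => ⟨⟨z.pt, z.pt, ObjectProperty.isoMk _ (CategoricalPullback.mkIso z.aut (Iso.refl z.pt) (by
        show F.map z.aut.hom ≫ 𝟙 _ = 𝟙 _ ≫ F.map (𝟙 z.pt)
        rw [z.map_aut, F.toFunctor.map_id]))⟩, (fp_isHomLift_iff _ _).2 (inertia_aut_lift F z)⟩
      map := fun f => ObjectProperty.homMk ⟨f.hom, f.hom, ObjectProperty.hom_ext _
        (CategoricalPullback.hom_ext f.comm.symm ((comp_id _).trans (id_comp _).symm))⟩
      map_id := fun z => ObjectProperty.hom_ext _ (CategoricalPullback.hom_ext rfl rfl)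
      map_comp := fun f g => ObjectProperty.hom_ext _ (CategoricalPullback.hom_ext rfl rfl) }
  w := rfl

theorem inertiaE_isEquivOver [𝒳.p.IsFibered] [𝒴.p.IsFibered] (hF : FibCat.PreservesStronglyCartesian F) :
    FibCat.IsEquivOver (inertiaE F) := by
  let E := inertiaE F
  have : E.toFunctor.Faithful := ⟨fun {z w f g} h =>
    FibCat.InertiaObj.hom_ext (congrArg (fun k => k.hom.fst) h)⟩
  have : E.toFunctor.Full := ⟨fun {z w} m => by
    have e2 : m.hom.fst = m.hom.snd := by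
      have := congrArg (fun k => k.hom.snd) m.hom.w
      exact (comp_id _).symm.trans (this.trans (id_comp _))
    have e1 : m.hom.fst ≫ w.aut.hom = z.aut.hom ≫ m.hom.snd := congrArg (fun k => k.hom.fst) m.hom.w
    rw [← e2] at e1
    exact ⟨⟨m.hom.fst, e1.symm⟩, ObjectProperty.hom_ext _ (CategoricalPullback.hom_ext rfl e2)⟩⟩
  refine Groth.L09.Fib.isEquivOver_mk E fun η => ?_
  have hl := fp_iso_lift η (U := 𝒳.p.obj η.obj.fst) rfl
  have : 𝒳.p.IsHomLift (𝟙 (𝒳.p.obj η.obj.fst)) η.obj.iso.hom.hom.fst := (fp_isHomLift_iff _ _).1 hl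
  have : 𝒳.p.IsHomLift (𝟙 (𝒳.p.obj η.obj.fst)) η.obj.iso.hom.hom.snd := fp_snd_lift _ _ hl
  let σ : η.obj.fst ≅ η.obj.snd :=
    ⟨η.obj.iso.hom.hom.fst, η.obj.iso.inv.hom.fst, congrArg (fun k => k.hom.fst) η.obj.iso.hom_inv_id,
      congrArg (fun k => k.hom.fst) η.obj.iso.inv_hom_id⟩
  let τ : η.obj.fst ≅ η.obj.snd :=
    ⟨η.obj.iso.hom.hom.snd, η.obj.iso.inv.hom.snd, congrArg (fun k => k.hom.snd) η.obj.iso.hom_inv_id,
      congrArg (fun k => k.hom.snd) η.obj.iso.inv_hom_id⟩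
  have w : F.map σ.hom = F.map τ.hom :=
    (comp_id _).symm.trans (η.obj.iso.hom.hom.w.trans (id_comp _))
  let z : (FibCat.inertia F).obj := ⟨η.obj.fst, σ ≪≫ τ.symm, by
    show F.map (σ.hom ≫ τ.inv) = _
    rw [Functor.map_comp, w, ← Functor.map_comp, Iso.hom_inv_id, F.toFunctor.map_id]⟩
  let e : E.obj z ≅ η := ObjectProperty.isoMk _ (CategoricalPullback.mkIso (Iso.refl _) τ
    (ObjectProperty.hom_ext _ (CategoricalPullback.hom_ext
      (show 𝟙 _ ≫ σ.hom = (σ.hom ≫ τ.inv) ≫ τ.hom by simp)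
      (show 𝟙 _ ≫ τ.hom = 𝟙 _ ≫ τ.hom from rfl))))
  exact ⟨z, e, (Groth.L09.Fib.fp_isHomLift_iff _ _).2 (IsHomLift.id rfl : 𝒳.p.IsHomLift (𝟙 (𝒳.p.obj η.obj.fst)) (𝟙 η.obj.fst))⟩

/-- The neutral section is the diagonal of the diagonal. -/
def inertiaNeutralIso :
    BasedFunctor.comp (FibCat.inertiaNeutral F) (inertiaE F) ≅ FibCat.diag (FibCat.diag F) :=
  mkIso2 (fun x => fpIsoMk (Iso.refl _) (Iso.refl _) (by
      refine fp_ext ?_ ?_
      · show 𝟙 x ≫ 𝟙 x = 𝟙 x ≫ 𝟙 x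
        rfl
      · show 𝟙 x ≫ 𝟙 x = 𝟙 x ≫ 𝟙 x
        rfl))
    (fun x y m => fp_ext (show m ≫ 𝟙 _ = 𝟙 _ ≫ m by simp) (show m ≫ 𝟙 _ = 𝟙 _ ≫ m by simp))
    (fun x => overId_fp _ (overId_id _))

end Equiv

section Stacks

open AlgebraicGeometry AlgSt

variable {S : Scheme.{u}} {𝒳 𝒴 : AlgSt.Cat S} {P : MorphismProperty (AlgSp.Sp S)}

theorem inertiaToBase_rep1_alg (h𝒳 : IsAlgStack Scheme.fppfPrecoverage 𝒳)
    (h𝒴 : IsAlgStack Scheme.fppfPrecoverage 𝒴) (f : 𝒳 ⥤ᵇ 𝒴) : RepByAlgSp1 (FibCat.inertiaToBase f) := by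
  have := L09.Fib.isFibered_of_isFibGrpd _ h𝒳.isStack.1
  have := L09.Fib.isFibered_of_isFibGrpd _ h𝒴.isStack.1
  have hE := inertiaE_isEquivOver f (L09.Fib.preservesStronglyCartesian_of_isFibGrpd f h𝒴.isStack.1)
  rw [show FibCat.inertiaToBase f = BasedFunctor.comp (inertiaE f) (FibCat.fpFst (FibCat.diag f) (FibCat.diag f)) from rfl]
  exact (rep1_iff _).2 ((repWith_precomp hE _).2 (repWith_fpFst _ ((rep1_iff _).1 (diag_rep1_alg h𝒳 h𝒴 f))))

theorem inertiaToBase_repWith (h𝒳 : IsAlgStack Scheme.fppfPrecoverage 𝒳)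
    (h𝒴 : IsAlgStack Scheme.fppfPrecoverage 𝒴) {f : 𝒳 ⥤ᵇ 𝒴} (h : RepByAlgSpWith P (FibCat.diag f)) :
    RepByAlgSpWith P (FibCat.inertiaToBase f) := by
  have := L09.Fib.isFibered_of_isFibGrpd _ h𝒳.isStack.1
  have := L09.Fib.isFibered_of_isFibGrpd _ h𝒴.isStack.1
  have hE := inertiaE_isEquivOver f (L09.Fib.preservesStronglyCartesian_of_isFibGrpd f h𝒴.isStack.1)
  rw [show FibCat.inertiaToBase f = BasedFunctor.comp (inertiaE f) (FibCat.fpFst (FibCat.diag f) (FibCat.diag f)) from rfl]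
  exact (repWith_precomp hE _).2 (repWith_fpFst _ h)

theorem neutral_repWith_iff (h𝒳 : IsAlgStack Scheme.fppfPrecoverage 𝒳)
    (h𝒴 : IsAlgStack Scheme.fppfPrecoverage 𝒴) (f : 𝒳 ⥤ᵇ 𝒴) :
    RepByAlgSpWith P (FibCat.inertiaNeutral f) ↔ RepByAlgSpWith P (FibCat.diag (FibCat.diag f)) := by
  have := L09.Fib.isFibered_of_isFibGrpd _ h𝒳.isStack.1
  have := L09.Fib.isFibered_of_isFibGrpd _ h𝒴.isStack.1
  have hE := inertiaE_isEquivOver f (L09.Fib.preservesStronglyCartesian_of_isFibGrpd f h𝒴.isStack.1)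
  exact (repWith_postcomp hE _).symm.trans (repWith_congr (inertiaNeutralIso f))

theorem tfae_inertia_sep (h𝒳 : IsAlgStack Scheme.fppfPrecoverage 𝒳)
    (h𝒴 : IsAlgStack Scheme.fppfPrecoverage 𝒴) (f : 𝒳 ⥤ᵇ 𝒴) :
    [RepByAlgSpWith AlgSp.IsSeparatedMor (FibCat.inertiaToBase f),
      RepByAlgSpWith AlgSp.IsSeparatedMor (FibCat.diag f),
      IsClosedImm (FibCat.inertiaNeutral f)].TFAE := by
  tfae_have 2 → 1 := inertiaToBase_repWith h𝒳 h𝒴
  tfae_have 1 → 3 := fun h => section_repWith (FibCat.inertiaNeutral f) (Iso.refl _)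
    ((rep_sepMor_iff (inertiaToBase_rep1_alg h𝒳 h𝒴 f)).1 h)
  tfae_have 2 ↔ 3 := (rep_sepMor_iff (diag_rep1_alg h𝒳 h𝒴 f)).trans (neutral_repWith_iff h𝒳 h𝒴 f).symm
  tfae_finish

theorem tfae_inertia_qs (h𝒳 : IsAlgStack Scheme.fppfPrecoverage 𝒳)
    (h𝒴 : IsAlgStack Scheme.fppfPrecoverage 𝒴) (f : 𝒳 ⥤ᵇ 𝒴) :
    [RepByAlgSpWith AlgSp.IsQuasiSeparatedMor (FibCat.inertiaToBase f),
      RepByAlgSpWith AlgSp.IsQuasiSeparatedMor (FibCat.diag f),
      RepByAlgSpWith AlgSp.IsQuasiCompactMor (FibCat.inertiaNeutral f)].TFAE := by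
  tfae_have 2 → 1 := inertiaToBase_repWith h𝒳 h𝒴
  tfae_have 1 → 3 := fun h => section_repWith (FibCat.inertiaNeutral f) (Iso.refl _)
    ((rep_qsMor_iff (inertiaToBase_rep1_alg h𝒳 h𝒴 f)).1 h)
  tfae_have 2 ↔ 3 := (rep_qsMor_iff (diag_rep1_alg h𝒳 h𝒴 f)).trans (neutral_repWith_iff h𝒳 h𝒴 f).symm
  tfae_finish

end Stacks

end Groth.L24.St
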