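import Groth.Agent.L24.St.Desc
import Groth.Agent.L23.AlgSpace
import Groth.Prelude.Def_AlgSp3
import Groth.Prelude.Def_AlgSp4
import Mathlib.AlgebraicGeometry.Morphisms.Etale

/-!
Diagonals of functors representable by algebraic spaces; equivalences and monomorphisms.
-/

set_option autoImplicit false
set_option backward.isDefEq.respectTransparency false
set_option backward.isDefEq.respectTransparency.types false

universe v₄ u₄ v₃ u₃ v₂ u₂ v u

open CategoryTheory CategoryTheory.Limits AlgebraicGeometry Opposite AlgSp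

namespace Groth.L24.St

section Generic

variable {C : Type u} [Category.{v} C] {𝒳 : BasedCategory.{v₂, u₂} C} {𝒳' : BasedCategory.{v₃, u₃} C}
  {𝒴 : BasedCategory.{v₄, u₄} C}

/-- The diagonal square of a morphism over the target. -/
def diagSquare {f : 𝒳 ⥤ᵇ 𝒴} {f' : 𝒳' ⥤ᵇ 𝒴} (a : 𝒳' ⥤ᵇ 𝒳) (α : BasedFunctor.comp a f ≅ f') :
    BasedFunctor.comp (FibCat.diag f') (fpMap a a α α) ≅ BasedFunctor.comp a (FibCat.diag f) :=
  mkIso2 (fun x => fpIsoMk (Iso.refl _) (Iso.refl _) (by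
      show f.map (𝟙 _) ≫ 𝟙 _ = ((compApp α x).hom ≫ 𝟙 _ ≫ (compApp α x).inv) ≫ f.map (𝟙 _)
      simp))
    (fun x y φ => fp_ext (show a.map φ ≫ 𝟙 _ = 𝟙 _ ≫ a.map φ by simp)
      (show a.map φ ≫ 𝟙 _ = 𝟙 _ ≫ a.map φ by simp))
    (fun x => overId_fp _ (overId_id _))

theorem diag_isEquivOver_of_fullFaithful (f : 𝒳 ⥤ᵇ 𝒴) [f.toFunctor.Full] [f.toFunctor.Faithful] :
    FibCat.IsEquivOver (FibCat.diag f) := by
  have : (FibCat.diag f).toFunctor.Faithful := ⟨fun {x y m m'} h =>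
    congrArg (fun k : (FibCat.diag f).obj x ⟶ (FibCat.diag f).obj y => k.hom.fst) h⟩
  have : (FibCat.diag f).toFunctor.Full := ⟨fun {x y} M => by
    have h : f.map M.hom.fst ≫ 𝟙 _ = 𝟙 _ ≫ f.map M.hom.snd := M.hom.w
    rw [Category.comp_id, Category.id_comp] at h
    exact ⟨M.hom.fst, fp_ext rfl (f.toFunctor.map_injective h)⟩⟩
  refine isEquivOver_of_overId _ fun η => ?_
  let c : η.obj.fst ≅ η.obj.snd := f.toFunctor.preimageIso η.obj.iso
  refine ⟨η.obj.fst, fpIsoMk (Iso.refl _) c ?_, overId_fp _ (overId_id _)⟩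
  show f.map (𝟙 _) ≫ η.obj.iso.hom = 𝟙 _ ≫ f.map c.hom
  rw [show f.map c.hom = η.obj.iso.hom from f.toFunctor.map_preimage _]
  simp

end Generic

variable {S : Scheme.{u}} {P : MorphismProperty (Sp S)}
  {𝒳 : BasedCategory.{u, u + 1} (Over S)} {𝒴 : BasedCategory.{u, u + 1} (Over S)}
  {𝒳' : BasedCategory.{u, u + 1} (Over S)} {𝒴' : BasedCategory.{u, u + 1} (Over S)}

theorem diag_repWith_square {f : 𝒳 ⥤ᵇ 𝒴} {f' : 𝒳' ⥤ᵇ 𝒴'} {a : 𝒳' ⥤ᵇ 𝒳} {b : 𝒴' ⥤ᵇ 𝒴}
    (ha : FibCat.IsEquivOver a) (hb : FibCat.IsEquivOver b)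
    (e : BasedFunctor.comp f' b ≅ BasedFunctor.comp a f) :
    AlgSt.RepByAlgSpWith P (FibCat.diag f) ↔ AlgSt.RepByAlgSpWith P (FibCat.diag f') := by
  refine (repWith_square ha (fpMap_isEquivOver ha ha e.symm e.symm) (diagSquare a e.symm)).trans ?_
  exact (repWith_congr (diagCompIso f' b)).symm.trans (repWith_postcomp (fpPost_isEquivOver f' f' hb) _)

theorem diag_repWith_ofSpMap {V G : Sp S} (a : V ⟶ G) :
    AlgSt.RepByAlgSpWith P (FibCat.diag (AlgSt.ofSpMap a)) ↔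
      AlgSt.RepByAlgSpWith P (AlgSt.ofSpMap (pullback.diagonal a)) := by
  have sq := (IsPullback.of_hasPullback a a).map (sheafToPresheaf (J S) (Type (u + 1)))
  let e : BasedFunctor.comp (AlgSt.ofSpMap (pullback.diagonal a)) (pshFp sq.w) ≅
      FibCat.diag (AlgSt.ofSpMap a) :=
    mkIso2 (fun x => fpIsoMk
        (eltIso rfl (by
          refine (FunctorToTypes.map_id_apply _ _).trans ?_
          exact (congrArg (fun k : V ⟶ V => k.hom.app _ x.sec) (pullback.diagonal_fst a)).symm))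
        (eltIso rfl (by
          refine (FunctorToTypes.map_id_apply _ _).trans ?_
          exact (congrArg (fun k : V ⟶ V => k.hom.app _ x.sec) (pullback.diagonal_snd a)).symm))
        (Stk.EltObj.hom_ext rfl))
      (fun x y φ => fp_ext
        (Stk.EltObj.hom_ext (show φ.hom ≫ 𝟙 _ = 𝟙 _ ≫ φ.hom by simp))
        (Stk.EltObj.hom_ext (show φ.hom ≫ 𝟙 _ = 𝟙 _ ≫ φ.hom by simp)))
      (fun x => overId_fp _ (eltIso_overId _ _))
  exact (repWith_congr e).symm.trans (repWith_postcomp (pshFp_isEquivOver sq) _)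

theorem isAlgSpace_pullback {X Y G : Sp S} (hX : IsAlgSpace X) (hY : IsAlgSpace Y) (hG : IsAlgSpace G)
    (f : X ⟶ G) (g : Y ⟶ G) : IsAlgSpace (pullback f g) :=
  (isAlgSpaceP_obj_iff _).1 (Groth.L23.isAlgSpaceP_of_isPullback ((isAlgSpaceP_obj_iff _).2 hG)
    ((isAlgSpaceP_obj_iff _).2 hX) ((isAlgSpaceP_obj_iff _).2 hY)
    ((IsPullback.of_hasPullback f g).map (sheafToPresheaf (J S) (Type (u + 1)))))

theorem diag_of_rep1 (hB : PBase P)
    (hdiag : ∀ ⦃V G : Sp S⦄ (a : V ⟶ G), IsAlgSpace V → IsAlgSpace G → P (pullback.diagonal a))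
    {f : 𝒳 ⥤ᵇ 𝒴} (hf : AlgSt.RepByAlgSp1 f) : AlgSt.RepByAlgSpWith P (FibCat.diag f) := by
  refine (diag_repWith_iff_forall_overCat f).2 fun U y => ?_
  obtain ⟨F, e, he⟩ := hf U y
  let g0 : AlgSt.ofSp F.obj ⥤ᵇ AlgSt.ofSch U :=
    BasedFunctor.comp (BasedFunctor.comp e (FibCat.fpFst y f)) (AlgSt.ofOverCat U)
  refine (diag_repWith_square he (toOverCat_isEquivOver U)
    (show BasedFunctor.comp (AlgSt.ofSpMap (spMap g0)) (AlgSt.toOverCat U) ≅
        BasedFunctor.comp e (FibCat.fpFst y f) from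
      whiskerR (isoOfSpMap g0).symm (AlgSt.toOverCat U))).2 ?_
  exact (diag_repWith_ofSpMap _).2 (repWith_ofSpMap_of_prop hB F.property
    (isAlgSpace_pullback F.property F.property (IsAlgSpace.yon_obj U) _ _) _
    (hdiag _ F.property (IsAlgSpace.yon_obj U)))

theorem isMono_diag_of_rep1 {f : 𝒳 ⥤ᵇ 𝒴} (hf : AlgSt.RepByAlgSp1 f) : AlgSt.IsMono (FibCat.diag f) :=
  diag_of_rep1 pBase_mono (fun _ _ a _ _ => (inferInstance : Mono (pullback.diagonal a))) hf

theorem repWith_isClosedImmersion_of_isIso {X Y : Sp S} (f : X ⟶ Y) [IsIso f] :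
    RepWith @IsClosedImmersion f := Groth.L23.repWith_of_isIso f

theorem separatedDiag_of_rep1 {f : 𝒳 ⥤ᵇ 𝒴} (hf : AlgSt.RepByAlgSp1 f) :
    AlgSt.RepByAlgSpWith AlgSp.IsSeparatedMor (FibCat.diag f) := by
  refine repWith_mono (fun _ _ _ a (ha : Mono a) => ?_) (isMono_diag_of_rep1 hf)
  exact repWith_isClosedImmersion_of_isIso _

theorem diag_representable {V G : Sp S} (a : V ⟶ G) (hV : IsAlgSpace V) :
    RepWith ⊤ (pullback.diagonal a) :=
  Groth.L23.repWith_mono (fun _ _ => trivial) (Groth.L23.diagonal_properties hV a)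

theorem representable1_diag_of_rep1 {f : 𝒳 ⥤ᵇ 𝒴} (hf : AlgSt.RepByAlgSp1 f) :
    FibCat.IsRepresentable1 (FibCat.diag f) := by
  have h := diag_of_rep1 (pBase_repWith ⊤) (fun _ _ a hV _ => diag_representable a hV) hf
  intro U y
  obtain ⟨F, e, he, ha⟩ := h U y
  obtain ⟨W, snd, fst, sq⟩ := ha.1 (𝟙 ((yon S).obj U))
  have : IsIso fst := sq.isIso_fst_of_isIso
  obtain ⟨c, hc, -, -⟩ := exists_inverse he
  exact ⟨W, BasedFunctor.comp c (BasedFunctor.comp (AlgSt.ofSpMap (inv fst)) (AlgSt.toOverCat W)),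
    isEquivOver_comp hc (isEquivOver_comp (ofSpMap_isEquivOver _) (toOverCat_isEquivOver W))⟩

theorem repWith_of_isEquivOver
    (hP : ∀ ⦃X Y : Sp S⦄, IsAlgSpace X → IsAlgSpace Y → ∀ (a : X ⟶ Y), IsIso a → P a)
    {f : 𝒳 ⥤ᵇ 𝒴} (hf : FibCat.IsEquivOver f) : AlgSt.RepByAlgSpWith P f := by
  intro U y
  have h1 := fpFst_isEquivOver (F := y) hf
  obtain ⟨c, hc, -, ⟨i⟩⟩ := exists_inverse h1
  refine ⟨⟨(yon S).obj U, IsAlgSpace.yon_obj U⟩, BasedFunctor.comp (AlgSt.toOverCat U) c,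
    isEquivOver_comp (toOverCat_isEquivOver U) hc, ?_⟩
  refine hP (IsAlgSpace.yon_obj U) (IsAlgSpace.yon_obj U) _ ?_
  rw [spMapOfOver_eq]
  exact isIso_spMap (isEquivOver_comp
    (isEquivOver_comp (isEquivOver_comp (toOverCat_isEquivOver U) hc) h1) (ofOverCat_isEquivOver U))

end Groth.L24.St
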