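import Groth.Agent.L24.St.Sp
import Groth.Agent.L09.FibHom

/-!
Invariance of representability by algebraic spaces.
-/

set_option autoImplicit false
set_option backward.isDefEq.respectTransparency false
set_option backward.isDefEq.respectTransparency.types false

universe v₆ u₆ v₅ u₅ v₄ u₄ v₃ u₃ v₂ u₂ u

open CategoryTheory CategoryTheory.Limits AlgebraicGeometry Opposite

namespace Groth.L24.St

variable {S : Scheme.{u}} {P Q : MorphismProperty (AlgSp.Sp S)}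

section Witness

variable {𝒳 : BasedCategory.{v₂, u₂} (Over S)} {𝒴 : BasedCategory.{v₃, u₃} (Over S)}
  {𝒳' : BasedCategory.{v₄, u₄} (Over S)} {𝒴' : BasedCategory.{v₅, u₅} (Over S)}
  {U : Over S}

/-- A representation of one base change with property `P`. -/
def Wit (P : MorphismProperty (AlgSp.Sp S)) (y : FibCat.overCat U ⥤ᵇ 𝒴) (f : 𝒳 ⥤ᵇ 𝒴) : Prop :=
  ∃ (F : AlgSp.Space S) (e : AlgSt.ofSp F.obj ⥤ᵇ FibCat.fp y f),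
    FibCat.IsEquivOver e ∧ P (AlgSt.spMapOfOver (BasedFunctor.comp e (FibCat.fpFst y f)))

theorem repWith_iff (f : 𝒳 ⥤ᵇ 𝒴) :
    AlgSt.RepByAlgSpWith P f ↔ ∀ (U : Over S) (y : FibCat.overCat U ⥤ᵇ 𝒴), Wit P y f := Iff.rfl

theorem Wit.imp {y : FibCat.overCat U ⥤ᵇ 𝒴} {f : 𝒳 ⥤ᵇ 𝒴}
    (h : ∀ ⦃F : AlgSp.Sp S⦄, AlgSp.IsAlgSpace F → ∀ a : F ⟶ (AlgSp.yon S).obj U, P a → Q a)
    (w : Wit P y f) : Wit Q y f := by
  obtain ⟨F, e, he, hP⟩ := w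
  exact ⟨F, e, he, h F.property _ hP⟩

theorem rep1_iff (f : 𝒳 ⥤ᵇ 𝒴) : AlgSt.RepByAlgSp1 f ↔ AlgSt.RepByAlgSpWith ⊤ f :=
  ⟨fun h U y => let ⟨F, e, he⟩ := h U y; ⟨F, e, he, trivial⟩,
    fun h U y => let ⟨F, e, he, _⟩ := h U y; ⟨F, e, he⟩⟩

theorem repWith_rep1 {f : 𝒳 ⥤ᵇ 𝒴} (h : AlgSt.RepByAlgSpWith P f) : AlgSt.RepByAlgSp1 f :=
  fun U y => let ⟨F, e, he, _⟩ := h U y; ⟨F, e, he⟩

theorem repWith_mono {f : 𝒳 ⥤ᵇ 𝒴}
    (h : ∀ ⦃F : AlgSp.Sp S⦄ ⦃U : Over S⦄, AlgSp.IsAlgSpace F → ∀ a : F ⟶ (AlgSp.yon S).obj U, P a → Q a)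
    (w : AlgSt.RepByAlgSpWith P f) : AlgSt.RepByAlgSpWith Q f :=
  fun U y => Wit.imp (fun _ hF => h hF) (w U y)

theorem Wit.transfer {y : FibCat.overCat U ⥤ᵇ 𝒴} {f : 𝒳 ⥤ᵇ 𝒴}
    {y' : FibCat.overCat U ⥤ᵇ 𝒴'} {f' : 𝒳' ⥤ᵇ 𝒴'}
    (Θ : FibCat.fp y f ⥤ᵇ FibCat.fp y' f') (hΘ : FibCat.IsEquivOver Θ)
    (c : BasedFunctor.comp Θ (FibCat.fpFst y' f') ≅ FibCat.fpFst y f) :
    Wit P y f ↔ Wit P y' f' := by
  constructor
  · rintro ⟨F, e, he, hP⟩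
    refine ⟨F, BasedFunctor.comp e Θ, isEquivOver_comp he hΘ, ?_⟩
    rwa [show AlgSt.spMapOfOver (BasedFunctor.comp (BasedFunctor.comp e Θ) (FibCat.fpFst y' f')) =
      AlgSt.spMapOfOver (BasedFunctor.comp e (FibCat.fpFst y f)) from spMapOfOver_congr (whiskerL e c)]
  · rintro ⟨F, e, he, hP⟩
    obtain ⟨Ψ, hΨ, -, ⟨i⟩⟩ := exists_inverse hΘ
    refine ⟨F, BasedFunctor.comp e Ψ, isEquivOver_comp he hΨ, ?_⟩
    rwa [show AlgSt.spMapOfOver (BasedFunctor.comp (BasedFunctor.comp e Ψ) (FibCat.fpFst y f)) =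
      AlgSt.spMapOfOver (BasedFunctor.comp e (FibCat.fpFst y' f')) from spMapOfOver_congr
        ((whiskerL (BasedFunctor.comp e Ψ) c).symm ≪≫ whiskerR (whiskerL e i) (FibCat.fpFst y' f'))]

theorem wit_congr {y y' : FibCat.overCat U ⥤ᵇ 𝒴} {f f' : 𝒳 ⥤ᵇ 𝒴} (e : y ≅ y') (e' : f ≅ f') :
    Wit P y f ↔ Wit P y' f' :=
  (Wit.transfer (fpMap (BasedFunctor.id _) (BasedFunctor.id _) (show BasedFunctor.comp (BasedFunctor.id _) y ≅ y' from e)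
      (show BasedFunctor.comp (BasedFunctor.id _) f ≅ f' from e'))
    (fpMap_isEquivOver (isEquivOver_id _) (isEquivOver_id _) _ _) (Iso.refl _)).symm

theorem repWith_congr {f f' : 𝒳 ⥤ᵇ 𝒴} (e : f ≅ f') :
    AlgSt.RepByAlgSpWith P f ↔ AlgSt.RepByAlgSpWith P f' :=
  forall_congr' fun _ => forall_congr' fun y => wit_congr (Iso.refl y) e

theorem wit_precomp {a : 𝒳' ⥤ᵇ 𝒳} (ha : FibCat.IsEquivOver a) (y : FibCat.overCat U ⥤ᵇ 𝒴)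
    (f : 𝒳 ⥤ᵇ 𝒴) : Wit P y (BasedFunctor.comp a f) ↔ Wit P y f :=
  Wit.transfer (fpMap (BasedFunctor.id _) a (Iso.refl _) (Iso.refl _))
    (fpMap_isEquivOver (isEquivOver_id _) ha _ _) (Iso.refl _)

theorem repWith_precomp {a : 𝒳' ⥤ᵇ 𝒳} (ha : FibCat.IsEquivOver a) (f : 𝒳 ⥤ᵇ 𝒴) :
    AlgSt.RepByAlgSpWith P (BasedFunctor.comp a f) ↔ AlgSt.RepByAlgSpWith P f :=
  forall_congr' fun _ => forall_congr' fun y => wit_precomp ha y f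

theorem wit_postcomp {b : 𝒴 ⥤ᵇ 𝒴'} (hb : FibCat.IsEquivOver b) (y : FibCat.overCat U ⥤ᵇ 𝒴)
    (f : 𝒳 ⥤ᵇ 𝒴) : Wit P y f ↔ Wit P (BasedFunctor.comp y b) (BasedFunctor.comp f b) :=
  Wit.transfer (fpPost y f b) (fpPost_isEquivOver y f hb) (Iso.refl _)

theorem repWith_postcomp {b : 𝒴 ⥤ᵇ 𝒴'} (hb : FibCat.IsEquivOver b) (f : 𝒳 ⥤ᵇ 𝒴) :
    AlgSt.RepByAlgSpWith P (BasedFunctor.comp f b) ↔ AlgSt.RepByAlgSpWith P f := by
  refine ⟨fun h U y => (wit_postcomp hb y f).2 (h U _), fun h U y' => ?_⟩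
  obtain ⟨c, -, -, ⟨i⟩⟩ := exists_inverse hb
  exact (wit_congr (show BasedFunctor.comp (BasedFunctor.comp y' c) b ≅ y' from whiskerL y' i)
    (Iso.refl _)).1 ((wit_postcomp hb _ f).1 (h U (BasedFunctor.comp y' c)))

theorem repWith_square {f : 𝒳 ⥤ᵇ 𝒴} {f' : 𝒳' ⥤ᵇ 𝒴'} {a : 𝒳' ⥤ᵇ 𝒳} {b : 𝒴' ⥤ᵇ 𝒴}
    (ha : FibCat.IsEquivOver a) (hb : FibCat.IsEquivOver b)
    (e : BasedFunctor.comp f' b ≅ BasedFunctor.comp a f) :
    AlgSt.RepByAlgSpWith P f ↔ AlgSt.RepByAlgSpWith P f' :=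
  (repWith_precomp ha f).symm.trans ((repWith_congr e.symm).trans (repWith_postcomp hb f'))

theorem repWith_fpFst {𝒵 : BasedCategory.{v₆, u₆} (Over S)} {f : 𝒳 ⥤ᵇ 𝒴} (g : 𝒵 ⥤ᵇ 𝒴)
    (h : AlgSt.RepByAlgSpWith P f) : AlgSt.RepByAlgSpWith P (FibCat.fpFst g f) :=
  fun U y => (Wit.transfer (fpPaste y g f) (fpPaste_isEquivOver y g f) (Iso.refl _)).2 (h U _)

theorem repWith_fpSnd {𝒵 : BasedCategory.{v₆, u₆} (Over S)} {f : 𝒳 ⥤ᵇ 𝒴} (g : 𝒵 ⥤ᵇ 𝒴)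
    (h : AlgSt.RepByAlgSpWith P f) : AlgSt.RepByAlgSpWith P (FibCat.fpSnd f g) :=
  (repWith_precomp fpSwap_isEquivOver (FibCat.fpFst g f)).2 (repWith_fpFst g h)

/-- A property of morphisms into schemes that is invariant under isomorphism of the source holds for every
representation if it holds for one. -/
theorem Wit.prop_of_equiv
    (hP : ∀ ⦃F F' : AlgSp.Sp S⦄, AlgSp.IsAlgSpace F → AlgSp.IsAlgSpace F' → ∀ (i : F' ⟶ F), IsIso i →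
      ∀ a : F ⟶ (AlgSp.yon S).obj U, P a → P (i ≫ a))
    {y : FibCat.overCat U ⥤ᵇ 𝒴} {f : 𝒳 ⥤ᵇ 𝒴} (w : Wit P y f) {F' : AlgSp.Sp S} (hF' : AlgSp.IsAlgSpace F')
    (e' : AlgSt.ofSp F' ⥤ᵇ FibCat.fp y f) (he' : FibCat.IsEquivOver e') :
    P (AlgSt.spMapOfOver (BasedFunctor.comp e' (FibCat.fpFst y f))) := by
  obtain ⟨F, e, he, hPe⟩ := w
  obtain ⟨c, hc, -, ⟨i⟩⟩ := exists_inverse he
  have hi := isIso_spMap (isEquivOver_comp he' hc)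
  rw [show AlgSt.spMapOfOver (BasedFunctor.comp e' (FibCat.fpFst y f)) =
      AlgSt.spMapOfOver (BasedFunctor.comp (BasedFunctor.comp e' (BasedFunctor.comp c e)) (FibCat.fpFst y f))
    from (spMapOfOver_congr (whiskerR (whiskerL e' i) (FibCat.fpFst y f))).symm]
  rw [show BasedFunctor.comp (BasedFunctor.comp e' (BasedFunctor.comp c e)) (FibCat.fpFst y f) =
    BasedFunctor.comp (BasedFunctor.comp e' c) (BasedFunctor.comp e (FibCat.fpFst y f)) from rfl,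
    spMapOfOver_comp]
  exact hP F.property hF' _ hi _ hPe

end Witness

section RepByAlgSp

variable {𝒳 : BasedCategory.{v₂, u₂} (Over S)} {𝒴 : BasedCategory.{v₃, u₃} (Over S)}

theorem repByAlgSp_of_equiv {Θ : 𝒳 ⥤ᵇ 𝒴} (hΘ : FibCat.IsEquivOver Θ) :
    AlgSt.RepByAlgSp 𝒳 ↔ AlgSt.RepByAlgSp 𝒴 := by
  constructor
  · rintro ⟨F, e, he⟩; exact ⟨F, _, isEquivOver_comp he hΘ⟩
  · rintro ⟨F, e, he⟩
    obtain ⟨c, hc, -, -⟩ := exists_inverse hΘ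
    exact ⟨F, _, isEquivOver_comp he hc⟩

theorem ofSp_isFibSetoid (F : AlgSp.Sp S) : FibCat.IsFibSetoid (AlgSt.ofSp F).p :=
  ⟨ofSp_isFibGrpd F, fun U a b => ⟨fun f g => Subtype.ext (Stk.EltObj.hom_ext (by
    have := f.2; have := g.2
    exact (IsHomLift.fac' (AlgSt.ofSp F).p (𝟙 U) f.1).trans (IsHomLift.fac' (AlgSt.ofSp F).p (𝟙 U) g.1).symm))⟩⟩

theorem isFibSetoid_of_repByAlgSp (h : AlgSt.RepByAlgSp 𝒳) : FibCat.IsFibSetoid 𝒳.p := by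
  obtain ⟨F, e, he⟩ := h
  obtain ⟨c, hc, -, -⟩ := exists_inverse he
  exact L09.Fib.isFibSetoid_of_isEquivOver hc (ofSp_isFibSetoid F.obj)

end RepByAlgSp

end Groth.L24.St
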