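import Groth.Agent.L24.St.Points
import Groth.Agent.L24.St.Rep
import Groth.Agent.L24.St.Fibrewise

/-!
Universally injective morphisms, monomorphisms on points, transfer of quasi-compactness.
-/

set_option autoImplicit false
set_option backward.isDefEq.respectTransparency false
set_option backward.isDefEq.respectTransparency.types false

universe v₅ u₅ v₄ u₄ v₃ u₃ v₂ u₂ u

open CategoryTheory CategoryTheory.Limits AlgebraicGeometry Opposite AlgSt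

namespace Groth.L24.St

variable {S : Scheme.{u}} {𝒳 : BasedCategory.{v₂, u₂} (Over S)} {𝒴 : BasedCategory.{v₃, u₃} (Over S)}
  {𝒵 : BasedCategory.{v₄, u₄} (Over S)}

theorem injective_map_of_isMono (h𝒳 : FibCat.IsFibGrpd 𝒳.p) (h𝒴 : FibCat.IsFibGrpd 𝒴.p)
    (f : 𝒳 ⥤ᵇ 𝒴) (hf : IsMono f) : Function.Injective (Points.map f) := by
  have := full_of_isMono h𝒳 h𝒴 f hf
  exact injective_map_of_fullFaithful h𝒳 h𝒴 f

theorem isUnivInjective_fpFst (K : Precoverage Scheme.{u}) {f : 𝒳 ⥤ᵇ 𝒴} (hf : IsUnivInjective K f)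
    (g : 𝒵 ⥤ᵇ 𝒴) : IsUnivInjective K (FibCat.fpFst g f) := by
  intro 𝒲 h𝒲 h
  have e : Points.map (FibCat.fpFst h (FibCat.fpFst g f)) =
      Points.map (FibCat.fpFst (BasedFunctor.comp h g) f) ∘ Points.map (fpPaste h g f) := by
    funext w
    rw [Function.comp_apply, ← map_comp_apply, fpPaste_fst]
  rw [e]
  exact (hf 𝒲 h𝒲 _).comp (bijective_map_of_isEquivOver (fpPaste_isEquivOver h g f)).injective

theorem isQuasiCompact_of_isEquivOver {Θ : 𝒳 ⥤ᵇ 𝒴} (hΘ : FibCat.IsEquivOver Θ)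
    (h : IsQuasiCompact 𝒳) : IsQuasiCompact 𝒴 := by
  obtain ⟨U, x, hU, h1, h2⟩ := h
  exact ⟨U, BasedFunctor.comp x Θ, hU, (repWith_postcomp hΘ x).2 h1, (repWith_postcomp hΘ x).2 h2⟩

theorem isQuasiCompact_iff_of_isEquivOver {Θ : 𝒳 ⥤ᵇ 𝒴} (hΘ : FibCat.IsEquivOver Θ) :
    IsQuasiCompact 𝒳 ↔ IsQuasiCompact 𝒴 := by
  refine ⟨isQuasiCompact_of_isEquivOver hΘ, fun h => ?_⟩
  obtain ⟨Θ', h', -, -⟩ := exists_inverse hΘ
  exact isQuasiCompact_of_isEquivOver h' h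

theorem isQuasiCompactMor_fpFst (K : Precoverage Scheme.{u}) {f : 𝒳 ⥤ᵇ 𝒴} (hf : IsQuasiCompactMor K f)
    (g : 𝒵 ⥤ᵇ 𝒴) : IsQuasiCompactMor K (FibCat.fpFst g f) := fun 𝒲 h𝒲 hq h =>
  (isQuasiCompact_iff_of_isEquivOver (fpPaste_isEquivOver h g f)).2 (hf 𝒲 h𝒲 hq _)

end Groth.L24.St
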