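import Groth.Agent.L24.St.SmoothLocal
import Groth.Agent.L24.St.DiagSpace
import Groth.Agent.L24.St.PointsUniv
import Groth.Agent.L23.Univ

/-!
Base changes of representable functors compared with base changes of spaces, on points.
-/

set_option autoImplicit false
set_option backward.isDefEq.respectTransparency false
set_option backward.isDefEq.respectTransparency.types false

universe v₂ u₂ u

open CategoryTheory CategoryTheory.Limits AlgebraicGeometry Opposite AlgSt Topology TopologicalSpace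

noncomputable section

namespace Groth.L24.St

/-- Data of a lifting square of spaces. -/
structure LiftSq {Fp Vp Up Zp : Type*} [TopologicalSpace Fp] [TopologicalSpace Vp] [TopologicalSpace Up]
    [TopologicalSpace Zp] (T : Fp → Vp) (q : Fp → Up) (p : Vp → Zp) (m : Up → Zp) : Prop where
  hq : Continuous q
  hp : IsOpenQuotientMap p
  comm : ∀ x, p (T x) = m (q x)
  lift : ∀ v u, p v = m u → ∃ x, T x = v ∧ q x = u

namespace LiftSq

variable {Fp Vp Up Zp : Type*} [TopologicalSpace Fp] [TopologicalSpace Vp] [TopologicalSpace Up]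
  [TopologicalSpace Zp] {T : Fp → Vp} {q : Fp → Up} {p : Vp → Zp} {m : Up → Zp}

theorem preimage_image (h : LiftSq T q p m) (A : Set Up) : p ⁻¹' (m '' A) = T '' (q ⁻¹' A) := by
  ext v
  constructor
  · rintro ⟨u, hu, e⟩
    obtain ⟨x, rfl, rfl⟩ := h.lift v u e.symm
    exact ⟨x, hu, rfl⟩
  · rintro ⟨x, hx, rfl⟩
    exact ⟨q x, hx, (h.comm x).symm⟩

theorem isOpenMap (h : LiftSq T q p m) (hT : IsOpenMap T) : IsOpenMap m := fun A hA => by
  rw [← h.hp.isQuotientMap.isOpen_preimage, h.preimage_image]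
  exact hT _ (hA.preimage h.hq)

theorem isClosedMap (h : LiftSq T q p m) (hT : IsClosedMap T) : IsClosedMap m := fun A hA => by
  rw [← h.hp.isQuotientMap.isClosed_preimage, h.preimage_image]
  exact hT _ (hA.preimage h.hq)

theorem injective (h : LiftSq T q p m) (hT : Function.Injective T) : Function.Injective m := fun u u' e => by
  obtain ⟨v, hv⟩ := h.hp.surjective (m u)
  obtain ⟨x, hx, rfl⟩ := h.lift v u hv
  obtain ⟨x', hx', rfl⟩ := h.lift v u' (hv.trans e)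
  rw [hT (hx.trans hx'.symm)]

theorem surjective (h : LiftSq T q p m) (hT : Function.Surjective T) : Function.Surjective m := fun z => by
  obtain ⟨v, rfl⟩ := h.hp.surjective z
  obtain ⟨x, rfl⟩ := hT v
  exact ⟨q x, (h.comm x).symm⟩

theorem isQuotientMap (h : LiftSq T q p m) (hm : Continuous m) (hT : IsQuotientMap T) : IsQuotientMap m := by
  refine ⟨.of_isOpen_preimage_iff_isOpen fun A => ⟨fun hA => ?_, fun hA => hA.preimage hm⟩,
    h.surjective hT.surjective⟩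
  rw [← h.hp.isQuotientMap.isOpen_preimage, ← hT.isOpen_preimage]
  have : T ⁻¹' (p ⁻¹' A) = q ⁻¹' (m ⁻¹' A) := by ext x; simp [h.comm]
  rw [this]
  exact hA.preimage h.hq

theorem isHomeomorph (h : LiftSq T q p m) (hm : Continuous m) (hT : IsHomeomorph T) : IsHomeomorph m :=
  ⟨hm, h.isOpenMap hT.isOpenMap, h.injective hT.injective, h.surjective hT.surjective⟩

end LiftSq

variable {S : Scheme.{u}} {𝒳 𝒴 𝒵 : AlgSt.Cat S}

theorem prop_self_of_univSp {Q : MorphismProperty (AlgSp.Sp S)} {F : AlgSp.Sp S} {U : Over S}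
    {ν : F ⟶ (AlgSp.yon S).obj U} (h : AlgSp.UnivSp Q ν) : Q ν :=
  h (AlgSp.IsAlgSpace.yon_obj U) (𝟙 _) (𝟙 _) ν (IsPullback.of_horiz_isIso ⟨by simp⟩)

/-- A base change of a representable functor read through a smooth chart of the base. -/
theorem exists_lift_square (h𝒳 : FibCat.IsFibGrpd 𝒳.p) (h𝒴 : FibCat.IsFibGrpd 𝒴.p)
    (h𝒵 : IsAlgStack Scheme.fppfPrecoverage 𝒵) {Q : MorphismProperty (AlgSp.Sp S)} {f : 𝒳 ⥤ᵇ 𝒴}
    (hf : RepByAlgSpWith Q f) (g : 𝒵 ⥤ᵇ 𝒴) {V : Over S} {z : FibCat.overCat V ⥤ᵇ 𝒵}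
    (hz : RepByAlgSpWith (AlgSp.LocP @Smooth) z) (hzs : Function.Surjective (Points.ofChart z)) :
    ∃ (F : AlgSp.Space S) (ν : F.obj ⟶ (AlgSp.yon S).obj V) (q : AlgSp.Points F.obj → Points (FibCat.fp g f)),
      Q ν ∧ LiftSq (fun x => AlgSp.Points.toScheme V (AlgSp.Points.map ν x)) q (Points.ofChart z)
        (Points.map (FibCat.fpFst g f)) ∧
      ∃ C : ofSp F.obj ⥤ᵇ FibCat.fp g f, RepByAlgSpWith (AlgSp.LocP @Smooth) C ∧
        q = Points.map C ∘ ptMap F.obj := by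
  obtain ⟨F, e, he, hQ⟩ := hf V (BasedFunctor.comp z g)
  obtain ⟨c, hc, -, ⟨ic⟩⟩ := exists_inverse (fpPaste_isEquivOver z g f)
  let E := BasedFunctor.comp e c
  have hE : FibCat.IsEquivOver E := isEquivOver_comp he hc
  let C := BasedFunctor.comp E (FibCat.fpSnd z (FibCat.fpFst g f))
  have hfp : FibCat.IsFibGrpd (FibCat.fp g f).p := L09.Fib.fp_isFibGrpd h𝒵.isStack.1 h𝒳 h𝒴
  have hC : RepByAlgSpWith (AlgSp.LocP @Smooth) C := (repWith_precomp hE _).2 (repWith_fpSnd _ hz)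
  let Φ := BasedFunctor.comp e (FibCat.fpFst (BasedFunctor.comp z g) f)
  have key : ∀ x, ptOver (AlgSp.Points.toScheme V (AlgSp.Points.map (spMapOfOver Φ) x)) =
      Points.map Φ (ptMap F.obj x) := by
    intro x
    obtain ⟨k, rfl⟩ := AlgSp.Points.mk_surjective x
    rw [← overPt_map_spMapOfOver, ptOver_overPt, ptMap_mk]
  have hfst : Points.map Φ = Points.map (BasedFunctor.comp E (FibCat.fpFst z (FibCat.fpFst g f))) :=
    (map_congr (whiskerR (whiskerL e ic) (FibCat.fpFst (BasedFunctor.comp z g) f))).symm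
  have hcomm : ∀ x, Points.ofChart z (AlgSp.Points.toScheme V (AlgSp.Points.map (spMapOfOver Φ) x)) =
      Points.map (FibCat.fpFst g f) (Points.map C (ptMap F.obj x)) := by
    intro x
    rw [ofChart_eq_map, Function.comp_apply, key, hfst, ← map_comp_apply, ← map_comp_apply]
    exact congrFun (map_congr (whiskerL E (FibCat.fpIso z (FibCat.fpFst g f)))) _
  refine ⟨F, spMapOfOver Φ, Points.map C ∘ ptMap F.obj, hQ, ⟨?_, ⟨hzs, continuous_ofChart h𝒵 z,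
    isOpenMap_ofChart isOpenMap_of_smooth h𝒵.isStack.1 hz⟩, hcomm, ?_⟩, C, hC, rfl⟩
  · refine ⟨fun O hO => AlgSp.Points.isOpen_iff.2 fun T g' => ?_⟩
    obtain ⟨W, a, haE, haS⟩ := F.property.atlas
    suffices hW : IsOpen ((Points.map C ∘ ptMap F.obj) ⁻¹' O) from AlgSp.Points.isOpen_iff.1 hW T g'
    rw [← (Groth.L23.isOpenQuotientMap_ofPt haE haS).isQuotientMap.isOpen_preimage]
    exact hO W _ (smooth_spChart_comp haE hC)
  · intro v u hvu
    obtain ⟨w, hw1, hw2⟩ := exists_points_fp hfp h𝒵.isStack.1 (overCat_isFibGrpd V) (FibCat.fpFst g f) z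
      (ptOver v) u hvu
    obtain ⟨y, rfl⟩ := (bijective_map_of_isEquivOver hE).surjective w
    obtain ⟨x, rfl⟩ := (ptMap_bijective F.obj).surjective y
    refine ⟨x, (overPtEquiv V).symm.injective ?_, by rw [← hw2, ← map_comp_apply]; rfl⟩
    show ptOver _ = ptOver v
    rw [key, hfst, ← hw1, map_comp_apply]

/-- A base change of spaces read on the categories over the base. -/
theorem exists_space_square (h𝒳 : FibCat.IsFibGrpd 𝒳.p) (h𝒴 : FibCat.IsFibGrpd 𝒴.p) {U : Over S}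
    {f : 𝒳 ⥤ᵇ 𝒴} (y : FibCat.overCat U ⥤ᵇ 𝒴) {F : AlgSp.Space S} (e : ofSp F.obj ⥤ᵇ FibCat.fp y f)
    (he : FibCat.IsEquivOver e) {Z P : AlgSp.Sp S} (hZ : AlgSp.IsAlgSpace Z) {g : Z ⟶ (AlgSp.yon S).obj U}
    {fst : P ⟶ F.obj} {snd : P ⟶ Z}
    (sq : IsPullback fst snd (spMapOfOver (BasedFunctor.comp e (FibCat.fpFst y f))) g) :
    AlgSp.IsAlgSpace P ∧ ∃ (Θ : ofSp P ⥤ᵇ FibCat.fp (BasedFunctor.comp (BasedFunctor.comp (ofSpMap g) (toOverCat U)) y) f),
      FibCat.IsEquivOver Θ ∧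
        Nonempty (BasedFunctor.comp Θ (FibCat.fpFst _ f) ≅ ofSpMap snd) := by
  let Φ := BasedFunctor.comp e (FibCat.fpFst y f)
  refine ⟨(isAlgSpace_pullback F.property hZ (AlgSp.IsAlgSpace.yon_obj U) _ g).of_iso sq.isoPullback.symm, ?_⟩
  have sq' := sq.flip.map (sheafToPresheaf (AlgSp.J S) (Type (u + 1)))
  let A := pshFp sq'.w
  let B := fpPost (ofSpMap g) (ofSpMap (spMapOfOver Φ)) (toOverCat U)
  have iν : Φ ≅ BasedFunctor.comp (ofSpMap (spMapOfOver Φ)) (toOverCat U) :=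
    eqToIso (show Φ = BasedFunctor.comp (BasedFunctor.comp Φ (ofOverCat U)) (toOverCat U) from rfl) ≪≫
    whiskerR (isoOfSpMap (BasedFunctor.comp Φ (ofOverCat U))) (toOverCat U)
  let c := BasedFunctor.comp (ofSpMap g) (toOverCat U)
  let C := fpMap (F := c) (G := FibCat.fpFst y f) (BasedFunctor.id _) e (Iso.refl c) iν
  refine ⟨BasedFunctor.comp A (BasedFunctor.comp B (BasedFunctor.comp C (fpPaste c y f))),
    isEquivOver_comp (pshFp_isEquivOver sq') (isEquivOver_comp (fpPost_isEquivOver _ _ (toOverCat_isEquivOver U))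
      (isEquivOver_comp (fpMap_isEquivOver (isEquivOver_id _) he _ _) (fpPaste_isEquivOver c y f))), ⟨Iso.refl _⟩⟩

theorem ptMap_map_comm {Z P : AlgSp.Sp S} {snd : P ⟶ Z} {𝒲 : AlgSt.Cat S} {h : 𝒲 ⥤ᵇ ofSp Z} {Θ : ofSp P ⥤ᵇ 𝒲}
    (i : BasedFunctor.comp Θ h ≅ ofSpMap snd) :
    ptMap Z ∘ AlgSp.Points.map snd = Points.map h ∘ Points.map Θ ∘ ptMap P := by
  funext x
  simp only [Function.comp_apply]
  rw [← ptMap_map, ← map_congr i, map_comp_apply]

theorem repWith_univSp_of (T : ∀ {A B : Type (u + 1)} [TopologicalSpace A] [TopologicalSpace B], (A → B) → Prop)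
    (hT₁ : ∀ {A B B' : Type (u + 1)} [TopologicalSpace A] [TopologicalSpace B] [TopologicalSpace B'] (m : A → B)
      (k : B → B'), IsHomeomorph k → T (k ∘ m) → T m)
    (hT₂ : ∀ {A A' B : Type (u + 1)} [TopologicalSpace A] [TopologicalSpace A'] [TopologicalSpace B] (m : A → B)
      (k : A' → A), IsHomeomorph k → T m → T (m ∘ k))
    (h𝒳 : FibCat.IsFibGrpd 𝒳.p) (h𝒴 : FibCat.IsFibGrpd 𝒴.p) {f : 𝒳 ⥤ᵇ 𝒴} (hf : RepByAlgSp1 f)
    (h : ∀ (𝒵 : AlgSt.Cat S), IsAlgStack Scheme.fppfPrecoverage 𝒵 → ∀ g : 𝒵 ⥤ᵇ 𝒴,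
      T (Points.map (FibCat.fpFst g f))) :
    RepByAlgSpWith (AlgSp.UnivSp fun _ _ a => T (AlgSp.Points.map a)) f := by
  intro U y
  obtain ⟨F, e, he⟩ := hf U y
  refine ⟨F, e, he, fun Z P hZ g fst snd sq => ?_⟩
  obtain ⟨hP, Θ, hΘ, ⟨i⟩⟩ := exists_space_square h𝒳 h𝒴 y e he hZ sq
  refine hT₁ _ (ptMap Z) (ptMap_isHomeomorph ⟨Z, hZ⟩) ?_
  rw [ptMap_map_comm i]
  exact hT₂ _ _ ((isHomeomorph_map_of_isEquivOver hΘ).comp (ptMap_isHomeomorph ⟨P, hP⟩))
    (h _ (isAlgStack_of_repByAlgSp ⟨⟨Z, hZ⟩, _, isEquivOver_id _⟩) _)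

theorem continuous_fpFst (h𝒵 : IsAlgStack Scheme.fppfPrecoverage 𝒵) (g : 𝒵 ⥤ᵇ 𝒴) (f : 𝒳 ⥤ᵇ 𝒴) :
    Continuous (Points.map (FibCat.fpFst g f)) := continuous_map h𝒵 _

theorem toScheme_homeo (V : Over S) : IsHomeomorph (AlgSp.Points.toScheme V) :=
  (AlgSp.Points.schemeHomeo V).symm.isHomeomorph

theorem repWith_qcMor_iff (h𝒳 : FibCat.IsFibGrpd 𝒳.p) (h𝒴 : FibCat.IsFibGrpd 𝒴.p) {f : 𝒳 ⥤ᵇ 𝒴}
    (hf : RepByAlgSp1 f) :
    RepByAlgSpWith AlgSp.IsQuasiCompactMor f ↔ IsQuasiCompactMor Scheme.fppfPrecoverage f := by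
  constructor
  · intro h 𝒵 h𝒵 hqc g
    obtain ⟨V, z, hV, hz, hzs⟩ := hqc
    obtain ⟨F, ν, q, hν, hsq, C, hC, rfl⟩ := exists_lift_square h𝒳 h𝒴 h𝒵 h g hz
      (surjective_ofChart_of_repWith h𝒵.isStack.1 hzs)
    have hF : AlgSp.IsQuasiCompactSp F.obj :=
      hν (AlgSp.IsAlgSpace.yon_obj V) Groth.L23.isQuasiCompactSp_of_compactSpace (𝟙 _) (𝟙 _) ν
        (IsPullback.of_horiz_isIso ⟨by simp⟩)
    have : CompactSpace (AlgSp.Points F.obj) := Groth.L23.compactSpace_of_qcSp hF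
    obtain ⟨W, a, haE, haS⟩ := F.property.atlas
    obtain ⟨s, hs⟩ := isCompact_univ.elim_finite_subcover
      (fun O : W.left.affineOpens => AlgSp.Points.ofPt a '' (O.1 : Set ↥W.left))
      (fun O => Groth.L23.isOpenMap_ofPt haE _ O.1.2) (fun x _ => by
        obtain ⟨t, rfl⟩ := Groth.L23.surjective_ofPt haS x
        obtain ⟨O, hO, ht, -⟩ := W.left.isBasis_affineOpens.exists_subset_of_mem_open
          (Set.mem_univ t) isOpen_univ
        obtain ⟨O', hO', rfl⟩ := hO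
        exact Set.mem_iUnion.2 ⟨⟨O', hO'⟩, t, ht, rfl⟩)
    refine exists_smooth_affine_chart (L09.Fib.fp_isFibGrpd h𝒵.isStack.1 h𝒳 h𝒴) (ι := s)
      (smooth_spChart_comp haE hC) (fun i => i.1.1) (fun i => i.1.2) fun p => ?_
    obtain ⟨v, hv⟩ := hsq.hp.surjective (Points.map (FibCat.fpFst g f) p)
    obtain ⟨x, -, hx⟩ := hsq.lift v p hv
    obtain ⟨O, hO, t, ht, htx⟩ := Set.mem_iUnion₂.1 (hs (Set.mem_univ x))
    refine ⟨⟨O, hO⟩, t, ht, ?_⟩
    rw [← hx, ← htx, Function.comp_apply, ptMap_ofPt, map_comp_ofChart]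
    rfl
  · intro h U y
    obtain ⟨F, e, he⟩ := hf U y
    refine ⟨F, e, he, fun Z P hZ hqc g fst snd sq => ?_⟩
    obtain ⟨hP, Θ, hΘ, -⟩ := exists_space_square h𝒳 h𝒴 y e he hZ sq
    have hZs := isAlgStack_of_repByAlgSp (𝒳 := ofSp Z) ⟨⟨Z, hZ⟩, _, isEquivOver_id _⟩
    have hPs := isAlgStack_of_repByAlgSp (𝒳 := ofSp P) ⟨⟨P, hP⟩, _, isEquivOver_id _⟩
    have : CompactSpace (AlgSp.Points Z) := Groth.L23.compactSpace_of_qcSp hqc
    have hZq : IsQuasiCompact (ofSp Z) :=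
      isQuasiCompact_of_surjective hZs (ptMap_isHomeomorph ⟨Z, hZ⟩).continuous (ptMap_bijective Z).surjective
    have hPq : IsQuasiCompact (ofSp P) := (isQuasiCompact_iff_of_isEquivOver hΘ).2 (h _ hZs hZq _)
    have := compactSpace_of_isQuasiCompact hPs hPq
    exact Groth.L23.qcSp_of_compactSpace hP (ptMap_isHomeomorph ⟨P, hP⟩).homeomorph.symm.compactSpace

theorem isUnivX_of_repWith (T : ∀ {A B : Type (u + 1)} [TopologicalSpace A] [TopologicalSpace B], (A → B) → Prop)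
    (hT : ∀ {Fp Up Zp : Type (u + 1)} [TopologicalSpace Fp] [TopologicalSpace Up] [TopologicalSpace Zp]
      {Vp : Type u} [TopologicalSpace Vp] {Wp : Type (u + 1)} [TopologicalSpace Wp] {t : Fp → Wp} {k : Wp → Vp}
      {q : Fp → Up} {p : Vp → Zp} {m : Up → Zp}, IsHomeomorph k → LiftSq (k ∘ t) q p m → Continuous m → T t → T m)
    (h𝒳 : FibCat.IsFibGrpd 𝒳.p) (h𝒴 : FibCat.IsFibGrpd 𝒴.p) {f : 𝒳 ⥤ᵇ 𝒴}
    (hf : RepByAlgSpWith (AlgSp.UnivSp fun _ _ a => T (AlgSp.Points.map a)) f)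
    (𝒵 : AlgSt.Cat S) (h𝒵 : IsAlgStack Scheme.fppfPrecoverage 𝒵) (g : 𝒵 ⥤ᵇ 𝒴) :
    T (Points.map (FibCat.fpFst g f)) := by
  obtain ⟨V, z, hz, hzs⟩ := h𝒵.atlas
  obtain ⟨F, ν, q, hν, hsq, -⟩ := exists_lift_square h𝒳 h𝒴 h𝒵 hf g hz
    (surjective_ofChart_of_repWith h𝒵.isStack.1 hzs)
  exact hT (toScheme_homeo V) hsq (continuous_fpFst h𝒵 g f) (prop_self_of_univSp hν)

end Groth.L24.St
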