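import Groth.Agent.L24.St.MonoQc
import Groth.Agent.L24.St.UnivProps
import Groth.Agent.L24.Alg.SpaceBaseLocal

/-!
Monomorphisms of stacks with constructible image are quasi-compact.
-/

set_option autoImplicit false
set_option backward.isDefEq.respectTransparency false
set_option backward.isDefEq.respectTransparency.types false

universe u

open CategoryTheory CategoryTheory.Limits AlgebraicGeometry Opposite AlgSt TopologicalSpace

noncomputable section

namespace Groth.L24.St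

variable {S : Scheme.{u}} {𝒳 𝒴 : AlgSt.Cat S}

/-- Functoriality of `overMap`. -/
def overMapCompIso {U V W : Over S} (a : U ⟶ V) (b : V ⟶ W) :
    overMap (a ≫ b) ≅ BasedFunctor.comp (overMap a) (overMap b) :=
  mkIso2 (fun x => Over.isoMk (Iso.refl _) (by
      show 𝟙 _ ≫ (x.hom ≫ a) ≫ b = x.hom ≫ a ≫ b
      simp))
    (fun x y m => Over.OverMorphism.ext (show m.left ≫ 𝟙 _ = 𝟙 _ ≫ m.left by simp))
    (fun x => OverId.of_eq rfl rfl)

/-- A point of the representing space gives a lift of the object. -/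
theorem exists_lift_of_section {f : 𝒴 ⥤ᵇ 𝒳} {U₀ : Over S} {z : FibCat.overCat U₀ ⥤ᵇ 𝒳} {F : AlgSp.Sp S}
    (e : ofSp F ⥤ᵇ FibCat.fp z f) {T : Over S} (φ : T ⟶ U₀) (σ : (AlgSp.yon S).obj T ⟶ F)
    (hσ : σ ≫ spMapOfOver (BasedFunctor.comp e (FibCat.fpFst z f)) = (AlgSp.yon S).map φ) :
    ∃ y : FibCat.overCat T ⥤ᵇ 𝒴, Nonempty (BasedFunctor.comp y f ≅ BasedFunctor.comp (overMap φ) z) := by
  let L := BasedFunctor.comp (BasedFunctor.comp (ofOverCat T) (ofSpMap σ)) e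
  have i : BasedFunctor.comp L (FibCat.fpFst z f) ≅ overMap φ := by
    refine (show BasedFunctor.comp L (FibCat.fpFst z f) ≅ _ from whiskerL (ofOverCat T) (whiskerL (ofSpMap σ) (overFactor (BasedFunctor.comp e (FibCat.fpFst z f))))) ≪≫ eqToIso ?_
    show BasedFunctor.comp (ofOverCat T) (BasedFunctor.comp (ofSpMap σ) (BasedFunctor.comp (ofSpMap _) (toOverCat U₀))) = _
    rw [show BasedFunctor.comp (ofSpMap σ) (BasedFunctor.comp (ofSpMap (spMapOfOver (BasedFunctor.comp e (FibCat.fpFst z f)))) (toOverCat U₀)) =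
      BasedFunctor.comp (ofSpMap (σ ≫ spMapOfOver (BasedFunctor.comp e (FibCat.fpFst z f)))) (toOverCat U₀) from rfl, hσ]
    rfl
  exact ⟨BasedFunctor.comp L (FibCat.fpSnd z f),
    ⟨(whiskerL L (FibCat.fpIso z f)).symm ≪≫ whiskerR i z⟩⟩

/-- A lift of the object gives a point of the representing space. -/
theorem exists_section_of_lift {f : 𝒴 ⥤ᵇ 𝒳} {U₀ : Over S} {z : FibCat.overCat U₀ ⥤ᵇ 𝒳} {F : AlgSp.Sp S}
    {e : ofSp F ⥤ᵇ FibCat.fp z f} (he : FibCat.IsEquivOver e) {T : Over S} (φ : T ⟶ U₀)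
    (y : FibCat.overCat T ⥤ᵇ 𝒴) (α : BasedFunctor.comp y f ≅ BasedFunctor.comp (overMap φ) z) :
    ∃ σ : (AlgSp.yon S).obj T ⟶ F,
      σ ≫ spMapOfOver (BasedFunctor.comp e (FibCat.fpFst z f)) = (AlgSp.yon S).map φ := by
  obtain ⟨c, -, -, ⟨ic⟩⟩ := exists_inverse he
  let L := FibCat.fpLift (overMap φ) y α.symm
  let Ψ : ofSp ((AlgSp.yon S).obj T) ⥤ᵇ ofSp F := BasedFunctor.comp (BasedFunctor.comp (toOverCat T) L) c
  refine ⟨spMap Ψ, ?_⟩
  rw [← spMapOfOver_ofSpMap_comp, ← spMapOfOver_congr (whiskerR (isoOfSpMap Ψ) _),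
    show BasedFunctor.comp Ψ (BasedFunctor.comp e (FibCat.fpFst z f)) =
      BasedFunctor.comp (BasedFunctor.comp (toOverCat T) L) (BasedFunctor.comp (BasedFunctor.comp c e) (FibCat.fpFst z f)) from rfl,
    spMapOfOver_congr (whiskerL (BasedFunctor.comp (toOverCat T) L) (whiskerR ic (FibCat.fpFst z f)))]
  rw [show BasedFunctor.comp (BasedFunctor.comp (toOverCat T) L) (BasedFunctor.comp (BasedFunctor.id _) (FibCat.fpFst z f)) =
    BasedFunctor.comp (toOverCat T) (overMap φ) from rfl, spMapOfOver_overMap, spMapOfOver_toOverCat, Category.id_comp]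

theorem repWith_qcMor_of_dense_lift (h𝒳 : AlgSt.IsAlgStack Scheme.fppfPrecoverage 𝒳)
    (h𝒴 : AlgSt.IsAlgStack Scheme.fppfPrecoverage 𝒴)
    (hnoeth : AlgSt.SmoothLocally (fun X => IsLocallyNoetherian X) 𝒳) (f : 𝒴 ⥤ᵇ 𝒳)
    (hrep : AlgSt.RepByAlgSp1 f) (ha : AlgSt.IsMono f)
    (hc : ∀ (A : Type u) [CommRing A] [IsDomain A] (sA : Spec (CommRingCat.of A) ⟶ S)
      (a : FibCat.overCat (Over.mk sA) ⥤ᵇ 𝒳) (D : Set ↥(Spec (CommRingCat.of A))), Dense D →
      (∀ p ∈ D, ∃ yp : FibCat.overCat (Over.mk ((Spec (CommRingCat.of A)).fromSpecResidueField p ≫ sA)) ⥤ᵇ 𝒴,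
          Nonempty (BasedFunctor.comp yp f ≅ BasedFunctor.comp (AlgSt.overMap (Over.homMk ((Spec (CommRingCat.of A)).fromSpecResidueField p) rfl : Over.mk (((Spec (CommRingCat.of A)).fromSpecResidueField p) ≫ sA) ⟶ Over.mk sA)) a)) →
      ∃ U : (Spec (CommRingCat.of A)).Opens, (U : Set ↥(Spec (CommRingCat.of A))).Nonempty ∧
        ∃ yU : FibCat.overCat (Over.mk (U.ι ≫ sA)) ⥤ᵇ 𝒴,
          Nonempty (BasedFunctor.comp yU f ≅ BasedFunctor.comp (AlgSt.overMap (Over.homMk (U.ι) rfl : Over.mk ((U.ι) ≫ sA) ⟶ Over.mk sA)) a)) :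
    AlgSt.RepByAlgSpWith AlgSp.IsQuasiCompactMor f := by
  obtain ⟨U₀, z, hz, hzs⟩ := h𝒳.atlas
  have : IsLocallyNoetherian U₀.left := hnoeth U₀ z hz
  have hz₁ : RepByAlgSpWith (AlgSp.LocP @Flat) z := repWith_mono (fun F U _ a h => fun U' V α b k hα hb w => by
    have := h α b k hα hb w; infer_instance) hz
  have hz₂ : RepByAlgSpWith (AlgSp.LocP @LocallyOfFinitePresentation) z := repWith_mono (fun F U _ a h => fun U' V α b k hα hb w => by
    have := h α b k hα hb w; infer_instance) hz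
  have hB : PBase (AlgSp.IsQuasiCompactMor : MorphismProperty (AlgSp.Sp S)) :=
    fun _ _ _ _ _ _ _ _ _ _ _ _ sq h => Groth.L23.qcMor_of_isPullback sq h
  refine (repWith_iff_fpFst_cover hB Groth.L24.Alg.isLocalOnBase_fppf_qcMor h𝒴.isStack.1 h𝒳.isStack.1
    (overCat_isFibGrpd U₀) hrep hz₁ hz₂ hzs).2 ?_
  obtain ⟨F, e, he, hmono⟩ := ha U₀ z
  let a := spMapOfOver (BasedFunctor.comp e (FibCat.fpFst z f))
  have : Mono a := hmono
  have hqc : AlgSp.IsQuasiCompactMor a := by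
    refine isQuasiCompactMor_of_dense_lift a fun A _ _ g D hD hlift => ?_
    let g' : Over.mk (g ≫ U₀.hom) ⟶ U₀ := Over.homMk g rfl
    obtain ⟨V, hV, yV, ⟨α⟩⟩ := hc A (g ≫ U₀.hom) (BasedFunctor.comp (overMap g') z) D hD fun q hq => by
      obtain ⟨σ, hσ⟩ := hlift q hq
      obtain ⟨y, ⟨i⟩⟩ := exists_lift_of_section e _ σ hσ
      exact ⟨y, ⟨i ≪≫ (whiskerR (eqToIso (congrArg overMap (Over.OverMorphism.ext rfl)) ≪≫
        overMapCompIso (Over.homMk ((Spec (CommRingCat.of A)).fromSpecResidueField q) rfl :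
          Over.mk ((Spec (CommRingCat.of A)).fromSpecResidueField q ≫ g ≫ U₀.hom) ⟶ Over.mk (g ≫ U₀.hom)) g') z)⟩⟩
    obtain ⟨σ, hσ⟩ := exists_section_of_lift he (Over.homMk (V.ι ≫ g) rfl : Over.mk (V.ι ≫ g ≫ U₀.hom) ⟶ U₀)
      yV (α ≪≫ whiskerR ((overMapCompIso _ g').symm ≪≫ eqToIso (congrArg overMap (Over.OverMorphism.ext rfl))) z)
    exact ⟨V, hV, σ, hσ⟩
  exact (repWith_precomp he _).1 ((repWith_congr (overFactor _)).2
    ((repWith_postcomp (toOverCat_isEquivOver U₀) _).2 (repWith_ofSpMap_of_prop hB F.property (AlgSp.IsAlgSpace.yon_obj U₀) a hqc)))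

end Groth.L24.St
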