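import Groth.Agent.L24.St.Rep

/-!
Algebraic stacks are invariant under equivalence.
-/

set_option autoImplicit false
set_option backward.isDefEq.respectTransparency false
set_option backward.isDefEq.respectTransparency.types false

universe v₃ u₃ v₂ u₂ u

open CategoryTheory CategoryTheory.Limits AlgebraicGeometry

namespace Groth.L24.St

variable {S : Scheme.{u}} {𝒳 : BasedCategory.{v₂, u₂} (Over S)} {𝒴 : BasedCategory.{v₃, u₃} (Over S)}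

/-- A functor over the base commutes with the structure functors, as a 2-isomorphism. -/
def toSelfIso {C : Type*} [Category C] {𝒳 : BasedCategory.{v₂, u₂} C} {𝒴 : BasedCategory.{v₃, u₃} C}
    (e : 𝒳 ⥤ᵇ 𝒴) : BasedFunctor.comp e (FibCat.toSelf 𝒴) ≅ FibCat.toSelf 𝒳 :=
  mkIso2 (fun x => eqToIso (e.w_obj x))
    (fun x y φ => by
      have h := Functor.congr_hom e.w φ
      show 𝒴.p.map (e.map φ) ≫ eqToHom (e.w_obj y) = eqToHom (e.w_obj x) ≫ 𝒳.p.map φ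
      simp only [Functor.comp_map] at h
      simp [h])
    (fun x => OverId.of_eq (𝒳 := FibCat.selfOver C) (e.w_obj x) rfl)

/-- The diagonal square of an equivalence. -/
def diagIso {C : Type*} [Category C] {𝒳 : BasedCategory.{v₂, u₂} C} {𝒴 : BasedCategory.{v₃, u₃} C}
    (e : 𝒳 ⥤ᵇ 𝒴) :
    BasedFunctor.comp (FibCat.diag (FibCat.toSelf 𝒳)) (fpMap e e (toSelfIso e) (toSelfIso e)) ≅
      BasedFunctor.comp e (FibCat.diag (FibCat.toSelf 𝒴)) :=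
  mkIso2
    (fun x => fpIsoMk (Iso.refl _) (Iso.refl _) (by
      show (FibCat.toSelf 𝒴).map (𝟙 (e.obj x)) ≫ 𝟙 _ =
        ((eqToHom (e.w_obj x)) ≫ 𝟙 _ ≫ eqToHom (e.w_obj x).symm) ≫ (FibCat.toSelf 𝒴).map (𝟙 (e.obj x))
      simp [FibCat.toSelf]))
    (fun x y φ => fp_ext
      (show e.map φ ≫ 𝟙 _ = 𝟙 _ ≫ e.map φ by simp)
      (show e.map φ ≫ 𝟙 _ = 𝟙 _ ≫ e.map φ by simp))
    (fun x => overId_fp _ (overId_id _))

theorem hasAtlas_of_equiv {e : 𝒳 ⥤ᵇ 𝒴} (he : FibCat.IsEquivOver e) {P : MorphismProperty (AlgSp.Sp S)}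
    (h : AlgSt.HasAtlas P 𝒳) : AlgSt.HasAtlas P 𝒴 := by
  obtain ⟨U, x, h1, h2⟩ := h
  exact ⟨U, BasedFunctor.comp x e, (repWith_postcomp he x).2 h1, (repWith_postcomp he x).2 h2⟩

theorem diag_rep1_iff {e : 𝒳 ⥤ᵇ 𝒴} (he : FibCat.IsEquivOver e) :
    AlgSt.RepByAlgSp1 (FibCat.diag (FibCat.toSelf 𝒴)) ↔ AlgSt.RepByAlgSp1 (FibCat.diag (FibCat.toSelf 𝒳)) := by
  rw [rep1_iff, rep1_iff]
  exact repWith_square he (fpMap_isEquivOver he he _ _) (diagIso e)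

theorem isAlgStack_of_equiv {K : Precoverage Scheme.{u}} {e : 𝒳 ⥤ᵇ 𝒴} (he : FibCat.IsEquivOver e)
    (h : AlgSt.IsAlgStack K 𝒳) : AlgSt.IsAlgStack K 𝒴 :=
  ⟨(L09.Fib.isStack_iff _ he).1 h.isStack, (diag_rep1_iff he).2 h.diag, hasAtlas_of_equiv he h.atlas⟩

theorem isAlgStack_iff {K : Precoverage Scheme.{u}} {e : 𝒳 ⥤ᵇ 𝒴} (he : FibCat.IsEquivOver e) :
    AlgSt.IsAlgStack K 𝒳 ↔ AlgSt.IsAlgStack K 𝒴 := by
  obtain ⟨c, hc, -, -⟩ := exists_inverse he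
  exact ⟨isAlgStack_of_equiv he, isAlgStack_of_equiv hc⟩

theorem isDM_iff {K : Precoverage Scheme.{u}} {e : 𝒳 ⥤ᵇ 𝒴} (he : FibCat.IsEquivOver e) :
    AlgSt.IsDM K 𝒳 ↔ AlgSt.IsDM K 𝒴 := by
  obtain ⟨c, hc, -, -⟩ := exists_inverse he
  exact and_congr (isAlgStack_iff he) ⟨hasAtlas_of_equiv he, hasAtlas_of_equiv hc⟩

end Groth.L24.St
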