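import Groth.Agent.L23.Points
import Groth.Agent.L23.Cover
import Groth.Prelude.Def_AlgSpCov
import Mathlib.AlgebraicGeometry.Morphisms.Etale

/-!
Atlases of algebraic spaces are coverings.
-/

set_option autoImplicit false
set_option backward.isDefEq.respectTransparency false
set_option backward.isDefEq.respectTransparency.types false

universe u

open CategoryTheory CategoryTheory.Limits AlgebraicGeometry AlgSp Groth.L23

namespace Groth.L24.St

variable {S : Scheme.{u}} {G : Sp S} {U : Over S} {p : (yon S).obj U ⟶ G}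

theorem isEtaleMor_of_repWith (hp : RepWith @Etale p) : IsEtaleMor p :=
  fun _ _ hφ => repWith_comp hφ hp

theorem etale_chart_of_square {F : Sp S} {a : F ⟶ G} {U' V : Over S} {α : (yon S).obj U' ⟶ F}
    {b : (yon S).obj V ⟶ G} {h : U' ⟶ V} (hαa : RepWith @Etale (α ≫ a)) (hb : RepWith @Etale b)
    (w : α ≫ a = (yon S).map h ≫ b) : Etale h.left := by
  obtain ⟨W, pV, pU, sq⟩ := exists_isPullback_of_representable hb.1 (α ≫ a)
  have h1 : Etale pU.left := repWith_prop hb sq
  have h2 : Etale pV.left := repWith_prop hαa sq.flip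
  let l := sq.lift ((yon S).map h) (𝟙 _) (by simpa using w.symm)
  obtain ⟨l', hl'⟩ := (yon S).map_surjective l
  have e1 : l' ≫ pV = h := (yon S).map_injective (by rw [(yon S).map_comp, hl']; exact sq.lift_fst _ _ _)
  have e2 : l' ≫ pU = 𝟙 U' := (yon S).map_injective (by
    rw [(yon S).map_comp, hl', CategoryTheory.Functor.map_id]; exact sq.lift_snd _ _ _)
  have e2' : l'.left ≫ pU.left = 𝟙 U'.left := congrArg CommaMorphism.left e2
  have : Etale (l'.left ≫ pU.left) := by rw [e2']; infer_instance
  have : Etale l'.left := Etale.of_comp _ pU.left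
  rw [← e1]
  exact inferInstanceAs (Etale (l'.left ≫ pV.left))

theorem locP_of_repWith_etale {P : MorphismProperty Scheme.{u}}
    (hP : ∀ {X Y : Scheme.{u}} (f : X ⟶ Y), Etale f → P f) (hp : RepWith @Etale p) : LocP P p :=
  fun _ _ _ _ _ hα hb w => hP _ (etale_chart_of_square (repWith_comp hα hp) hb w)

theorem atlas_isEtCover (hp : RepWith @Etale p) (hs : RepWith @Surjective p) :
    IsEtCover (ι := PUnit.{u + 1}) (fun _ => (yon S).obj U) (fun _ => p) :=
  ⟨fun _ => isEtaleMor_of_repWith hp, fun x => ⟨⟨⟩, surjective_map_of_repWith hs x⟩⟩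

theorem atlas_isFppfCover (hp : RepWith @Etale p) (hs : RepWith @Surjective p) :
    IsFppfCover (ι := PUnit.{u + 1}) (fun _ => (yon S).obj U) (fun _ => p) :=
  ⟨fun _ => ⟨locP_of_repWith_etale (fun _ h => inferInstance) hp,
    locP_of_repWith_etale (fun _ h => inferInstance) hp⟩,
    fun x => ⟨⟨⟩, surjective_map_of_repWith hs x⟩⟩

/-- Coverings include atlases: the condition used when descending properties from schemes to spaces. -/
def HasAtlasCovers (τ : CovNotion S) : Prop :=
  ∀ ⦃U : Over S⦄ ⦃G : Sp S⦄ (p : (yon S).obj U ⟶ G), RepWith @Etale p → RepWith @Surjective p →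
    τ (ι := PUnit.{u + 1}) (fun _ => (yon S).obj U) (fun _ => p)

theorem hasAtlasCovers_et : HasAtlasCovers (S := S) IsEtCover := fun _ _ _ hp hs => atlas_isEtCover hp hs

theorem hasAtlasCovers_fppf : HasAtlasCovers (S := S) IsFppfCover := fun _ _ _ hp hs => atlas_isFppfCover hp hs

end Groth.L24.St
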