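import Groth.Agent.L24.St.DiagRep
import Groth.Agent.L23.Basic

/-!
Properties descending from base changes to schemes, for composition.
-/

set_option autoImplicit false
set_option backward.isDefEq.respectTransparency false
set_option backward.isDefEq.respectTransparency.types false

universe u

open CategoryTheory CategoryTheory.Limits AlgebraicGeometry Opposite AlgSp

namespace Groth.L24.St

variable {S : Scheme.{u}} {P : MorphismProperty (Sp S)}

/-- A property of maps of spaces is detected on base changes to schemes. -/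
def Descends (P : MorphismProperty (Sp S)) : Prop :=
  ∀ ⦃V G : Sp S⦄ (a : V ⟶ G), IsAlgSpace V → IsAlgSpace G →
    (∀ (T : Over S) (g : (yon S).obj T ⟶ G), P (pullback.snd a g)) → P a

theorem prop_snd_of_repWith (hB : PBase P) {V G : Sp S} (hV : IsAlgSpace V) (hG : IsAlgSpace G) (a : V ⟶ G)
    (ha : AlgSt.RepByAlgSpWith P (AlgSt.ofSpMap a)) (T : Over S) (g : (yon S).obj T ⟶ G) :
    P (pullback.snd a g) := by
  have sq' := (IsPullback.of_hasPullback a g).map (sheafToPresheaf (J S) (Type (u + 1)))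
  have hW : IsAlgSpace (pullback a g) :=
    (isAlgSpaceP_obj_iff _).1 ((repBySp_iff a.hom).2 (repWith_rep1 ha) g.hom _ _ sq')
  have sq'' : IsPullback (pullback.fst a g).hom (pullback.snd a g).hom a.hom (pointOf (funOf g.hom)) := by
    rw [pointOf_funOf]; exact sq'
  have hw := Wit.prop_of_equiv (fun F F' hF hF' i hi b hb => hB.iso_left hF hF' (IsAlgSpace.yon_obj T) i hb)
    (ha T (funOf g.hom)) hW (baseFp a.hom _ sq'') (baseFp_isEquivOver a.hom _ sq'')
  erw [baseFp_spMap a.hom _ sq'' (pullback a g).property] at hw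
  exact hw

theorem repWith_comp_desc {𝒳 𝒴 𝒵 : BasedCategory.{u, u + 1} (Over S)} (hB : PBase P) (hC : PComp P)
    (hD : Descends P) (h𝒳 : FibCat.IsFibGrpd 𝒳.p) (h𝒴 : FibCat.IsFibGrpd 𝒴.p) {f : 𝒳 ⥤ᵇ 𝒴}
    {g : 𝒴 ⥤ᵇ 𝒵} (hf : AlgSt.RepByAlgSpWith P f) (hg : AlgSt.RepByAlgSpWith P g) :
    AlgSt.RepByAlgSpWith P (BasedFunctor.comp f g) :=
  repWith_comp_of hC (fun G hG z => by
    obtain ⟨V, a, e, hV, he, hi, ha⟩ := exists_space h𝒳 h𝒴 hf hG z
    exact ⟨V, a, e, hV, he, hi, hD a hV hG (prop_snd_of_repWith hB hV hG a ha)⟩) hg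

theorem descends_repWith (Q : MorphismProperty Scheme.{u}) [Q.IsStableUnderBaseChange] :
    Descends (RepWith Q : MorphismProperty (Sp S)) := by
  intro V G a _ _ h
  refine Groth.L23.repWith_of_exists fun T g => ?_
  have ha := h T g
  have sq₁ := ha.1.isPullback (𝟙 ((yon S).obj T))
  have sq := sq₁.paste_horiz (IsPullback.of_hasPullback a g)
  rw [Category.id_comp] at sq
  exact ⟨_, _, _, sq, Groth.L23.repWith_prop ha sq₁⟩

theorem descends_mono : Descends (MorphismProperty.monomorphisms (Sp S)) := by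
  intro V G a _ _ h
  refine Groth.L23.mono_of_yon fun T x y w => ?_
  have : Mono (pullback.snd a (x ≫ a)) := h T (x ≫ a)
  have e : pullback.lift x (𝟙 _) (by simp) = pullback.lift y (𝟙 _) (by simp [w] : y ≫ a = 𝟙 _ ≫ x ≫ a) := by
    rw [← cancel_mono (pullback.snd a (x ≫ a)), pullback.lift_snd, pullback.lift_snd]
  simpa using congrArg (fun k => k ≫ pullback.fst a (x ≫ a)) e

instance repWith_isStableUnderComposition' (Q : MorphismProperty Scheme.{u}) [Q.IsStableUnderBaseChange]
    [Q.IsStableUnderComposition] : (RepWith Q : MorphismProperty (Sp S)).IsStableUnderComposition where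
  comp_mem _ _ hf hg := Groth.L23.repWith_comp hf hg

theorem pBase_repWith (Q : MorphismProperty Scheme.{u}) [Q.IsStableUnderBaseChange] :
    PBase (RepWith Q : MorphismProperty (Sp S)) :=
  fun _ _ _ _ _ _ _ _ _ _ _ _ sq h => Groth.L23.repWith_of_isPullback sq h

theorem pBase_mono : PBase (MorphismProperty.monomorphisms (Sp S)) :=
  fun _ _ _ _ _ _ _ _ _ _ _ _ sq h => (MorphismProperty.monomorphisms (Sp S)).of_isPullback sq h

theorem pComp_mono : PComp (MorphismProperty.monomorphisms (Sp S)) :=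
  fun _ _ _ _ _ _ a b ha hb => by
    have : Mono a := ha
    have : Mono b := hb
    exact (inferInstance : Mono (a ≫ b))

end Groth.L24.St
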