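import Groth.Agent.L24.St.PshRep
import Groth.Agent.L23.RepBySp

/-!
Morphisms between categories represented by algebraic spaces.
-/

set_option autoImplicit false
set_option backward.isDefEq.respectTransparency false
set_option backward.isDefEq.respectTransparency.types false

universe v₃ u₃ v₂ u₂ u

open CategoryTheory CategoryTheory.Limits AlgebraicGeometry Opposite AlgSp

namespace Groth.L24.St

variable {S : Scheme.{u}} {𝒳 : BasedCategory.{v₂, u₂} (Over S)} {𝒴 : BasedCategory.{v₃, u₃} (Over S)}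

theorem repBySp_of_isAlgSpace {F G : Sp S} (hF : IsAlgSpace F) (hG : IsAlgSpace G) (a : F.obj ⟶ G.obj) :
    RepBySp a :=
  fun U _ _ _ _ sq => Groth.L23.isAlgSpaceP_of_isPullback ((isAlgSpaceP_obj_iff _).2 hG)
    ((isAlgSpaceP_obj_iff _).2 hF) ((isAlgSpaceP_obj_iff _).2 (IsAlgSpace.yon_obj U)) sq

theorem rep1_of_repByAlgSp (hX : AlgSt.RepByAlgSp 𝒳) (hY : AlgSt.RepByAlgSp 𝒴) (f : 𝒳 ⥤ᵇ 𝒴) :
    AlgSt.RepByAlgSp1 f := by
  obtain ⟨F, eX, heX⟩ := hX
  obtain ⟨G, eY, heY⟩ := hY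
  obtain ⟨c, hc, -, ⟨i⟩⟩ := exists_inverse heY
  let f0 : AlgSt.ofSp F.obj ⥤ᵇ AlgSt.ofSp G.obj := BasedFunctor.comp eX (BasedFunctor.comp f c)
  have h0 := (rep1_iff _).1 ((repBySp_iff (pshMapOf f0)).1 (repBySp_of_isAlgSpace F.property G.property _))
  rw [rep1_iff]
  exact (repWith_square heX heY
    (whiskerR (isoOfPshMapOf f0).symm eY ≪≫ whiskerL (BasedFunctor.comp eX f) i)).2 h0

end Groth.L24.St
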