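import Groth.Agent.L24.St.DiagRep
import Groth.Agent.L24.St.Fibrewise
import Groth.Agent.L24.St.SpaceMap

/-!
The absolute diagonal; cartesian diagonal squares of monomorphisms.
-/

set_option autoImplicit false
set_option backward.isDefEq.respectTransparency false
set_option backward.isDefEq.respectTransparency.types false

universe u

open CategoryTheory CategoryTheory.Limits AlgebraicGeometry Opposite AlgSp

namespace Groth.L24.St

variable {S : Scheme.{u}}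

theorem toSelf_isEquivOver_of_terminal :
    FibCat.IsEquivOver (FibCat.toSelf (FibCat.overCat (Over.mk (𝟙 S)))) := by
  let T₀ : Over S := Over.mk (𝟙 S)
  have : (FibCat.toSelf (FibCat.overCat T₀)).toFunctor.Faithful :=
    inferInstanceAs (Over.forget T₀).Faithful
  have : (FibCat.toSelf (FibCat.overCat T₀)).toFunctor.Full := ⟨fun {a b} m =>
    ⟨Over.homMk m (Over.OverMorphism.ext (by
      have e1 := Over.w ((show a.left ⟶ b.left from m) ≫ b.hom)
      have e2 := Over.w a.hom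
      simp only [T₀, Over.mk_hom, Category.comp_id] at e1 e2
      exact e1.trans e2.symm)), rfl⟩⟩
  refine isEquivOver_of_overId _ fun T => ⟨Over.mk (Over.homMk T.hom (Category.comp_id _)), Iso.refl _, overId_id _⟩

theorem selfOver_repByAlgSp : AlgSt.RepByAlgSp (FibCat.selfOver (Over S)) :=
  (repByAlgSp_of_equiv toSelf_isEquivOver_of_terminal).1 (overCat_repByAlgSp _)

theorem repByAlgSp1_diag_iff {𝒳 : BasedCategory.{u, u + 1} (Over S)} (h𝒳 : FibCat.IsFibGrpd 𝒳.p) :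
    AlgSt.RepByAlgSp1 (FibCat.diag (FibCat.toSelf 𝒳)) ↔
      ∀ (U : Over S) (x : FibCat.overCat U ⥤ᵇ 𝒳), AlgSt.RepByAlgSp1 x := by
  have hS : FibCat.IsFibGrpd (FibCat.selfOver (Over S)).p := (L09.Fib.isFibSet_id _).1
  refine ⟨fun h U x => rep1_of_comp (overCat_isFibGrpd U) h𝒳 hS
    (rep1_of_repByAlgSp (overCat_repByAlgSp U) selfOver_repByAlgSp (BasedFunctor.comp x (FibCat.toSelf 𝒳))) h,
    fun h U y => ?_⟩
  let t := FibCat.toSelf 𝒳
  let x₁ := BasedFunctor.comp y (FibCat.fpFst t t)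
  let x₂ := BasedFunctor.comp y (FibCat.fpSnd t t)
  have hW : AlgSt.RepByAlgSp (FibCat.fp x₁ x₂) :=
    repByAlgSp_fp (overCat_isFibGrpd U) h𝒳 (h U x₂) x₁ (overCat_repByAlgSp U)
  have hV : AlgSt.RepByAlgSp (FibCat.fp (BasedFunctor.comp x₁ t) (BasedFunctor.comp x₂ t)) :=
    repByAlgSp_fp (overCat_isFibGrpd U) hS
      (rep1_of_repByAlgSp (overCat_repByAlgSp U) selfOver_repByAlgSp _) _ (overCat_repByAlgSp U)
  have h1 : AlgSt.RepByAlgSpWith ⊤ (FibCat.fpFst (cmpMap x₁ x₂ t) (FibCat.diag t)) := by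
    have h2 := (rep1_iff _).1 (rep1_of_repByAlgSp hW hV (fpPost x₁ x₂ t))
    rw [← cmpLift_fst x₁ x₂ t] at h2
    exact (repWith_precomp (cmpLift_isEquivOver x₁ x₂ t) _).1 h2
  let δ : FibCat.overCat U ⥤ᵇ FibCat.fp (BasedFunctor.comp x₁ t) (BasedFunctor.comp x₂ t) :=
    FibCat.fpLift (BasedFunctor.id _) (BasedFunctor.id _)
      (show BasedFunctor.comp (BasedFunctor.id _) (BasedFunctor.comp x₁ t) ≅
          BasedFunctor.comp (BasedFunctor.id _) (BasedFunctor.comp x₂ t) from whiskerL y (FibCat.fpIso t t))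
  let i : BasedFunctor.comp δ (cmpMap x₁ x₂ t) ≅ y :=
    mkIso2 (fun x => fpIsoMk (Iso.refl _) (Iso.refl _) (by
        show t.map (𝟙 _) ≫ (y.obj x).obj.iso.hom = (y.obj x).obj.iso.hom ≫ t.map (𝟙 _)
        rw [CategoryTheory.Functor.map_id, CategoryTheory.Functor.map_id]
        exact (Category.id_comp _).trans (Category.comp_id _).symm))
      (fun x x' m => fp_ext (show (y.map m).hom.fst ≫ 𝟙 _ = 𝟙 _ ≫ (y.map m).hom.fst by simp)
        (show (y.map m).hom.snd ≫ 𝟙 _ = 𝟙 _ ≫ (y.map m).hom.snd by simp))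
      (fun x => overId_fp _ (overId_id _))
  obtain ⟨F, e, he, -⟩ := (wit_congr i (Iso.refl _)).1
    ((Wit.transfer (fpPaste δ (cmpMap x₁ x₂ t) (FibCat.diag t)) (fpPaste_isEquivOver _ _ _) (Iso.refl _)).1 (h1 U δ))
  exact ⟨F, e, he⟩

theorem isTwoCartOver_diag_sq {𝒳 𝒳' 𝒴 : BasedCategory.{u, u + 1} (Over S)} (i : 𝒳 ⥤ᵇ 𝒳') (g : 𝒳' ⥤ᵇ 𝒴)
    [i.toFunctor.Full] [i.toFunctor.Faithful] :
    FibCat.IsTwoCartOver (F := cmpMap i i g) (G := FibCat.diag g) (FibCat.diag (BasedFunctor.comp i g)) i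
      (Iso.refl _) := by
  show FibCat.IsEquivOver _
  let Λ : 𝒳 ⥤ᵇ FibCat.fp (cmpMap i i g) (FibCat.diag g) :=
    FibCat.fpLift (FibCat.diag (BasedFunctor.comp i g)) i
      (show BasedFunctor.comp (FibCat.diag (BasedFunctor.comp i g)) (cmpMap i i g) ≅
        BasedFunctor.comp i (FibCat.diag g) from Iso.refl _)
  show FibCat.IsEquivOver Λ
  have : Λ.toFunctor.Faithful := ⟨fun {x y m m'} h =>
    congrArg (fun k : Λ.obj x ⟶ Λ.obj y => k.hom.fst.hom.fst) h⟩
  have : Λ.toFunctor.Full := ⟨fun {x y} M => by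
    have h1 : i.map M.hom.fst.hom.fst ≫ 𝟙 _ = 𝟙 _ ≫ M.hom.snd :=
      congrArg (fun k : (cmpMap i i g).obj (Λ.obj x).obj.fst ⟶ (FibCat.diag g).obj (Λ.obj y).obj.snd => k.hom.fst)
        M.hom.w
    have h2 : i.map M.hom.fst.hom.snd ≫ 𝟙 _ = 𝟙 _ ≫ M.hom.snd :=
      congrArg (fun k : (cmpMap i i g).obj (Λ.obj x).obj.fst ⟶ (FibCat.diag g).obj (Λ.obj y).obj.snd => k.hom.snd)
        M.hom.w
    rw [Category.comp_id, Category.id_comp] at h1 h2
    exact ⟨M.hom.fst.hom.fst, fp_ext (fp_ext rfl (i.toFunctor.map_injective (h1.trans h2.symm))) h1⟩⟩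
  refine isEquivOver_of_overId _ fun η => ?_
  let a : i.obj η.obj.fst.obj.fst ≅ η.obj.snd := (FibCat.fpFst g g).toFunctor.mapIso η.obj.iso
  let b : i.obj η.obj.fst.obj.snd ≅ η.obj.snd := (FibCat.fpSnd g g).toFunctor.mapIso η.obj.iso
  let c : η.obj.fst.obj.fst ≅ η.obj.fst.obj.snd := i.toFunctor.preimageIso (a ≪≫ b.symm)
  have hc : i.map c.hom = a.hom ≫ b.inv := i.toFunctor.map_preimage _
  have hw : g.map a.hom ≫ 𝟙 _ = η.obj.fst.obj.iso.hom ≫ g.map b.hom := η.obj.iso.hom.hom.w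
  rw [Category.comp_id] at hw
  refine ⟨η.obj.fst.obj.fst, fpIsoMk (fpIsoMk (Iso.refl _) c ?_) a ?_,
    overId_fp _ (overId_fp _ (overId_id _))⟩
  · show g.map (i.map (𝟙 _)) ≫ η.obj.fst.obj.iso.hom = 𝟙 _ ≫ g.map (i.map c.hom)
    rw [hc, Category.id_comp, CategoryTheory.Functor.map_id, CategoryTheory.Functor.map_id,
      CategoryTheory.Functor.map_comp, hw, Category.assoc, ← g.toFunctor.map_comp, Iso.hom_inv_id,
      CategoryTheory.Functor.map_id]
    exact (Category.id_comp _).trans (Category.comp_id _).symm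
  · refine fp_ext ?_ ?_
    · show i.map (𝟙 _) ≫ a.hom = 𝟙 _ ≫ a.hom
      simp
    · show i.map c.hom ≫ b.hom = 𝟙 _ ≫ a.hom
      rw [hc]
      simp

end Groth.L24.St
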