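import Groth.Agent.L24.St.OverSpace

/-!
Consequences of base change to algebraic spaces.
-/

set_option autoImplicit false
set_option backward.isDefEq.respectTransparency false
set_option backward.isDefEq.respectTransparency.types false

universe u

open CategoryTheory CategoryTheory.Limits AlgebraicGeometry Opposite AlgSp

namespace Groth.L24.St

variable {S : Scheme.{u}} {P : MorphismProperty (Sp S)}
  {𝒳 𝒴 𝒵 : BasedCategory.{u, u + 1} (Over S)}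

theorem overCat_repByAlgSp (U : Over S) : AlgSt.RepByAlgSp (FibCat.overCat U) :=
  ⟨⟨(yon S).obj U, IsAlgSpace.yon_obj U⟩, AlgSt.toOverCat U, toOverCat_isEquivOver U⟩

theorem repByAlgSp_fp (h𝒳 : FibCat.IsFibGrpd 𝒳.p) (h𝒴 : FibCat.IsFibGrpd 𝒴.p) {f : 𝒳 ⥤ᵇ 𝒴}
    (hf : AlgSt.RepByAlgSp1 f) (g : 𝒵 ⥤ᵇ 𝒴) (hZ : AlgSt.RepByAlgSp 𝒵) :
    AlgSt.RepByAlgSp (FibCat.fp g f) := by
  obtain ⟨G, eZ, heZ⟩ := hZ
  obtain ⟨V, a, e, hV, he, -, -⟩ :=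
    exists_space h𝒳 h𝒴 ((rep1_iff f).1 hf) G.property (BasedFunctor.comp eZ g)
  exact ⟨⟨V, hV⟩, BasedFunctor.comp e (fpMap eZ (BasedFunctor.id _) (Iso.refl _) (Iso.refl _)),
    isEquivOver_comp he (fpMap_isEquivOver heZ (isEquivOver_id _) _ _)⟩

theorem forall_rep1_iff (h𝒳 : FibCat.IsFibGrpd 𝒳.p) :
    (∀ (U : Over S) (x : FibCat.overCat U ⥤ᵇ 𝒳), AlgSt.RepByAlgSp1 x) ↔
      ∀ (𝒰 : BasedCategory.{u, u + 1} (Over S)), FibCat.IsFibGrpd 𝒰.p → AlgSt.RepByAlgSp 𝒰 →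
        ∀ (x : 𝒰 ⥤ᵇ 𝒳), AlgSt.RepByAlgSp1 x := by
  refine ⟨fun h 𝒰 h𝒰 hr x U y => ?_, fun h U x => h _ (overCat_isFibGrpd U) (overCat_repByAlgSp U) x⟩
  exact (repByAlgSp_of_equiv fpSwap_isEquivOver).1
    (repByAlgSp_fp (overCat_isFibGrpd U) h𝒳 (h U y) x hr)

theorem repWith_of_forall_space {f : 𝒳 ⥤ᵇ 𝒴}
    (h : ∀ (Z : AlgSp.Space S) (z : AlgSt.ofSp Z.obj ⥤ᵇ 𝒴),
        ∃ (V : AlgSp.Space S) (a : V ⟶ Z) (e : AlgSt.ofSp V.obj ⥤ᵇ FibCat.fp z f),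
          FibCat.IsEquivOver e ∧
            Nonempty (BasedFunctor.comp e (FibCat.fpFst z f) ≅ AlgSt.ofSpMap a.hom) ∧ P a.hom) :
    AlgSt.RepByAlgSpWith P f := by
  intro U y
  obtain ⟨V, a, e, he, ⟨i⟩, hP⟩ := h ⟨(yon S).obj U, IsAlgSpace.yon_obj U⟩
    (BasedFunctor.comp (AlgSt.toOverCat U) y)
  let Θ : FibCat.fp (BasedFunctor.comp (AlgSt.toOverCat U) y) f ⥤ᵇ FibCat.fp y f :=
    fpMap (AlgSt.toOverCat U) (BasedFunctor.id _) (Iso.refl _) (Iso.refl _)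
  refine ⟨V, BasedFunctor.comp e Θ, isEquivOver_comp he
    (fpMap_isEquivOver (toOverCat_isEquivOver U) (isEquivOver_id _) _ _), ?_⟩
  have key : AlgSt.spMapOfOver (BasedFunctor.comp (BasedFunctor.comp e Θ) (FibCat.fpFst y f)) = a.hom := by
    rw [show AlgSt.spMapOfOver (BasedFunctor.comp (BasedFunctor.comp e Θ) (FibCat.fpFst y f)) =
      AlgSt.spMapOfOver (BasedFunctor.comp (AlgSt.ofSpMap a.hom) (AlgSt.toOverCat U))
      from spMapOfOver_congr (whiskerR i (AlgSt.toOverCat U)), spMapOfOver_ofSpMap_comp, spMapOfOver_toOverCat,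
      Category.comp_id]
  rw [key]
  exact hP

theorem repWith_iff_forall_space {τ : CovNotion S} (hτ : HasAtlasCovers τ) (hB : PBase P)
    (hL : IsLocalOnBase τ P) (h𝒳 : FibCat.IsFibGrpd 𝒳.p) (h𝒴 : FibCat.IsFibGrpd 𝒴.p) (f : 𝒳 ⥤ᵇ 𝒴) :
    AlgSt.RepByAlgSpWith P f ↔
      ∀ (Z : AlgSp.Space S) (z : AlgSt.ofSp Z.obj ⥤ᵇ 𝒴),
        ∃ (V : AlgSp.Space S) (a : V ⟶ Z) (e : AlgSt.ofSp V.obj ⥤ᵇ FibCat.fp z f),
          FibCat.IsEquivOver e ∧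
            Nonempty (BasedFunctor.comp e (FibCat.fpFst z f) ≅ AlgSt.ofSpMap a.hom) ∧ P a.hom := by
  refine ⟨fun h Z z => ?_, repWith_of_forall_space⟩
  obtain ⟨V, a, e, hV, he, hi, hP⟩ := exists_space_prop hτ hB hL h𝒳 h𝒴 h Z.property z
  exact ⟨⟨V, hV⟩, ObjectProperty.homMk a, e, he, hi, hP⟩

end Groth.L24.St
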