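import Groth.Agent.L24.St.DiagCalc
import Groth.Agent.L24.St.OverSpace2
import Groth.Prelude.Def_AlgSt3
import Groth.Agent.L09.FibFp

/-!
Properties of diagonals, graphs, sections and comparison functors.
-/

set_option autoImplicit false
set_option backward.isDefEq.respectTransparency false
set_option backward.isDefEq.respectTransparency.types false

universe u

open CategoryTheory CategoryTheory.Limits AlgebraicGeometry Opposite AlgSp

namespace Groth.L24.St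

variable {S : Scheme.{u}} {P : MorphismProperty (Sp S)}
  {𝒳 𝒴 𝒵 𝒯 : BasedCategory.{u, u + 1} (Over S)}

theorem cmp_repWith (f : 𝒳 ⥤ᵇ 𝒵) (g : 𝒴 ⥤ᵇ 𝒵) (t : 𝒵 ⥤ᵇ 𝒯)
    (h : AlgSt.RepByAlgSpWith P (FibCat.diag t)) : AlgSt.RepByAlgSpWith P (fpPost f g t) := by
  rw [← cmpLift_fst f g t]
  exact (repWith_precomp (cmpLift_isEquivOver f g t) _).2 (repWith_fpFst _ h)

theorem graph_repWith {p : 𝒳 ⥤ᵇ 𝒯} {q : 𝒴 ⥤ᵇ 𝒯} (g : 𝒳 ⥤ᵇ 𝒴)
    (e : BasedFunctor.comp (BasedFunctor.id 𝒳) p ≅ BasedFunctor.comp g q)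
    (h : AlgSt.RepByAlgSpWith P (FibCat.diag q)) : AlgSt.RepByAlgSpWith P (graphFun g e) := by
  rw [← graphLift_fst g e]
  exact (repWith_precomp (graphLift_isEquivOver g e) _).2 (repWith_fpFst _ h)

theorem diag_fpFst_repWith (g : 𝒵 ⥤ᵇ 𝒴) {f : 𝒳 ⥤ᵇ 𝒴}
    (h : AlgSt.RepByAlgSpWith P (FibCat.diag f)) : AlgSt.RepByAlgSpWith P (FibCat.diag (FibCat.fpFst g f)) := by
  rw [← bcLift_fst g f]
  exact (repWith_precomp (bcLift_isEquivOver g f) _).2 (repWith_fpFst _ h)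

theorem section_repWith {f : 𝒳 ⥤ᵇ 𝒯} (s : 𝒯 ⥤ᵇ 𝒳) (e : BasedFunctor.comp s f ≅ BasedFunctor.id 𝒯)
    (h : AlgSt.RepByAlgSpWith P (FibCat.diag f)) : AlgSt.RepByAlgSpWith P s := by
  have hsnd : FibCat.IsEquivOver (FibCat.fpSnd (BasedFunctor.id 𝒯) f) :=
    isEquivOver_comp fpSwap_isEquivOver (fpFst_isEquivOver (F := f) (isEquivOver_id 𝒯))
  exact (repWith_postcomp hsnd _).2 (graph_repWith s
    (show BasedFunctor.comp (BasedFunctor.id 𝒯) (BasedFunctor.id 𝒯) ≅ BasedFunctor.comp s f from e.symm) h)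

theorem diag_comp_repWith {τ : CovNotion S} (hτ : HasAtlasCovers τ) (hB : PBase P) (hC : PComp P)
    (hL : IsLocalOnBase τ P) (h𝒳 : FibCat.IsFibGrpd 𝒳.p) (h𝒴 : FibCat.IsFibGrpd 𝒴.p)
    {f : 𝒳 ⥤ᵇ 𝒴} {g : 𝒴 ⥤ᵇ 𝒵} (hf : AlgSt.RepByAlgSpWith P (FibCat.diag f))
    (hg : AlgSt.RepByAlgSpWith P (FibCat.diag g)) :
    AlgSt.RepByAlgSpWith P (FibCat.diag (BasedFunctor.comp f g)) :=
  (repWith_congr (diagCompIso f g)).1
    (repWith_comp hτ hB hC hL h𝒳 (L09.Fib.fp_isFibGrpd h𝒳 h𝒳 h𝒴) hf (cmp_repWith f f g hg))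

/-- A map of algebraic spaces with a property stable under base change gives a functor with that property. -/
theorem repWith_ofSpMap_of_prop (hB : PBase P) {V G : Sp S} (hV : IsAlgSpace V) (hG : IsAlgSpace G)
    (a : V ⟶ G) (ha : P a) : AlgSt.RepByAlgSpWith P (AlgSt.ofSpMap a) := by
  intro U y
  let ξ : (yon S).obj U ⟶ G := ObjectProperty.homMk (pointOf y)
  have sq := IsPullback.of_hasPullback a ξ
  have sq' : IsPullback (pullback.fst a ξ).hom (pullback.snd a ξ).hom a.hom (pointOf y) :=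
    sq.map (sheafToPresheaf (J S) (Type (u + 1)))
  have hW : IsAlgSpace (pullback a ξ) :=
    (isAlgSpaceP_obj_iff _).1 (Groth.L23.isAlgSpaceP_of_isPullback ((isAlgSpaceP_obj_iff _).2 hG)
      ((isAlgSpaceP_obj_iff _).2 hV) ((isAlgSpaceP_obj_iff _).2 (IsAlgSpace.yon_obj U)) sq')
  refine ⟨⟨_, hW⟩, baseFp a.hom y sq', baseFp_isEquivOver a.hom y sq', ?_⟩
  erw [baseFp_spMap a.hom y sq' (pullback a ξ).property]
  exact hB hV hG hW (IsAlgSpace.yon_obj U) a ξ _ _ sq ha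

/-- Cancellation: if `b` and `a ≫ b` have the property then so does `a`. -/
theorem repWith_of_comp (hB : PBase P)
    (hcancel : ∀ ⦃X Y Z : Sp S⦄, IsAlgSpace X → IsAlgSpace Y → IsAlgSpace Z →
      ∀ (a : X ⟶ Y) (b : Y ⟶ Z), P b → P (a ≫ b) → P a)
    {a : 𝒳 ⥤ᵇ 𝒴} {b : 𝒴 ⥤ᵇ 𝒵} (hb : AlgSt.RepByAlgSpWith P b)
    (hab : AlgSt.RepByAlgSpWith P (BasedFunctor.comp a b)) : AlgSt.RepByAlgSpWith P a := by
  intro U y
  let y' := BasedFunctor.comp y b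
  let q := FibCat.fpSnd y' b
  let σ : FibCat.overCat U ⥤ᵇ FibCat.fp y' b :=
    FibCat.fpLift (BasedFunctor.id _) y (show BasedFunctor.comp (BasedFunctor.id _) y' ≅ BasedFunctor.comp y b from Iso.refl _)
  obtain ⟨B, eB, heB, hbB⟩ := hb U y'
  obtain ⟨G1, eG, heG, hbG⟩ := hab U y'
  obtain ⟨cB, hcB, -, ⟨iB⟩⟩ := exists_inverse heB
  obtain ⟨cC, hcC, -, ⟨iC⟩⟩ := exists_inverse (fpComp_isEquivOver y' a b)
  let e1 := BasedFunctor.comp eG cC
  have he1 : FibCat.IsEquivOver e1 := isEquivOver_comp heG hcC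
  let M := BasedFunctor.comp (BasedFunctor.comp e1 (FibCat.fpFst q a)) cB
  have hm : P (spMap M) := by
    refine hcancel G1.property B.property (IsAlgSpace.yon_obj U) _ _ hbB ?_
    rw [← spMapOfOver_comp]
    rwa [show AlgSt.spMapOfOver (BasedFunctor.comp M (BasedFunctor.comp eB (FibCat.fpFst y' b))) =
      AlgSt.spMapOfOver (BasedFunctor.comp eG (FibCat.fpFst y' (BasedFunctor.comp a b))) from
      spMapOfOver_congr
        (whiskerR (whiskerL (BasedFunctor.comp e1 (FibCat.fpFst q a)) iB) (FibCat.fpFst y' b) ≪≫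
          whiskerR (whiskerL eG iC) (FibCat.fpFst y' (BasedFunctor.comp a b)))]
  let j : BasedFunctor.comp M eB ≅ BasedFunctor.comp e1 (FibCat.fpFst q a) :=
    whiskerL (BasedFunctor.comp e1 (FibCat.fpFst q a)) iB
  have hp : AlgSt.RepByAlgSpWith P (FibCat.fpFst q a) :=
    (repWith_square he1 heB (whiskerR (isoOfSpMap M).symm eB ≪≫ j)).2
      (repWith_ofSpMap_of_prop hB G1.property B.property _ hm)
  exact (Wit.transfer (fpPaste σ q a) (fpPaste_isEquivOver σ q a) (Iso.refl _)).1 (hp U σ)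

theorem diag_of_comp_repWith (hB : PBase P)
    (hcancel : ∀ ⦃X Y Z : Sp S⦄, IsAlgSpace X → IsAlgSpace Y → IsAlgSpace Z →
      ∀ (a : X ⟶ Y) (b : Y ⟶ Z), P b → P (a ≫ b) → P a)
    {f : 𝒳 ⥤ᵇ 𝒴} {g : 𝒴 ⥤ᵇ 𝒵} (hg : AlgSt.RepByAlgSpWith P (FibCat.diag g))
    (hfg : AlgSt.RepByAlgSpWith P (FibCat.diag (BasedFunctor.comp f g))) :
    AlgSt.RepByAlgSpWith P (FibCat.diag f) :=
  repWith_of_comp hB hcancel (cmp_repWith f f g hg) ((repWith_congr (diagCompIso f g)).2 hfg)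

theorem rep1_of_comp (h𝒳 : FibCat.IsFibGrpd 𝒳.p) (h𝒴 : FibCat.IsFibGrpd 𝒴.p) (h𝒵 : FibCat.IsFibGrpd 𝒵.p)
    {f : 𝒳 ⥤ᵇ 𝒴} {g : 𝒴 ⥤ᵇ 𝒵} (hgf : AlgSt.RepByAlgSp1 (BasedFunctor.comp f g))
    (hΔ : AlgSt.RepByAlgSp1 (FibCat.diag g)) : AlgSt.RepByAlgSp1 f := by
  let e : BasedFunctor.comp (BasedFunctor.id 𝒳) (BasedFunctor.comp f g) ≅ BasedFunctor.comp f g := Iso.refl _
  have h1 : AlgSt.RepByAlgSp1 (graphFun f e) := (rep1_iff _).2 (graph_repWith f e ((rep1_iff _).1 hΔ))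
  have h2 : AlgSt.RepByAlgSp1 (FibCat.fpSnd (BasedFunctor.comp f g) g) :=
    (rep1_iff _).2 (repWith_fpSnd g ((rep1_iff _).1 hgf))
  exact rep1_comp h𝒳 (L09.Fib.fp_isFibGrpd h𝒳 h𝒴 h𝒵) h1 h2

theorem diag_repWith_iff_forall_overCat (f : 𝒳 ⥤ᵇ 𝒴) :
    AlgSt.RepByAlgSpWith P (FibCat.diag f) ↔
      ∀ (T : Over S) (y : FibCat.overCat T ⥤ᵇ 𝒴), AlgSt.RepByAlgSpWith P (FibCat.diag (FibCat.fpFst y f)) := by
  refine ⟨fun h T y => diag_fpFst_repWith y h, fun h U y => ?_⟩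
  let y1 := BasedFunctor.comp (BasedFunctor.comp y (FibCat.fpFst f f)) f
  let a : FibCat.overCat U ⥤ᵇ FibCat.fp y1 f :=
    FibCat.fpLift (BasedFunctor.id _) (BasedFunctor.comp y (FibCat.fpFst f f))
      (show BasedFunctor.comp (BasedFunctor.id _) y1 ≅ BasedFunctor.comp (BasedFunctor.comp y (FibCat.fpFst f f)) f
        from Iso.refl _)
  let b : FibCat.overCat U ⥤ᵇ FibCat.fp y1 f :=
    FibCat.fpLift (BasedFunctor.id _) (BasedFunctor.comp y (FibCat.fpSnd f f))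
      (show BasedFunctor.comp (BasedFunctor.id _) y1 ≅ BasedFunctor.comp (BasedFunctor.comp y (FibCat.fpSnd f f)) f
        from whiskerL y (FibCat.fpIso f f))
  let z : FibCat.overCat U ⥤ᵇ FibCat.fp (FibCat.fpFst y1 f) (FibCat.fpFst y1 f) :=
    FibCat.fpLift a b
      (show BasedFunctor.comp a (FibCat.fpFst y1 f) ≅ BasedFunctor.comp b (FibCat.fpFst y1 f) from Iso.refl _)
  let i : BasedFunctor.comp z (bcMap y1 f) ≅ y :=
    mkIso2 (fun x => fpIsoMk (Iso.refl _) (Iso.refl _) (by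
        show f.map (𝟙 _) ≫ (y.obj x).obj.iso.hom =
          (𝟙 _ ≫ y1.map (𝟙 _) ≫ (y.obj x).obj.iso.hom) ≫ f.map (𝟙 _)
        simp))
      (fun x x' m => fp_ext (show (y.map m).hom.fst ≫ 𝟙 _ = 𝟙 _ ≫ (y.map m).hom.fst by simp)
        (show (y.map m).hom.snd ≫ 𝟙 _ = 𝟙 _ ≫ (y.map m).hom.snd by simp))
      (fun x => overId_fp _ (overId_id _))
  have hbc : AlgSt.RepByAlgSpWith P (FibCat.fpFst (bcMap y1 f) (FibCat.diag f)) := by
    have h1 := h U y1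
    rw [← bcLift_fst y1 f] at h1
    exact (repWith_precomp (bcLift_isEquivOver y1 f) _).1 h1
  exact (wit_congr i (Iso.refl _)).1
    ((Wit.transfer (fpPaste z (bcMap y1 f) (FibCat.diag f)) (fpPaste_isEquivOver _ _ _) (Iso.refl _)).1 (hbc U z))

end Groth.L24.St
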