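import Groth.Agent.L24.St.StackSp
import Groth.Agent.L24.St.DiagAbs
import Groth.Agent.L24.St.DiagRep
import Groth.Agent.L24.St.AtlasCover
import Groth.Agent.L24.St.AlgStackInv
import Groth.Agent.L24.St.SpaceMap
import Groth.Agent.L24.St.Desc

/-!
Categories representable by algebraic spaces are Deligne-Mumford stacks.
-/

set_option autoImplicit false
set_option backward.isDefEq.respectTransparency false
set_option backward.isDefEq.respectTransparency.types false

universe v₂ u₂ u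

open CategoryTheory CategoryTheory.Limits AlgebraicGeometry Opposite

namespace Groth.L24.St

variable {S : Scheme.{u}}

theorem etale_atlas_repWith {F : AlgSp.Sp S} (hF : AlgSp.IsAlgSpace F) {U : Over S}
    {a : (AlgSp.yon S).obj U ⟶ F} {Q : MorphismProperty Scheme.{u}} [Q.IsStableUnderBaseChange]
    (ha : AlgSp.RepWith Q a) :
    AlgSt.RepByAlgSpWith (AlgSp.RepWith Q) (BasedFunctor.comp (AlgSt.ofOverCat U) (AlgSt.ofSpMap a)) :=
  (repWith_precomp (ofOverCat_isEquivOver U) _).2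
    (repWith_ofSpMap_of_prop (pBase_repWith Q) (AlgSp.IsAlgSpace.yon_obj U) hF a ha)

theorem exists_ofSp_chart (F : AlgSp.Space S) :
    ∃ (U : Over S) (x : FibCat.overCat U ⥤ᵇ AlgSt.ofSp F.obj),
      AlgSt.RepByAlgSpWith AlgSp.IsEtaleMor x ∧ AlgSt.RepByAlgSpWith (AlgSp.LocP @Smooth) x ∧
        AlgSt.RepByAlgSpWith AlgSp.IsSurjectiveMor x := by
  obtain ⟨U, a, he, hs⟩ := F.property.atlas
  refine ⟨U, _, repWith_mono ?_ (etale_atlas_repWith F.property he),
    repWith_mono ?_ (etale_atlas_repWith F.property he), repWith_mono ?_ (etale_atlas_repWith F.property hs)⟩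
  · intro X Y _ g h W φ hφ
    exact Groth.L23.repWith_comp hφ h
  · intro X Y _ g h U V α b k hα hb w
    have := etale_chart_of_square (Groth.L23.repWith_comp hα h) hb w
    exact inferInstanceAs (Smooth k.left)
  · intro X Y _ g h
    exact Groth.L23.surjective_map_of_repWith h

theorem isDM_of_repByAlgSp {𝒳 : AlgSt.Cat S} (hr : AlgSt.RepByAlgSp 𝒳) :
    AlgSt.IsDM Scheme.fppfPrecoverage 𝒳 := by
  obtain ⟨F, e, he⟩ := hr
  obtain ⟨U, x, he1, he2, he3⟩ := exists_ofSp_chart F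
  refine (isDM_iff he).1 ⟨⟨isStack_ofSp F.obj, ?_, ⟨U, x, he2, he3⟩⟩, ⟨U, x, he1, he3⟩⟩
  exact (repByAlgSp1_diag_iff (ofSp_isFibGrpd F.obj)).2 fun V y =>
    rep1_of_repByAlgSp (overCat_repByAlgSp V) ⟨F, _, isEquivOver_id _⟩ y

theorem isAlgStack_of_repByAlgSp {𝒳 : AlgSt.Cat S} (hr : AlgSt.RepByAlgSp 𝒳) :
    AlgSt.IsAlgStack Scheme.fppfPrecoverage 𝒳 := (isDM_of_repByAlgSp hr).1

theorem isAlgStack_overCat (U : Over S) : AlgSt.IsAlgStack Scheme.fppfPrecoverage (FibCat.overCat U) :=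
  isAlgStack_of_repByAlgSp (overCat_repByAlgSp U)

end Groth.L24.St
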