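import Groth.Agent.L24.St.Chart
import Groth.Agent.L24.St.SpaceStack

/-!
Topology of the points of an algebraic stack: flat charts, compactness.
-/

set_option autoImplicit false
set_option backward.isDefEq.respectTransparency false
set_option backward.isDefEq.respectTransparency.types false

universe v₃ u₃ v₂ u₂ u

open CategoryTheory CategoryTheory.Limits AlgebraicGeometry Opposite AlgSt TopologicalSpace

noncomputable section

namespace Groth.L24.St

variable {S : Scheme.{u}}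

theorem locP_precomp_iso (P : MorphismProperty Scheme.{u}) {F F' G : AlgSp.Sp S} (i : F' ⟶ F) [IsIso i]
    (a : F ⟶ G) (h : AlgSp.LocP P a) : AlgSp.LocP P (i ≫ a) := fun U V α b k hα hb w =>
  h (α ≫ i) b k (Groth.L23.repWith_comp hα (Groth.L23.repWith_of_isIso i)) hb ((Category.assoc _ _ _).trans w)

theorem locP_precomp_etale (P : MorphismProperty Scheme.{u}) {F F' G : AlgSp.Sp S} {i : F' ⟶ F}
    (hi : AlgSp.RepWith @Etale i) (a : F ⟶ G) (h : AlgSp.LocP P a) : AlgSp.LocP P (i ≫ a) :=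
  fun U V α b k hα hb w => h (α ≫ i) b k (Groth.L23.repWith_comp hα hi) hb ((Category.assoc _ _ _).trans w)

section

variable {𝒳 : BasedCategory.{v₂, u₂} (Over S)} {𝒴 : BasedCategory.{v₃, u₃} (Over S)}

theorem repWith_locP_and {P Q : MorphismProperty Scheme.{u}} {f : 𝒳 ⥤ᵇ 𝒴}
    (hP : RepByAlgSpWith (AlgSp.LocP P) f) (hQ : RepByAlgSpWith (AlgSp.LocP Q) f) :
    RepByAlgSpWith (AlgSp.LocP (P ⊓ Q)) f := fun U y => by
  obtain ⟨F, e, he, h1⟩ := hP U y
  have h2 := Wit.prop_of_equiv (fun _ _ _ _ i _ a => locP_precomp_iso Q i a) (hQ U y) F.property e he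
  exact ⟨F, e, he, fun U V α b k hα hb w => ⟨h1 α b k hα hb w, h2 α b k hα hb w⟩⟩

theorem isOpenMap_of_flat_lfp {X Y : Scheme.{u}} (g : X ⟶ Y)
    (h : (@Flat ⊓ @LocallyOfFinitePresentation : MorphismProperty Scheme.{u}) g) : IsOpenMap g := by
  have : Flat g := h.1
  have : LocallyOfFinitePresentation g := h.2
  exact g.isOpenMap

theorem isOpenMap_of_smooth {X Y : Scheme.{u}} (g : X ⟶ Y) (h : Smooth g) : IsOpenMap g := g.isOpenMap

theorem surjective_ofChart_of_repWith (h𝒳 : FibCat.IsFibGrpd 𝒳.p) {U : Over S} {x : FibCat.overCat U ⥤ᵇ 𝒳}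
    (h : RepByAlgSpWith AlgSp.IsSurjectiveMor x) : Function.Surjective (Points.ofChart x) :=
  (isSurjective_iff_ofChart x).1 (isSurjective_of_repWith (overCat_isFibGrpd U) h𝒳 h)

theorem compactSpace_of_isQuasiCompact (h𝒳 : IsAlgStack Scheme.fppfPrecoverage 𝒳) (h : IsQuasiCompact 𝒳) :
    CompactSpace (Points 𝒳) := by
  obtain ⟨U, x, hU, -, hs⟩ := h
  rw [← isCompact_univ_iff, ← (surjective_ofChart_of_repWith h𝒳.isStack.1 hs).range_eq]
  have : CompactSpace ↥U.left := inferInstance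
  exact isCompact_range (continuous_ofChart h𝒳 x)

theorem exists_compact_nhd (h𝒳 : IsAlgStack Scheme.fppfPrecoverage 𝒳) (p : Points 𝒳) (W : Set (Points 𝒳))
    (hW : IsOpen W) (hp : p ∈ W) :
    ∃ V : Set (Points 𝒳), IsOpen V ∧ IsCompact V ∧ p ∈ V ∧ V ⊆ W := by
  obtain ⟨U, x, hx, hs⟩ := h𝒳.atlas
  obtain ⟨t, rfl⟩ := surjective_ofChart_of_repWith h𝒳.isStack.1 hs p
  obtain ⟨O, hO, ht, hsub⟩ := U.left.isBasis_affineOpens.exists_subset_of_mem_open (show t ∈ Points.ofChart x ⁻¹' W from hp)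
    ((continuous_ofChart h𝒳 x).isOpen_preimage W hW)
  obtain ⟨O', hO', rfl⟩ := hO
  exact ⟨Points.ofChart x '' O', isOpenMap_ofChart isOpenMap_of_smooth h𝒳.isStack.1 hx _ O'.2,
    (hO'.isCompact).image (continuous_ofChart h𝒳 x), ⟨t, ht, rfl⟩, Set.image_subset_iff.2 hsub⟩

end

end Groth.L24.St
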