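import Groth.Agent.L24.St.Compact

/-!
Properties of algebraic stacks read smooth locally; Noetherian topology of points.
-/

set_option autoImplicit false
set_option backward.isDefEq.respectTransparency false
set_option backward.isDefEq.respectTransparency.types false

universe v₂ u₂ u

open CategoryTheory CategoryTheory.Limits AlgebraicGeometry Opposite AlgSt Topology TopologicalSpace

noncomputable section

namespace Groth.L24.St

variable {S : Scheme.{u}}

/-- Being local for smooth coverings. -/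
def SmoothLocalProp (P : Scheme.{u} → Prop) : Prop :=
  ∀ (U : Scheme.{u}) (R : Presieve U), R ∈ Scheme.precoverage @Smooth U →
    (P U ↔ ∀ ⦃V : Scheme.{u}⦄ (g : V ⟶ U), R g → P V)

theorem SmoothLocalProp.desc {P : Scheme.{u} → Prop} (hP : SmoothLocalProp P) {W U : Scheme.{u}} (g : W ⟶ U)
    (hg : Smooth g) (hs : Function.Surjective g) (h : P W) : P U :=
  (hP U _ ((Scheme.singleton_mem_precoverage_iff (P := @Smooth) g).2 ⟨hs, hg⟩)).2
    fun V k hk => by cases hk; exact h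

theorem SmoothLocalProp.up {P : Scheme.{u} → Prop} (hP : SmoothLocalProp P) {W U : Scheme.{u}} (g : W ⟶ U)
    (hg : Smooth g) (h : P U) : P W := by
  let X : Option PUnit.{u + 1} → Scheme.{u} := fun i => i.elim U fun _ => W
  let f : ∀ i, X i ⟶ U := fun i => match i with
    | none => 𝟙 U
    | some _ => g
  have hR : Presieve.ofArrows X f ∈ Scheme.precoverage @Smooth U := by
    rw [Scheme.ofArrows_mem_precoverage_iff]
    refine ⟨fun x => ⟨none, x, rfl⟩, fun i => ?_⟩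
    match i with
    | none => exact inferInstanceAs (Smooth (𝟙 U))
    | some _ => exact hg
  exact (hP U _ hR).1 h g (Presieve.ofArrows.mk (some PUnit.unit))

theorem exists_smooth_square {𝒳 : BasedCategory.{v₂, u₂} (Over S)} (h𝒳 : FibCat.IsFibGrpd 𝒳.p) {U V : Over S}
    {x : FibCat.overCat U ⥤ᵇ 𝒳} {y : FibCat.overCat V ⥤ᵇ 𝒳} (hx : RepByAlgSpWith (AlgSp.LocP @Smooth) x)
    (hy : RepByAlgSpWith (AlgSp.LocP @Smooth) y) :
    ∃ (W : Over S) (ψ : W ⟶ U) (ρ : W ⟶ V), Smooth ψ.left ∧ Smooth ρ.left ∧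
      ∀ t v, Points.ofChart x t = Points.ofChart y v → ∃ w, ψ.left w = t ∧ ρ.left w = v := by
  obtain ⟨F, e, he, hQ⟩ := hy U x
  have hQ' : AlgSp.LocP @Smooth (spMapOfOver (BasedFunctor.comp (BasedFunctor.comp e fpSwap) (FibCat.fpFst y x))) :=
    Wit.prop_of_equiv (fun _ _ _ _ i _ a => locP_precomp_iso _ i a) (hx V y) F.property _
      (isEquivOver_comp he fpSwap_isEquivOver)
  obtain ⟨W, a, haE, haS⟩ := F.property.atlas
  let E : FibCat.overCat W ⥤ᵇ FibCat.fp x y :=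
    BasedFunctor.comp (ofOverCat W) (BasedFunctor.comp (ofSpMap a) e)
  obtain ⟨ψ, ⟨iψ⟩, hψ⟩ := exists_overMap_iso (BasedFunctor.comp E (FibCat.fpFst x y))
  obtain ⟨ρ, ⟨iρ⟩, hρ⟩ := exists_overMap_iso (BasedFunctor.comp E (FibCat.fpSnd x y))
  refine ⟨W, ψ, ρ, ?_, ?_, ?_⟩
  · refine hQ a (𝟙 _) ψ haE (AlgSp.repWith_id _ U) ?_
    rw [Category.comp_id, ← spMapOfOver_ofSpMap_comp, ← hψ]
    rfl
  · refine hQ' a (𝟙 _) ρ haE (AlgSp.repWith_id _ V) ?_
    rw [Category.comp_id, ← spMapOfOver_ofSpMap_comp, ← hρ]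
    rfl
  · intro t v htv
    obtain ⟨w, hw1, hw2⟩ := exists_points_fp (overCat_isFibGrpd V) h𝒳 (overCat_isFibGrpd U) y x
      (ptOver t) (ptOver v) htv
    obtain ⟨z, rfl⟩ := (bijective_map_of_isEquivOver he).surjective w
    obtain ⟨q, rfl⟩ := exists_toFPt z
    obtain ⟨s, hs⟩ := Groth.L23.surjective_ofPt haS (AlgSp.Points.mk q)
    have hz : Points.map (spChart a) (ptOver s) = Points.mk (toFPt q) :=
      Points.sound (rel_toFPt (AlgSp.Points.mk_eq_mk_iff.1 hs))
    refine ⟨s, (overPtEquiv U).symm.injective ?_, (overPtEquiv V).symm.injective ?_⟩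
    · show ptOver (ψ.left s) = ptOver t
      rw [← map_overMap_ptOver, ← map_congr iψ, ← hw1, ← hz]
      rfl
    · show ptOver (ρ.left s) = ptOver v
      rw [← map_overMap_ptOver, ← map_congr iρ, ← hw2, ← hz]
      rfl

theorem smoothLocally_of_chart {𝒳 : BasedCategory.{v₂, u₂} (Over S)} (h𝒳 : FibCat.IsFibGrpd 𝒳.p)
    {P : Scheme.{u} → Prop} (hP : SmoothLocalProp P) {V : Over S} {y : FibCat.overCat V ⥤ᵇ 𝒳}
    (hy : RepByAlgSpWith (AlgSp.LocP @Smooth) y) (hys : Function.Surjective (Points.ofChart y))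
    (hV : P V.left) : SmoothLocally P 𝒳 := by
  intro U x hx
  obtain ⟨W, ψ, ρ, hψ, hρ, hs⟩ := exists_smooth_square h𝒳 hx hy
  refine hP.desc ψ.left hψ (fun t => ?_) (hP.up ρ.left hρ hV)
  obtain ⟨v, hv⟩ := hys (Points.ofChart x t)
  obtain ⟨w, hw, -⟩ := hs t v hv.symm
  exact ⟨w, hw⟩

theorem smooth_spChart {F : AlgSp.Sp S} (hF : AlgSp.IsAlgSpace F) {T : Over S}
    {g : (AlgSp.yon S).obj T ⟶ F} (hg : AlgSp.RepWith @Etale g) :
    RepByAlgSpWith (AlgSp.LocP @Smooth) (spChart g) := by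
  refine repWith_mono ?_ (repWith_spChart hF hg)
  intro X U _ a h U' V α b k hα hb w
  have := etale_chart_of_square (Groth.L23.repWith_comp hα h) hb w
  exact inferInstanceAs (Smooth k.left)

theorem surjective_spChart {F : AlgSp.Sp S} {T : Over S} {g : (AlgSp.yon S).obj T ⟶ F}
    (hg : AlgSp.RepWith @Surjective g) : Function.Surjective (Points.ofChart (spChart g)) := by
  intro p
  obtain ⟨x, rfl⟩ := (ptMap_bijective F).surjective p
  obtain ⟨t, rfl⟩ := Groth.L23.surjective_ofPt hg x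
  exact ⟨t, (ptMap_ofPt g t).symm⟩

theorem surjective_spChart_comp {𝒳 : BasedCategory.{v₂, u₂} (Over S)} {F : AlgSp.Sp S} {T : Over S}
    {g : (AlgSp.yon S).obj T ⟶ F} (hg : AlgSp.RepWith @Surjective g) (h𝒳 : FibCat.IsFibGrpd 𝒳.p)
    {x : ofSp F ⥤ᵇ 𝒳} (hx : RepByAlgSpWith AlgSp.IsSurjectiveMor x) :
    Function.Surjective (Points.ofChart (BasedFunctor.comp (spChart g) x)) := by
  rw [map_comp_ofChart]
  exact (isSurjective_of_repWith (ofSp_isFibGrpd F) h𝒳 hx).comp (surjective_spChart hg)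

section Noetherian

theorem noetherianSpace_affineOpen {X : Scheme.{u}} [IsLocallyNoetherian X] {O : X.Opens} (hO : IsAffineOpen O) :
    NoetherianSpace O.toScheme := by
  have : IsAffine O.toScheme := hO
  have : IsNoetherian O.toScheme := {}
  infer_instance

theorem exists_noetherian_nhd {𝒳 : AlgSt.Cat S} (h𝒳 : IsAlgStack Scheme.fppfPrecoverage 𝒳)
    (hN : SmoothLocally (fun T => IsLocallyNoetherian T) 𝒳) (p : Points 𝒳) :
    ∃ (U : Over S) (x : FibCat.overCat U ⥤ᵇ 𝒳) (O : U.left.Opens),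
      NoetherianSpace O.toScheme ∧ IsOpen (Points.ofChart x '' (O : Set ↥U.left)) ∧
        p ∈ Points.ofChart x '' (O : Set ↥U.left) ∧ Continuous (Points.ofChart x) := by
  obtain ⟨U, x, hx, hxs⟩ := h𝒳.atlas
  obtain ⟨t, rfl⟩ := surjective_ofChart_of_repWith h𝒳.isStack.1 hxs p
  obtain ⟨O, hO, ht, -⟩ := U.left.isBasis_affineOpens.exists_subset_of_mem_open (Set.mem_univ t) isOpen_univ
  obtain ⟨O', hO', rfl⟩ := hO
  have : IsLocallyNoetherian U.left := hN U x hx
  exact ⟨U, x, O', noetherianSpace_affineOpen hO', isOpenMap_ofChart isOpenMap_of_smooth h𝒳.isStack.1 hx _ O'.2,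
    ⟨t, ht, rfl⟩, continuous_ofChart h𝒳 x⟩

theorem quasiSober_points {𝒳 : AlgSt.Cat S} (h𝒳 : IsAlgStack Scheme.fppfPrecoverage 𝒳)
    (hN : SmoothLocally (fun T => IsLocallyNoetherian T) 𝒳) : QuasiSober (Points 𝒳) := by
  refine ⟨fun {Z} hZ hZc => ?_⟩
  obtain ⟨z, hz⟩ := hZ.nonempty
  obtain ⟨U, x, O, hO, hopen, hzO, hc⟩ := exists_noetherian_nhd h𝒳 hN z
  let g : O.toScheme → Points 𝒳 := fun o => Points.ofChart x o.1
  have hg : Continuous g := hc.comp continuous_subtype_val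
  obtain ⟨Ts, hTf, hTcl, hTirr, hcov⟩ := NoetherianSpace.exists_finite_set_isClosed_irreducible (α := O.toScheme)
    (s := g ⁻¹' Z) (hZc.preimage hg)
  have hsub : Z ⊆ ⋃ T ∈ Ts, closure (g '' T) := by
    have h1 : Z ⊆ closure (Z ∩ Points.ofChart x '' (O : Set ↥U.left)) :=
      subset_closure_inter_of_isPreirreducible_of_isOpen hZ.2 hopen ⟨z, hz, hzO⟩
    have h2 : Z ∩ Points.ofChart x '' (O : Set ↥U.left) ⊆ ⋃ T ∈ Ts, closure (g '' T) := by
      rintro _ ⟨hy, o, ho, rfl⟩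
      have hmem : (⟨o, ho⟩ : O.toScheme) ∈ g ⁻¹' Z := hy
      rw [hcov] at hmem
      obtain ⟨T, hT, hoT⟩ := Set.mem_sUnion.1 hmem
      exact Set.mem_biUnion hT (subset_closure ⟨_, hoT, rfl⟩)
    exact h1.trans (closure_minimal h2 (hTf.isClosed_biUnion fun T _ => isClosed_closure))
  obtain ⟨T, hT, hZT⟩ : ∃ T ∈ Ts, Z ⊆ closure (g '' T) := by
    classical
    obtain ⟨z₀, hz₀, hsub₀⟩ := (isIrreducible_iff_sUnion_isClosed.1 hZ)
      (hTf.toFinset.image fun T => closure (g '' T))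
      (fun s hs => by obtain ⟨T, -, rfl⟩ := Finset.mem_image.1 hs; exact isClosed_closure)
      (by simpa [Set.sUnion_image] using hsub)
    obtain ⟨T, hT, rfl⟩ := Finset.mem_image.1 hz₀
    exact ⟨T, hTf.mem_toFinset.1 hT, hsub₀⟩
  obtain ⟨hTc, hTi⟩ := And.intro (hTcl T hT) (hTirr T hT)
  obtain ⟨η, hη⟩ := QuasiSober.sober hTi hTc
  have hgη : g η ∈ Z := by
    have : η ∈ g ⁻¹' Z := by rw [hcov]; exact Set.mem_sUnion.2 ⟨T, hT, hη.mem⟩
    exact this
  refine ⟨g η, subset_antisymm (closure_minimal (Set.singleton_subset_iff.2 hgη) hZc) (hZT.trans ?_)⟩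
  rw [← hη.def]
  exact closure_minimal ((image_closure_subset_closure_image hg).trans (by rw [Set.image_singleton])) isClosed_closure

end Noetherian

end Groth.L24.St
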