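import Groth.Agent.L24.St.DiagSpace
import Groth.Agent.L24.St.Fibrewise
import Groth.Agent.L23.Compact
import Groth.Prelude.Def_AlgSt3
import Mathlib.AlgebraicGeometry.Morphisms.FormallyUnramified

/-!
Representable maps with a property of schemes have it etale locally; isomorphisms are proper.
-/

set_option autoImplicit false
set_option backward.isDefEq.respectTransparency false
set_option backward.isDefEq.respectTransparency.types false

universe u

open CategoryTheory CategoryTheory.Limits AlgebraicGeometry Opposite AlgSp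

namespace Groth.L24.St

variable {S : Scheme.{u}}

theorem locP_of_repWith {Q : MorphismProperty Scheme.{u}} [Q.IsStableUnderBaseChange]
    [Q.IsStableUnderComposition] (hQ : ∀ {X Y : Scheme.{u}} (f : X ⟶ Y), Etale f → Q f)
    {F G : Sp S} {a : F ⟶ G} (ha : RepWith Q a) : LocP Q a := by
  intro U V α b h hα hb w
  have hαQ : RepWith Q α := Groth.L23.repWith_mono hQ hα
  have hαa : RepWith Q (α ≫ a) := Groth.L23.repWith_comp hαQ ha
  obtain ⟨W, pV, pU, sq⟩ := Groth.L23.exists_isPullback_of_representable hb.1 (α ≫ a)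
  have h1 : Etale pU.left := Groth.L23.repWith_prop hb sq
  have h2 : Q pV.left := Groth.L23.repWith_prop hαa sq.flip
  let l := sq.lift ((yon S).map h) (𝟙 _) (by simpa using w.symm)
  obtain ⟨l', hl'⟩ := (yon S).map_surjective l
  have e1 : l' ≫ pV = h := (yon S).map_injective (by rw [(yon S).map_comp, hl']; exact sq.lift_fst _ _ _)
  have e2 : l' ≫ pU = 𝟙 U := (yon S).map_injective (by
    rw [(yon S).map_comp, hl', CategoryTheory.Functor.map_id]; exact sq.lift_snd _ _ _)
  have e2' : l'.left ≫ pU.left = 𝟙 U.left := congrArg CommaMorphism.left e2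
  have : Etale (l'.left ≫ pU.left) := by rw [e2']; infer_instance
  have hl : Etale l'.left := Etale.of_comp _ pU.left
  rw [← e1]
  exact Q.comp_mem l'.left pV.left (hQ _ hl) h2

theorem locP_unramified_of_mono {F G : Sp S} {a : F ⟶ G}
    (ha : RepWith (@LocallyOfFiniteType ⊓ MorphismProperty.monomorphisms Scheme.{u}) a) :
    LocP (@LocallyOfFiniteType ⊓ @FormallyUnramified) a := by
  refine locP_of_repWith (fun f hf => ⟨inferInstance, inferInstance⟩)
    (Groth.L23.repWith_mono (fun f hf => ⟨hf.1, ?_⟩) ha)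
  have : LocallyOfFiniteType f := hf.1
  have : Mono f := hf.2
  infer_instance

theorem isQuasiCompactMor_of_isIso {F G : Sp S} (f : F ⟶ G) [IsIso f] : AlgSp.IsQuasiCompactMor f := by
  intro Z Z' hZ hq g fst snd sq
  have : IsIso snd := sq.isIso_snd_of_isIso
  obtain ⟨U, p, h1, h2, hc⟩ := hq
  exact ⟨U, p ≫ inv snd, Groth.L23.repWith_comp h1 (Groth.L23.repWith_of_isIso _),
    Groth.L23.repWith_comp h2 (Groth.L23.repWith_of_isIso _), hc⟩

theorem isProperMor_of_isIso {F G : Sp S} (f : F ⟶ G) [IsIso f] : AlgSp.IsProperMor f := by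
  refine ⟨Groth.L23.repWith_of_isIso _,
    ⟨locP_of_repWith (Q := @LocallyOfFiniteType) (fun _ _ => inferInstance) (Groth.L23.repWith_of_isIso f),
      isQuasiCompactMor_of_isIso f⟩, ?_⟩
  intro Z Z' hZ g fst snd sq
  have : IsIso snd := sq.isIso_snd_of_isIso
  exact Groth.L23.isClosedMap_map_of_representable (Groth.L23.representable_of_isIso snd) fun T k => by
    have : IsIso ((Groth.L23.representable_of_isIso snd).snd k) := by
      have := ((Groth.L23.representable_of_isIso snd).isPullback k).isIso_snd_of_isIso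
      exact isIso_of_reflects_iso _ (yon S)
    exact ((Over.forget S).map ((Groth.L23.representable_of_isIso snd).snd k)).homeomorph.isClosedMap

variable {𝒳 : BasedCategory.{u, u + 1} (Over S)} {𝒴 : BasedCategory.{u, u + 1} (Over S)} {f : 𝒳 ⥤ᵇ 𝒴}

theorem pBase_locP_of_diag (hf : AlgSt.RepByAlgSp1 f) :
    AlgSt.RepByAlgSpWith (RepWith (@LocallyOfFiniteType ⊓ MorphismProperty.monomorphisms Scheme.{u}))
      (FibCat.diag f) :=
  diag_of_rep1 (pBase_repWith _) (fun _ _ a hV _ => Groth.L23.diagonal_properties hV a) hf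

theorem isDMMor_of_rep1 (hf : AlgSt.RepByAlgSp1 f) : AlgSt.IsDMMor f :=
  repWith_mono (fun _ _ _ _ ha => locP_unramified_of_mono ha) (pBase_locP_of_diag hf)

theorem separated_dm_of_isMono (h𝒳 : FibCat.IsFibGrpd 𝒳.p) (h𝒴 : FibCat.IsFibGrpd 𝒴.p) (hf : AlgSt.IsMono f) :
    AlgSt.IsSeparatedMor f ∧ AlgSt.IsDMMor f := by
  have := full_of_isMono h𝒳 h𝒴 f hf
  have := faithful_of_rep1 h𝒳 h𝒴 f (repWith_rep1 hf)
  exact ⟨repWith_of_isEquivOver (fun _ _ _ _ a _ => isProperMor_of_isIso a) (diag_isEquivOver_of_fullFaithful f),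
    isDMMor_of_rep1 (repWith_rep1 hf)⟩

end Groth.L24.St
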