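import Groth.Agent.L24.St.Bootstrap
import Groth.Agent.L24.St.LocPRep

/-!
A stack with a representable smooth surjective map from an algebraic space is algebraic.
-/

set_option autoImplicit false
set_option backward.isDefEq.respectTransparency false
set_option backward.isDefEq.respectTransparency.types false

universe u

open CategoryTheory CategoryTheory.Limits AlgebraicGeometry Opposite AlgSt

noncomputable section

namespace Groth.L24.St

variable {S : Scheme.{u}} {𝒳 𝒴 𝒰 : AlgSt.Cat S}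

theorem smooth_overMap {U V : Over S} (ψ : U ⟶ V) [Smooth ψ.left] :
    RepByAlgSpWith (AlgSp.LocP @Smooth) (overMap ψ) := by
  refine repWith_mono (fun F W _ a ha => ?_) (repWith_overMap (R := @Smooth) (j := ψ) ‹_›)
  exact locP_of_repWith (Q := @Smooth) (fun f hf => inferInstance) ha

theorem fp_isFibSetoid_of_setoids {𝒮 : AlgSt.Cat S} (h𝒳 : FibCat.IsFibSetoid 𝒳.p) (h𝒴 : FibCat.IsFibSetoid 𝒴.p)
    (h𝒮 : FibCat.IsFibGrpd 𝒮.p) (f : 𝒳 ⥤ᵇ 𝒮) (g : 𝒴 ⥤ᵇ 𝒮) : FibCat.IsFibSetoid (FibCat.fp f g).p := by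
  refine ⟨L09.Fib.fp_isFibGrpd h𝒳.1 h𝒴.1 h𝒮, fun V a b => ⟨fun φ ψ => Functor.Fiber.hom_ext ?_⟩⟩
  have hφ := (L09.Fib.fp_isHomLift_iff _ _).1 φ.2
  have hψ := (L09.Fib.fp_isHomLift_iff _ _).1 ψ.2
  have := φ.2
  have := ψ.2
  have hφ' := L09.Fib.fp_snd_lift _ φ.1 φ.2
  have hψ' := L09.Fib.fp_snd_lift _ ψ.1 ψ.2
  exact fp_ext (show φ.1.hom.fst = ψ.1.hom.fst from L09.Fib.setoid_ext h𝒳 (𝟙 V))
    (show φ.1.hom.snd = ψ.1.hom.snd from L09.Fib.setoid_ext h𝒴 (𝟙 V))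

/-- A stack with a representable smooth surjective map from a scheme has representable diagonal. -/
theorem diag_rep1_of_atlas (hst : Stk.IsStack (AlgSp.J S) 𝒳) (ha : HasAtlas (AlgSp.LocP @Smooth) 𝒳) :
    RepByAlgSp1 (FibCat.diag (FibCat.toSelf 𝒳)) := by
  have h𝒳 := hst.1
  obtain ⟨U, u, hu, hus⟩ := ha
  refine (repByAlgSp1_diag_iff h𝒳).2 fun T x T' y => ?_
  obtain ⟨W, ψ, z, hψ, ⟨i⟩, hcov⟩ := exists_chart_cover h𝒳 (overCat_isFibGrpd U) hu y
  have : Smooth ψ.left := hψ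
  have hW : RepByAlgSp (FibCat.fp (overMap ψ) (FibCat.fpFst y x)) := by
    refine (repByAlgSp_of_equiv (fpPaste_isEquivOver (overMap ψ) y x)).2 ?_
    refine (repByAlgSp_of_equiv (fpMap_isEquivOver (isEquivOver_id _) (isEquivOver_id _)
      (show BasedFunctor.comp (BasedFunctor.id _) (BasedFunctor.comp z u) ≅ BasedFunctor.comp (overMap ψ) y from i.symm)
      (Iso.refl _))).2 ?_
    refine (repByAlgSp_of_equiv (fpPaste_isEquivOver z u x)).1 ?_
    have hR : RepByAlgSp (FibCat.fp u x) :=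
      (repByAlgSp_of_equiv (fpSwap_isEquivOver (F := x) (G := u))).1 ((repWith_rep1 hu) T x)
    exact repByAlgSp_fp (L09.Fib.fp_isFibGrpd (overCat_isFibGrpd U) (overCat_isFibGrpd T) h𝒳) (overCat_isFibGrpd U)
      (rep1_of_repByAlgSp hR (overCat_repByAlgSp U) _) z (overCat_repByAlgSp W)
  obtain ⟨F, e, he⟩ := hW
  have hψs : IsSurjective (overMap ψ) := (isSurjective_iff_ofChart _).2 fun p => by
    obtain ⟨t, rfl⟩ : ∃ t, ptOver t = p := ⟨_, ptOver_overPt p⟩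
    obtain ⟨q, hq⟩ := isSurjective_of_repWith (overCat_isFibGrpd U) h𝒳 hus (Points.ofChart y t)
    obtain ⟨w, hw, -⟩ := hcov t q hq.symm
    exact ⟨w, by rw [ofChart_eq_map, Function.comp_apply, map_overMap_ptOver, hw]⟩
  have hg := L09.Fib.fp_isFibGrpd (overCat_isFibGrpd T') (overCat_isFibGrpd T) h𝒳 (F := y) (G := x)
  have hsurj : IsSurjective (FibCat.fpSnd (overMap ψ) (FibCat.fpFst y x)) := by
    intro q
    obtain ⟨w, hw⟩ := hψs (Points.map (FibCat.fpFst y x) q)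
    obtain ⟨v, -, hv⟩ := exists_points_fp hg (overCat_isFibGrpd T') (overCat_isFibGrpd W)
      (FibCat.fpFst y x) (overMap ψ) w q hw
    exact ⟨v, hv⟩
  obtain ⟨V, a, h1, h2⟩ := exists_scheme_chart Groth.L23.etLocal_smooth hg (F := F)
    (C := BasedFunctor.comp e (FibCat.fpSnd (overMap ψ) (FibCat.fpFst y x)))
    ((repWith_precomp he _).2 (repWith_fpSnd _ (smooth_overMap ψ)))
    (isSurjective_comp (isSurjective_of_isEquivOver he) hsurj)
  exact repByAlgSp_of_setoid_atlas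
    (isStack_fp (isStack_overCat T') (isStack_overCat T) (isPrestack_of_isStack hst))
    (fp_isFibSetoid_of_setoids (isFibSetoid_of_repByAlgSp (overCat_repByAlgSp T'))
      (isFibSetoid_of_repByAlgSp (overCat_repByAlgSp T)) h𝒳 y x) ⟨V, _, h1, h2⟩

theorem isAlgStack_of_atlas (hst : Stk.IsStack (AlgSp.J S) 𝒳) (ha : HasAtlas (AlgSp.LocP @Smooth) 𝒳) :
    IsAlgStack Scheme.fppfPrecoverage 𝒳 :=
  ⟨hst, diag_rep1_of_atlas hst ha, ha⟩

theorem isAlgStack_of_space_atlas (hst : Stk.IsStack (AlgSp.J S) 𝒳) (hU : RepByAlgSp 𝒰)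
    (u : 𝒰 ⥤ᵇ 𝒳) (hsm : RepByAlgSpWith (AlgSp.LocP @Smooth) u) (hsurj : IsSurjective u) :
    IsAlgStack Scheme.fppfPrecoverage 𝒳 := by
  obtain ⟨F, e, he⟩ := hU
  obtain ⟨V, a, h1, h2⟩ := exists_scheme_chart Groth.L23.etLocal_smooth hst.1 (F := F)
    (C := BasedFunctor.comp e u) ((repWith_precomp he u).2 hsm)
    (isSurjective_comp (isSurjective_of_isEquivOver he) hsurj)
  exact isAlgStack_of_atlas hst ⟨V, _, h1, h2⟩

end Groth.L24.St
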