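import Groth.Agent.L24.St.Desc
import Groth.Prelude.Def_AlgSp3
import Mathlib.AlgebraicGeometry.Morphisms.Finite
import Mathlib.AlgebraicGeometry.Morphisms.Integral

/-!
Affine, integral and finite functors compose.
-/

set_option autoImplicit false
set_option backward.isDefEq.respectTransparency false
set_option backward.isDefEq.respectTransparency.types false

universe u

open CategoryTheory CategoryTheory.Limits AlgebraicGeometry Opposite AlgSp

namespace Groth.L24.St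

variable {S : Scheme.{u}}

/-- The common shape of affine, integral and finite morphisms of algebraic spaces. -/
def AffP (R : MorphismProperty Scheme.{u}) : MorphismProperty (Sp S) := fun F G f =>
  ∀ ⦃Z : Over S⦄, IsAffine Z.left → ∀ (g : (yon S).obj Z ⟶ G),
    ∃ (W : Over S) (i : W ⟶ Z) (fst : (yon S).obj W ⟶ F),
      IsPullback fst ((yon S).map i) f g ∧ IsAffine W.left ∧ R i.left

theorem isIntegralMor_eq : (AlgSp.IsIntegralMor : MorphismProperty (Sp S)) = AffP @IsIntegralHom := rfl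

theorem isFiniteMor_eq : (AlgSp.IsFiniteMor : MorphismProperty (Sp S)) = AffP @IsFinite := rfl

theorem isAffineMor_eq : (AlgSp.IsAffineMor : MorphismProperty (Sp S)) = AffP ⊤ := by
  ext F G f
  refine forall_congr' fun Z => forall_congr' fun _ => forall_congr' fun g => ?_
  exact exists₃_congr fun W i fst => ⟨fun h => ⟨h.1, h.2, trivial⟩, fun h => ⟨h.1, h.2.1⟩⟩

variable {R : MorphismProperty Scheme.{u}}

theorem pBase_affP : PBase (AffP R : MorphismProperty (Sp S)) := by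
  intro _ _ _ _ _ _ _ _ a b a' b' sq ha Z hZ g
  obtain ⟨W, i, fst, sq', hW, hR⟩ := ha hZ (g ≫ b)
  let k := sq.lift fst ((yon S).map i ≫ g) (by rw [sq'.w, Category.assoc])
  refine ⟨W, i, k, IsPullback.of_right ?_ (sq.lift_snd _ _ _) sq, hW, hR⟩
  rwa [sq.lift_fst]

theorem pComp_affP [R.IsStableUnderComposition] : PComp (AffP R : MorphismProperty (Sp S)) := by
  intro _ _ _ _ _ _ a b ha hb Z hZ g
  obtain ⟨W, i, fst, sq, hW, hR⟩ := hb hZ g
  obtain ⟨W', i', fst', sq', hW', hR'⟩ := ha hW fst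
  refine ⟨W', i' ≫ i, fst', ?_, hW', R.comp_mem _ _ hR' hR⟩
  rw [Functor.map_comp]
  exact sq'.paste_vert sq

theorem descends_affP : Descends (AffP R : MorphismProperty (Sp S)) := by
  intro V G a _ _ h Z hZ g
  obtain ⟨W, i, fst, sq, hW, hR⟩ := h Z g hZ (𝟙 _)
  have sq₁ := sq.paste_horiz (IsPullback.of_hasPullback a g)
  rw [Category.id_comp] at sq₁
  exact ⟨W, i, _, sq₁, hW, hR⟩

variable {𝒳 𝒴 𝒵 : BasedCategory.{u, u + 1} (Over S)}

theorem affP_comp [R.IsStableUnderComposition] (h𝒳 : FibCat.IsFibGrpd 𝒳.p) (h𝒴 : FibCat.IsFibGrpd 𝒴.p)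
    {f : 𝒳 ⥤ᵇ 𝒴} {g : 𝒴 ⥤ᵇ 𝒵} (hf : AlgSt.RepByAlgSpWith (AffP R) f)
    (hg : AlgSt.RepByAlgSpWith (AffP R) g) : AlgSt.RepByAlgSpWith (AffP R) (BasedFunctor.comp f g) :=
  repWith_comp_desc pBase_affP pComp_affP descends_affP h𝒳 h𝒴 hf hg

theorem affineMor_of_triangle (h𝒳 : FibCat.IsFibGrpd 𝒳.p) (h𝒴 : FibCat.IsFibGrpd 𝒴.p)
    (h𝒵 : FibCat.IsFibGrpd 𝒵.p) {f : 𝒳 ⥤ᵇ 𝒴} {a : 𝒳 ⥤ᵇ 𝒵} {b : 𝒴 ⥤ᵇ 𝒵}
    (e : BasedFunctor.comp f b ≅ a) (ha : AlgSt.RepByAlgSpWith AlgSp.IsAffineMor a)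
    (hb : AlgSt.RepByAlgSpWith AlgSp.IsAffineMor (FibCat.diag b)) :
    AlgSt.RepByAlgSpWith AlgSp.IsAffineMor f := by
  rw [isAffineMor_eq] at ha hb ⊢
  let e' : BasedFunctor.comp (BasedFunctor.id 𝒳) a ≅ BasedFunctor.comp f b := e.symm
  exact affP_comp h𝒳 (L09.Fib.fp_isFibGrpd h𝒳 h𝒴 h𝒵) (graph_repWith f e' hb) (repWith_fpSnd b ha)

end Groth.L24.St
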