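import Groth.Agent.L24.St.DiagLft
import Groth.Agent.L09.FibFp
import Groth.Agent.S6402

/-!
Unramified and locally quasi-finite inertia.
-/

set_option autoImplicit false
set_option backward.isDefEq.respectTransparency false
set_option backward.isDefEq.respectTransparency.types false

universe u

open CategoryTheory CategoryTheory.Limits AlgebraicGeometry Opposite AlgSt

noncomputable section

namespace Groth.L24.St

theorem fu_of_pullback_self {A B : Scheme.{u}} (φ : A ⟶ B) [LocallyOfFiniteType φ]
    (h : FormallyUnramified (pullback.snd φ φ)) : FormallyUnramified φ := by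
  have : MorphismProperty.HasOfPostcompProperty @IsOpenImmersion (@LocallyOfFiniteType ⊓ @FormallyUnramified : MorphismProperty Scheme.{u}) := by
    rw [MorphismProperty.hasOfPostcompProperty_iff_le_diagonal]
    intro X Y f ⟨hft, hfu⟩
    exact inferInstanceAs <| IsOpenImmersion (pullback.diagonal f)
  have : IsOpenImmersion (pullback.diagonal φ) :=
    MorphismProperty.of_postcomp _ (W' := (@LocallyOfFiniteType ⊓ @FormallyUnramified : MorphismProperty Scheme.{u}))
      (pullback.diagonal φ) (pullback.snd φ φ) ⟨inferInstance, h⟩ (by rw [pullback.diagonal_snd]; infer_instance)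
  infer_instance

theorem lqf_of_pullback_self {A B : Scheme.{u}} (φ : A ⟶ B)
    (h : LocallyQuasiFinite (pullback.snd φ φ)) : LocallyQuasiFinite φ := by
  refine LocallyQuasiFinite.of_fiberToSpecResidueField φ fun b => ?_
  cases isEmpty_or_nonempty ↥(φ.fiber b) with
  | inl h0 => infer_instance
  | inr h0 =>
    obtain ⟨x⟩ := h0
    let j := (φ.fiber b).affineCover.f ((φ.fiber b).affineCover.idx x)
    let q := j ≫ φ.fiberToSpecResidueField b
    have hs : Surjective q := ⟨fun y => ⟨((φ.fiber b).affineCover.covers x).choose, Subsingleton.elim _ _⟩⟩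
    have hq : QuasiCompact q := inferInstance
    refine MorphismProperty.of_pullback_snd_of_descendsAlong
      (Q := (@Surjective ⊓ @Flat ⊓ @QuasiCompact : MorphismProperty Scheme.{u})) (g := q) ⟨⟨hs, inferInstance⟩, hq⟩ ?_
    -- the base change of the fibre along `q` is a base change of `pullback.snd φ φ`
    let ι : (φ.fiber b).affineCover.X ((φ.fiber b).affineCover.idx x) ⟶ A := j ≫ φ.fiberι b
    have sq : IsPullback (pullback.fst (φ.fiberToSpecResidueField b) q ≫ φ.fiberι b)
        (pullback.snd (φ.fiberToSpecResidueField b) q) φ (ι ≫ φ) := by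
      have e : ι ≫ φ = q ≫ B.fromSpecResidueField b := by
        simp only [ι, q, Category.assoc]
        exact congrArg (j ≫ ·) pullback.condition
      rw [e]
      exact (IsPullback.of_hasPullback _ q).paste_horiz (IsPullback.of_hasPullback φ _)
    let l := pullback.lift _ (pullback.snd (φ.fiberToSpecResidueField b) q ≫ ι) (sq.w.trans (Category.assoc _ _ _).symm)
    have sql : IsPullback l (pullback.snd (φ.fiberToSpecResidueField b) q) (pullback.snd φ φ) ι :=
      IsPullback.of_right (by rw [pullback.lift_fst]; exact sq) (pullback.lift_snd _ _ _) (IsPullback.of_hasPullback φ φ)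
    exact MorphismProperty.of_isPullback sql h

variable {S : Scheme.{u}} {R : MorphismProperty Scheme.{u}}

open AlgSp in
theorem locP_of_pullback_self (hR : Groth.L23.EtLocal R)
    (hdesc : ∀ {A B : Scheme.{u}} (φ : A ⟶ B), LocallyOfFiniteType φ → R (pullback.snd φ φ) → R φ)
    {F : Sp S} (hF : IsAlgSpace F) {U : Over S} {b : F ⟶ (yon S).obj U}
    (hb : LocP @LocallyOfFiniteType b) (h : LocP R (pullback.snd b b)) : LocP R b := by
  have hU := IsAlgSpace.yon_obj U
  obtain ⟨V, v, hv, hvs⟩ := hF.atlas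
  obtain ⟨k, hk⟩ := (yon S).map_surjective (v ≫ b)
  have w : v ≫ b = (yon S).map k ≫ 𝟙 _ := by rw [Category.comp_id, hk]
  refine Groth.L23.locP_of_chart hR hv hvs (repWith_id _ U) w ?_
  have hlft : LocallyOfFiniteType k.left := hb v (𝟙 _) k hv (repWith_id _ U) w
  have hV := IsAlgSpace.yon_obj V
  have hQ : IsAlgSpace (pullback b b) := isAlgSpace_pullback hF hF hU b b
  -- `Z = F ×_U V`
  let Z := pullback (pullback.snd b b) v
  have hZ : IsAlgSpace Z := isAlgSpace_pullback hQ hV hF _ _
  have hZsnd : LocP R (pullback.snd (pullback.snd b b) v) :=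
    Groth.L23.locP_of_isPullback hR hQ hF hV (IsPullback.of_hasPullback _ v) h
  have sqZ : IsPullback (pullback.fst (pullback.snd b b) v ≫ pullback.fst b b)
      (pullback.snd (pullback.snd b b) v) b ((yon S).map k) := by
    rw [hk]
    exact (IsPullback.of_hasPullback _ v).paste_horiz (IsPullback.of_hasPullback b b)
  have hW : IsPullback ((yon S).map (pullback.fst k k)) ((yon S).map (pullback.snd k k))
      ((yon S).map k) ((yon S).map k) := (IsPullback.of_hasPullback k k).map (yon S)
  let m : (yon S).obj (pullback k k) ⟶ Z := sqZ.lift ((yon S).map (pullback.fst k k) ≫ v)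
    ((yon S).map (pullback.snd k k)) (by rw [Category.assoc, ← hk]; exact hW.w)
  have hm₁ : m ≫ (pullback.fst (pullback.snd b b) v ≫ pullback.fst b b) = (yon S).map (pullback.fst k k) ≫ v :=
    sqZ.lift_fst _ _ _
  have hm₂ : m ≫ pullback.snd (pullback.snd b b) v = (yon S).map (pullback.snd k k) := sqZ.lift_snd _ _ _
  have sqm : IsPullback ((yon S).map (pullback.fst k k)) m v
      (pullback.fst (pullback.snd b b) v ≫ pullback.fst b b) :=
    IsPullback.of_bot (by rw [hm₂, ← hk]; exact hW) hm₁.symm sqZ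
  have hm : LocP R m := Groth.L23.locP_mono (fun φ hφ => hR.etale φ hφ)
    (Groth.L23.locP_of_isPullback Groth.L23.etLocal_etale hV hF hZ sqm
      (Groth.L23.locP_of_repWith Groth.L23.etLocal_etale hv))
  have hfin := Groth.L23.locP_comp hR (IsAlgSpace.yon_obj (pullback k k)) hZ hV hm hZsnd
  rw [hm₂] at hfin
  have hs := prop_of_locP_map hfin
  have := hR.stable
  have e := ((IsPullback.of_hasPullback k k).map (Over.forget S)).isoPullback_hom_snd
  change _ = (pullback.snd k k).left at e
  rw [← e] at hs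
  exact hdesc _ hlft ((R.cancel_left_of_respectsIso _ _).1 hs)

variable {𝒳 𝒴 : AlgSt.Cat S}

theorem diag_locP_iff_inertiaToBase (hR : Groth.L23.EtLocal R)
    (hdesc : ∀ {A B : Scheme.{u}} (φ : A ⟶ B), LocallyOfFiniteType φ → R (pullback.snd φ φ) → R φ)
    (h𝒳 : IsAlgStack Scheme.fppfPrecoverage 𝒳) (h𝒴 : IsAlgStack Scheme.fppfPrecoverage 𝒴) (f : 𝒳 ⥤ᵇ 𝒴) :
    RepByAlgSpWith (AlgSp.LocP R) (FibCat.inertiaToBase f) ↔
      RepByAlgSpWith (AlgSp.LocP R) (FibCat.diag f) := by
  have hX := h𝒳.isStack.1
  have hY := h𝒴.isStack.1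
  have := L09.Fib.isFibered_of_isFibGrpd _ hX
  have := L09.Fib.isFibered_of_isFibGrpd _ hY
  obtain ⟨E, hE, hE₁, -⟩ := Groth.Agent.S6402.result f (L09.Fib.preservesStronglyCartesian_of_isFibGrpd f hY)
  rw [← hE₁]
  refine (repWith_precomp hE _).trans ⟨fun h U y => ?_, fun h => repWith_fpFst _ h⟩
  obtain ⟨F, e, he, hlft⟩ := diag_lft h𝒳 h𝒴 f U y
  refine ⟨F, e, he, locP_of_pullback_self hR hdesc F.property hlft ?_⟩
  let b := spMapOfOver (BasedFunctor.comp e (FibCat.fpFst y (FibCat.diag f)))
  obtain ⟨hQ, Θ, hΘ, ⟨iΘ⟩⟩ := exists_space_square hX (L09.Fib.fp_isFibGrpd hX hX hY) y e he F.property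
    (IsPullback.of_hasPullback b b)
  let a := BasedFunctor.comp e (FibCat.fpSnd y (FibCat.diag f))
  let j : BasedFunctor.comp (BasedFunctor.comp (ofSpMap b) (toOverCat U)) y ≅ BasedFunctor.comp a (FibCat.diag f) :=
    whiskerR (overFactor _).symm y ≪≫ whiskerL e (FibCat.fpIso y (FibCat.diag f))
  have h1 : RepByAlgSpWith (AlgSp.LocP R) (FibCat.fpFst (BasedFunctor.comp a (FibCat.diag f)) (FibCat.diag f)) := by
    have h0 := repWith_fpFst a h
    rw [← fpPaste_fst] at h0
    exact (repWith_precomp (fpPaste_isEquivOver a _ _) _).1 h0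
  let M := fpMap (F := BasedFunctor.comp a (FibCat.diag f)) (G := FibCat.diag f)
    (F' := BasedFunctor.comp (BasedFunctor.comp (ofSpMap b) (toOverCat U)) y) (G' := FibCat.diag f)
    (BasedFunctor.id _) (BasedFunctor.id _) j.symm (Iso.refl _)
  have hM : FibCat.IsEquivOver M := fpMap_isEquivOver (isEquivOver_id _) (isEquivOver_id _) _ _
  have h2 : RepByAlgSpWith (AlgSp.LocP R)
      (FibCat.fpFst (BasedFunctor.comp (BasedFunctor.comp (ofSpMap b) (toOverCat U)) y) (FibCat.diag f)) :=
    (repWith_precomp hM _).2 h1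
  exact prop_of_repWith hasAtlasCovers_atlasCov (pBase_locP hR) (isLocalOnBase_locP hR) hQ F.property _
    ((repWith_congr iΘ).1 ((repWith_precomp hΘ _).2 h2))

end Groth.L24.St
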