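import Groth.Agent.L24.St.FpAlg

/-!
Cancellation for functors representable by algebraic spaces, with two properties; diagonals of composites.
-/

set_option autoImplicit false
set_option backward.isDefEq.respectTransparency false
set_option backward.isDefEq.respectTransparency.types false

universe u

open CategoryTheory CategoryTheory.Limits AlgebraicGeometry Opposite AlgSp

namespace Groth.L24.St

variable {S : Scheme.{u}} {P : MorphismProperty (Sp S)}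
  {𝒳 𝒴 𝒵 : BasedCategory.{u, u + 1} (Over S)}

/-- Cancellation: if `b` has `Q` and `a ≫ b` has `P` then `a` has `P`. -/
theorem repWith_of_comp_of (hB : PBase P) {Q : MorphismProperty (Sp S)}
    (hcancel : ∀ ⦃X Y Z : Sp S⦄, IsAlgSpace X → IsAlgSpace Y → IsAlgSpace Z →
      ∀ (a : X ⟶ Y) (b : Y ⟶ Z), Q b → P (a ≫ b) → P a)
    {a : 𝒳 ⥤ᵇ 𝒴} {b : 𝒴 ⥤ᵇ 𝒵} (hb : AlgSt.RepByAlgSpWith Q b)
    (hab : AlgSt.RepByAlgSpWith P (BasedFunctor.comp a b)) : AlgSt.RepByAlgSpWith P a := by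
  intro U y
  let y' := BasedFunctor.comp y b
  let q := FibCat.fpSnd y' b
  let σ : FibCat.overCat U ⥤ᵇ FibCat.fp y' b :=
    FibCat.fpLift (BasedFunctor.id _) y (show BasedFunctor.comp (BasedFunctor.id _) y' ≅ BasedFunctor.comp y b from Iso.refl _)
  obtain ⟨B, eB, heB, hbB⟩ := hb U y'
  obtain ⟨G1, eG, heG, hbG⟩ := hab U y'
  obtain ⟨cB, hcB, -, ⟨iB⟩⟩ := exists_inverse heB
  obtain ⟨cC, hcC, -, ⟨iC⟩⟩ := exists_inverse (fpComp_isEquivOver y' a b)
  let e1 := BasedFunctor.comp eG cC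
  have he1 : FibCat.IsEquivOver e1 := isEquivOver_comp heG hcC
  let M := BasedFunctor.comp (BasedFunctor.comp e1 (FibCat.fpFst q a)) cB
  have hm : P (spMap M) := by
    refine hcancel G1.property B.property (IsAlgSpace.yon_obj U) _ _ hbB ?_
    rw [← spMapOfOver_comp]
    rwa [show AlgSt.spMapOfOver (BasedFunctor.comp M (BasedFunctor.comp eB (FibCat.fpFst y' b))) =
      AlgSt.spMapOfOver (BasedFunctor.comp eG (FibCat.fpFst y' (BasedFunctor.comp a b))) from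
      spMapOfOver_congr
        (whiskerR (whiskerL (BasedFunctor.comp e1 (FibCat.fpFst q a)) iB) (FibCat.fpFst y' b) ≪≫
          whiskerR (whiskerL eG iC) (FibCat.fpFst y' (BasedFunctor.comp a b)))]
  let j : BasedFunctor.comp M eB ≅ BasedFunctor.comp e1 (FibCat.fpFst q a) :=
    whiskerL (BasedFunctor.comp e1 (FibCat.fpFst q a)) iB
  have hp : AlgSt.RepByAlgSpWith P (FibCat.fpFst q a) :=
    (repWith_square he1 heB (whiskerR (isoOfSpMap M).symm eB ≪≫ j)).2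
      (repWith_ofSpMap_of_prop hB G1.property B.property _ hm)
  exact (Wit.transfer (fpPaste σ q a) (fpPaste_isEquivOver σ q a) (Iso.refl _)).1 (hp U σ)

theorem diag_of_comp_repWith_of (hB : PBase P) {Q : MorphismProperty (Sp S)}
    (hcancel : ∀ ⦃X Y Z : Sp S⦄, IsAlgSpace X → IsAlgSpace Y → IsAlgSpace Z →
      ∀ (a : X ⟶ Y) (b : Y ⟶ Z), Q b → P (a ≫ b) → P a)
    {f : 𝒳 ⥤ᵇ 𝒴} {g : 𝒴 ⥤ᵇ 𝒵} (hg : AlgSt.RepByAlgSpWith Q (FibCat.diag g))
    (hfg : AlgSt.RepByAlgSpWith P (FibCat.diag (BasedFunctor.comp f g))) :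
    AlgSt.RepByAlgSpWith P (FibCat.diag f) :=
  repWith_of_comp_of hB hcancel (cmp_repWith f f g hg) ((repWith_congr (diagCompIso f g)).2 hfg)

/-- The absolute diagonal read through a functor. -/
theorem diag_toSelf_comp_iff {𝒳 𝒴 : AlgSt.Cat S} (f : 𝒳 ⥤ᵇ 𝒴) :
    AlgSt.RepByAlgSpWith P (FibCat.diag (FibCat.toSelf 𝒳)) ↔
      AlgSt.RepByAlgSpWith P (FibCat.diag (BasedFunctor.comp f (FibCat.toSelf 𝒴))) :=
  diag_repWith_square (f := FibCat.toSelf 𝒳) (f' := BasedFunctor.comp f (FibCat.toSelf 𝒴))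
    (isEquivOver_id _) (isEquivOver_id _) (toSelfIso f)

/-- The diagonal of a functor between algebraic stacks is representable by algebraic spaces. -/
theorem diag_rep1_alg {𝒳 𝒴 : AlgSt.Cat S} (h𝒳 : AlgSt.IsAlgStack Scheme.fppfPrecoverage 𝒳)
    (h𝒴 : AlgSt.IsAlgStack Scheme.fppfPrecoverage 𝒴) (f : 𝒳 ⥤ᵇ 𝒴) :
    AlgSt.RepByAlgSp1 (FibCat.diag f) :=
  diag_rep1_of_comp (g := FibCat.toSelf 𝒴) h𝒴.diag
    ((rep1_iff _).2 ((diag_toSelf_comp_iff f).1 ((rep1_iff _).1 h𝒳.diag)))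

theorem diag_locP_of_comp {R : MorphismProperty Scheme.{u}} (hR : Groth.L23.EtLocal R)
    (hpost : ∀ {A B C : Scheme.{u}} (φ : A ⟶ B) (ψ : B ⟶ C), R (φ ≫ ψ) → R φ)
    {f : 𝒳 ⥤ᵇ 𝒴} {g : 𝒴 ⥤ᵇ 𝒵} (hg : AlgSt.RepByAlgSp1 (FibCat.diag g))
    (hfg : AlgSt.RepByAlgSpWith (LocP R) (FibCat.diag (BasedFunctor.comp f g))) :
    AlgSt.RepByAlgSpWith (LocP R) (FibCat.diag f) :=
  diag_of_comp_repWith_of (pBase_locP hR) (fun _ _ _ hX hY hZ _ _ _ h => Groth.L23.locP_of_comp hR hpost hX hY hZ h)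
    ((rep1_iff _).1 hg) hfg

end Groth.L24.St
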