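import Groth.Agent.L24.St.FlatCover
import Groth.Agent.L24.St.LocPFppf
import Groth.Agent.L24.St.OfComp

/-!
Properties of the diagonal descend along flat covers of the target.
-/

set_option autoImplicit false
set_option backward.isDefEq.respectTransparency false
set_option backward.isDefEq.respectTransparency.types false

universe u

open CategoryTheory CategoryTheory.Limits AlgebraicGeometry Opposite AlgSt

noncomputable section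

namespace Groth.L24.St

variable {S : Scheme.{u}} {𝒳 𝒴 𝒵 : AlgSt.Cat S}

/-- The map of self products of a base change, as a change of one leg. -/
def bcMapIso (g : 𝒵 ⥤ᵇ 𝒴) (f : 𝒳 ⥤ᵇ 𝒴) :
    BasedFunctor.comp (fpPaste (FibCat.fpFst g f) g f)
      (legL (F := f) (G := f) (FibCat.fpSnd g f) (FibCat.fpIso g f).symm) ≅ bcMap g f :=
  mkIso2 (fun x => fpIsoMk (Iso.refl _) (Iso.refl _) (by
      show f.map (𝟙 _) ≫ x.obj.fst.obj.iso.inv ≫ g.map x.obj.iso.hom ≫ x.obj.snd.obj.iso.hom =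
        ((compApp (FibCat.fpIso g f).symm x.obj.fst).hom ≫
          (g.map x.obj.iso.hom ≫ x.obj.snd.obj.iso.hom) ≫ 𝟙 _) ≫ f.map (𝟙 _)
      simp [compApp, FibCat.fpIso]
      rfl))
    (fun x y m => fp_ext (show m.hom.fst.hom.snd ≫ 𝟙 _ = 𝟙 _ ≫ m.hom.fst.hom.snd by simp)
      (show m.hom.snd.hom.snd ≫ 𝟙 _ = 𝟙 _ ≫ m.hom.snd.hom.snd by simp))
    (fun x => overId_fp _ (overId_id _))

theorem bcMap_repWith {P : MorphismProperty (AlgSp.Sp S)} {g : 𝒵 ⥤ᵇ 𝒴} (f : 𝒳 ⥤ᵇ 𝒴)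
    (hg : RepByAlgSpWith P g) : RepByAlgSpWith P (bcMap g f) :=
  (repWith_congr (bcMapIso g f)).1 ((repWith_precomp (fpPaste_isEquivOver _ g f) _).2
    (legL_repWith (repWith_fpSnd f hg)))

variable {P : MorphismProperty (AlgSp.Sp S)}

/-- A property of the diagonal which is fppf local on the base descends along flat covers of the target. -/
theorem diag_repWith_of_fpFst_cover (hB : PBase P) (hL : AlgSp.IsLocalOnBase AlgSp.IsFppfCover P)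
    (h𝒳 : FibCat.IsFibGrpd 𝒳.p) (h𝒴 : FibCat.IsFibGrpd 𝒴.p) (h𝒵 : FibCat.IsFibGrpd 𝒵.p)
    {f : 𝒳 ⥤ᵇ 𝒴} (hf : RepByAlgSp1 (FibCat.diag f)) {z : 𝒵 ⥤ᵇ 𝒴}
    (hz₁ : RepByAlgSpWith (AlgSp.LocP @Flat) z)
    (hz₂ : RepByAlgSpWith (AlgSp.LocP @LocallyOfFinitePresentation) z)
    (hz₃ : RepByAlgSpWith AlgSp.IsSurjectiveMor z)
    (h : RepByAlgSpWith P (FibCat.diag (FibCat.fpFst z f))) : RepByAlgSpWith P (FibCat.diag f) := by
  refine repWith_of_fpFst_cover hasAtlasCovers_fppf hB hL (fun _ _ _ h => h) h𝒳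
    (L09.Fib.fp_isFibGrpd h𝒳 h𝒳 h𝒴)
    (L09.Fib.fp_isFibGrpd (L09.Fib.fp_isFibGrpd h𝒵 h𝒳 h𝒴) (L09.Fib.fp_isFibGrpd h𝒵 h𝒳 h𝒴) h𝒵)
    hf (bcMap_repWith f hz₁) (bcMap_repWith f hz₂) (bcMap_repWith f hz₃) ?_
  rw [← bcLift_fst z f] at h
  exact (repWith_precomp (bcLift_isEquivOver z f) _).1 h

theorem diag_locP_of_fpFst_cover {R : MorphismProperty Scheme.{u}} (hR : Groth.L23.EtLocal R)
    (h𝒳 : IsAlgStack Scheme.fppfPrecoverage 𝒳) (h𝒴 : IsAlgStack Scheme.fppfPrecoverage 𝒴)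
    (h𝒵 : FibCat.IsFibGrpd 𝒵.p) {f : 𝒳 ⥤ᵇ 𝒴} {z : 𝒵 ⥤ᵇ 𝒴}
    (hz₁ : RepByAlgSpWith (AlgSp.LocP @Flat) z)
    (hz₂ : RepByAlgSpWith (AlgSp.LocP @LocallyOfFinitePresentation) z)
    (hz₃ : RepByAlgSpWith AlgSp.IsSurjectiveMor z)
    (h : RepByAlgSpWith (AlgSp.LocP R) (FibCat.diag (FibCat.fpFst z f))) :
    RepByAlgSpWith (AlgSp.LocP R) (FibCat.diag f) :=
  diag_repWith_of_fpFst_cover (pBase_locP hR) (isLocalOnBase_locP_fppf hR) h𝒳.isStack.1 h𝒴.isStack.1 h𝒵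
    (diag_rep1_alg h𝒳 h𝒴 f) hz₁ hz₂ hz₃ h

end Groth.L24.St
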