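import Groth.Agent.L24.St.DiagSpace
import Groth.Agent.L24.St.AlgStackInv

/-!
Functors between fibre products induced on the legs, as composites of base changes.
-/

set_option autoImplicit false
set_option backward.isDefEq.respectTransparency false
set_option backward.isDefEq.respectTransparency.types false

universe v₆ u₆ v₅ u₅ v₄ u₄ v₃ u₃ v₂ u₂ v u

open CategoryTheory CategoryTheory.Limits Category AlgebraicGeometry AlgSp

namespace Groth.L24.St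

section Generic

variable {C : Type u} [Category.{v} C] {𝒳 : BasedCategory.{v₂, u₂} C} {𝒴 : BasedCategory.{v₃, u₃} C}
  {𝒮 : BasedCategory.{v₄, u₄} C} {𝒳' : BasedCategory.{v₅, u₅} C} {𝒴' : BasedCategory.{v₆, u₆} C}
  {F : 𝒳 ⥤ᵇ 𝒮} {G : 𝒴 ⥤ᵇ 𝒮} {F' : 𝒳' ⥤ᵇ 𝒮} {G' : 𝒴' ⥤ᵇ 𝒮}
  (a : 𝒳' ⥤ᵇ 𝒳) (b : 𝒴' ⥤ᵇ 𝒴) (α : BasedFunctor.comp a F ≅ F') (β : BasedFunctor.comp b G ≅ G')

/-- Changing the first leg. -/
abbrev legL : FibCat.fp F' G ⥤ᵇ FibCat.fp F G := fpMap a (BasedFunctor.id 𝒴) α (Iso.refl _)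

/-- Changing the second leg. -/
abbrev legR : FibCat.fp F G' ⥤ᵇ FibCat.fp F G := fpMap (BasedFunctor.id 𝒳) b (Iso.refl _) β

/-- Changing both legs in two steps. -/
def legsIso : BasedFunctor.comp (fpMap (BasedFunctor.id 𝒳') b (Iso.refl _) β : FibCat.fp F' G' ⥤ᵇ FibCat.fp F' G)
    (legL a α) ≅ fpMap a b α β :=
  mkIso2 (fun x => fpIsoMk (Iso.refl _) (Iso.refl _) (by
      show F.map (𝟙 _) ≫ (compApp α x.obj.fst).hom ≫ x.obj.iso.hom ≫ (compApp β x.obj.snd).inv =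
        ((compApp α x.obj.fst).hom ≫ (𝟙 _ ≫ x.obj.iso.hom ≫ (compApp β x.obj.snd).inv) ≫ 𝟙 _) ≫ G.map (𝟙 _)
      simp))
    (fun x y m => fp_ext (show a.map m.hom.fst ≫ 𝟙 _ = 𝟙 _ ≫ a.map m.hom.fst by simp)
      (show b.map m.hom.snd ≫ 𝟙 _ = 𝟙 _ ≫ b.map m.hom.snd by simp))
    (fun x => overId_fp _ (overId_id _))

/-- The first leg change as a base change. -/
def legLLift : FibCat.fp F' G ⥤ᵇ FibCat.fp (FibCat.fpFst F G) a :=
  FibCat.fpLift (legL a α) (FibCat.fpFst F' G)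
    (show BasedFunctor.comp (legL (G := G) a α) (FibCat.fpFst F G) ≅ BasedFunctor.comp (FibCat.fpFst F' G) a
      from Iso.refl _)

theorem legLLift_isEquivOver : FibCat.IsEquivOver (legLLift (G := G) a α) := by
  have : (legLLift (G := G) a α).toFunctor.Faithful := ⟨fun {x y m m'} h =>
    fp_ext (congrArg (fun k : (legLLift (G := G) a α).obj x ⟶ (legLLift (G := G) a α).obj y => k.hom.snd) h)
      (congrArg (fun k : (legLLift (G := G) a α).obj x ⟶ (legLLift (G := G) a α).obj y => k.hom.fst.hom.snd) h)⟩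
  have : (legLLift (G := G) a α).toFunctor.Full := ⟨fun {x y} M => by
    have h1 : M.hom.fst.hom.fst ≫ 𝟙 _ = 𝟙 _ ≫ a.map M.hom.snd := M.hom.w
    rw [Category.comp_id, Category.id_comp] at h1
    have h2 : F.map M.hom.fst.hom.fst ≫ (compApp α y.obj.fst).hom ≫ y.obj.iso.hom ≫ 𝟙 _ =
        ((compApp α x.obj.fst).hom ≫ x.obj.iso.hom ≫ 𝟙 _) ≫ G.map M.hom.fst.hom.snd := M.hom.fst.hom.w
    obtain ⟨n, hn⟩ : ∃ n : x.obj.fst ⟶ y.obj.fst, a.map n = a.map M.hom.snd ∧ n = M.hom.snd := ⟨M.hom.snd, rfl, rfl⟩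
    rw [h1, ← hn.1, reassoc_of% (compApp_naturality α n)] at h2
    simp only [Category.assoc, Category.comp_id, Category.id_comp] at h2
    exact ⟨fpHom n M.hom.fst.hom.snd ((cancel_epi _).1 h2), fp_ext (fp_ext (hn.1.trans h1.symm) rfl) hn.2⟩⟩
  refine isEquivOver_of_overId _ fun η => ?_
  let j := η.obj.iso
  have hj : OverId j.hom := fp_overId η
  let k : F'.obj η.obj.snd ≅ G.obj η.obj.fst.obj.snd :=
    (compApp α η.obj.snd).symm ≪≫ F.toFunctor.mapIso j.symm ≪≫ η.obj.fst.obj.iso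
  have hk : OverId k.hom :=
    (OverId.inv (compApp_overId α _)).comp (((OverId.inv hj).map F).comp (fp_overId η.obj.fst))
  refine ⟨fpObj η.obj.snd η.obj.fst.obj.snd k hk,
    fpIsoMk (fpIsoMk j.symm (Iso.refl _) ?_) (Iso.refl _) ?_, overId_fp _ (overId_fp _ hj.inv)⟩
  · show F.map j.inv ≫ η.obj.fst.obj.iso.hom =
      ((compApp α η.obj.snd).hom ≫ k.hom ≫ 𝟙 _) ≫ G.map (𝟙 _)
    simp [k]
  · show j.inv ≫ η.obj.iso.hom = 𝟙 _ ≫ a.map (𝟙 _)
    simp [j]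

/-- The second leg change as a base change. -/
def legRLift : FibCat.fp F G' ⥤ᵇ FibCat.fp (FibCat.fpSnd F G) b :=
  FibCat.fpLift (legR b β) (FibCat.fpSnd F G')
    (show BasedFunctor.comp (legR (F := F) b β) (FibCat.fpSnd F G) ≅ BasedFunctor.comp (FibCat.fpSnd F G') b
      from Iso.refl _)

theorem legRLift_isEquivOver : FibCat.IsEquivOver (legRLift (F := F) b β) := by
  have : (legRLift (F := F) b β).toFunctor.Faithful := ⟨fun {x y m m'} h =>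
    fp_ext (congrArg (fun k : (legRLift (F := F) b β).obj x ⟶ (legRLift (F := F) b β).obj y => k.hom.fst.hom.fst) h)
      (congrArg (fun k : (legRLift (F := F) b β).obj x ⟶ (legRLift (F := F) b β).obj y => k.hom.snd) h)⟩
  have : (legRLift (F := F) b β).toFunctor.Full := ⟨fun {x y} M => by
    have h1 : M.hom.fst.hom.snd ≫ 𝟙 _ = 𝟙 _ ≫ b.map M.hom.snd := M.hom.w
    rw [Category.comp_id, Category.id_comp] at h1
    have h2 : F.map M.hom.fst.hom.fst ≫ 𝟙 _ ≫ y.obj.iso.hom ≫ (compApp β y.obj.snd).inv =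
        (𝟙 _ ≫ x.obj.iso.hom ≫ (compApp β x.obj.snd).inv) ≫ G.map M.hom.fst.hom.snd := M.hom.fst.hom.w
    obtain ⟨n, hn⟩ : ∃ n : x.obj.snd ⟶ y.obj.snd, b.map n = b.map M.hom.snd ∧ n = M.hom.snd := ⟨M.hom.snd, rfl, rfl⟩
    obtain ⟨n', hn'⟩ : ∃ n' : x.obj.fst ⟶ y.obj.fst, F.map n' = F.map M.hom.fst.hom.fst ∧ n' = M.hom.fst.hom.fst :=
      ⟨M.hom.fst.hom.fst, rfl, rfl⟩
    rw [h1, ← hn.1, ← hn'.1] at h2
    simp only [Category.id_comp, Category.assoc] at h2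
    rw [← compApp_naturality_inv β n, ← Category.assoc, ← Category.assoc, cancel_mono] at h2
    exact ⟨fpHom n' n h2, fp_ext (fp_ext hn'.2 (hn.1.trans h1.symm)) hn.2⟩⟩
  refine isEquivOver_of_overId _ fun η => ?_
  let j := η.obj.iso
  have hj : OverId j.hom := fp_overId η
  let k : F.obj η.obj.fst.obj.fst ≅ G'.obj η.obj.snd :=
    η.obj.fst.obj.iso ≪≫ G.toFunctor.mapIso j ≪≫ compApp β η.obj.snd
  have hk : OverId k.hom := (fp_overId η.obj.fst).comp ((hj.map G).comp (compApp_overId β _))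
  refine ⟨fpObj η.obj.fst.obj.fst η.obj.snd k hk,
    fpIsoMk (fpIsoMk (Iso.refl _) j.symm ?_) (Iso.refl _) ?_, overId_fp _ (overId_fp _ (overId_id _))⟩
  · show F.map (𝟙 _) ≫ η.obj.fst.obj.iso.hom =
      (𝟙 _ ≫ k.hom ≫ (compApp β η.obj.snd).inv) ≫ G.map j.inv
    simp only [k, Iso.trans_hom, Functor.mapIso_hom, CategoryTheory.Functor.map_id, Category.id_comp,
      Category.assoc, Iso.hom_inv_id_assoc]
    rw [← G.toFunctor.map_comp, Iso.hom_inv_id, CategoryTheory.Functor.map_id]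
    exact (Category.comp_id _).symm
  · show j.inv ≫ η.obj.iso.hom = 𝟙 _ ≫ b.map (𝟙 _)
    simp [j]

/-- Functors into a fibre product over the base itself are determined by their components. -/
def fpLiftSelfIso {ℬ : BasedCategory.{v₅, u₅} C} {u : ℬ ⥤ᵇ 𝒳} {w : ℬ ⥤ᵇ 𝒴}
    (e e' : BasedFunctor.comp u (FibCat.toSelf 𝒳) ≅ BasedFunctor.comp w (FibCat.toSelf 𝒴)) :
    FibCat.fpLift u w e ≅ FibCat.fpLift u w e' :=
  mkIso2 (fun x => fpIsoMk (Iso.refl _) (Iso.refl _) (by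
      obtain ⟨h1, h1'⟩ := (overId_app e.hom x).eq
      obtain ⟨h2, h2'⟩ := (overId_app e'.hom x).eq
      show (FibCat.toSelf 𝒳).map (𝟙 _) ≫ e'.hom.toNatTrans.app x =
        e.hom.toNatTrans.app x ≫ (FibCat.toSelf 𝒴).map (𝟙 _)
      rw [CategoryTheory.Functor.map_id, CategoryTheory.Functor.map_id]
      refine (Category.id_comp _).trans (Eq.trans ?_ (Category.comp_id _).symm)
      exact h2'.trans h1'.symm))
    (fun x y φ => fp_ext (show u.map φ ≫ 𝟙 _ = 𝟙 _ ≫ u.map φ by simp)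
      (show w.map φ ≫ 𝟙 _ = 𝟙 _ ≫ w.map φ by simp))
    (fun x => overId_fp _ (overId_id _))

end Generic

variable {S : Scheme.{u}} {P : MorphismProperty (Sp S)}
  {𝒳 𝒳' 𝒴 𝒴' 𝒮 : BasedCategory.{u, u + 1} (Over S)}
  {F : 𝒳 ⥤ᵇ 𝒮} {G : 𝒴 ⥤ᵇ 𝒮} {F' : 𝒳' ⥤ᵇ 𝒮} {G' : 𝒴' ⥤ᵇ 𝒮}
  {a : 𝒳' ⥤ᵇ 𝒳} {b : 𝒴' ⥤ᵇ 𝒴} {α : BasedFunctor.comp a F ≅ F'} {β : BasedFunctor.comp b G ≅ G'}

theorem legL_repWith (ha : AlgSt.RepByAlgSpWith P a) : AlgSt.RepByAlgSpWith P (legL (G := G) a α) :=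
  (repWith_precomp (legLLift_isEquivOver (G := G) a α) _).2 (repWith_fpFst (FibCat.fpFst F G) ha)

theorem legR_repWith (hb : AlgSt.RepByAlgSpWith P b) : AlgSt.RepByAlgSpWith P (legR (F := F) b β) :=
  (repWith_precomp (legRLift_isEquivOver (F := F) b β) _).2 (repWith_fpFst (FibCat.fpSnd F G) hb)

theorem fpMap_repWith {τ : CovNotion S} (hτ : HasAtlasCovers τ) (hB : PBase P) (hC : PComp P)
    (hL : IsLocalOnBase τ P) (h𝒳' : FibCat.IsFibGrpd 𝒳'.p) (h𝒴 : FibCat.IsFibGrpd 𝒴.p)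
    (h𝒴' : FibCat.IsFibGrpd 𝒴'.p) (h𝒮 : FibCat.IsFibGrpd 𝒮.p)
    (ha : AlgSt.RepByAlgSpWith P a) (hb : AlgSt.RepByAlgSpWith P b) :
    AlgSt.RepByAlgSpWith P (fpMap a b α β) :=
  (repWith_congr (legsIso a b α β)).1 (repWith_comp hτ hB hC hL
    (L09.Fib.fp_isFibGrpd h𝒳' h𝒴' h𝒮) (L09.Fib.fp_isFibGrpd h𝒳' h𝒴 h𝒮) (legR_repWith hb) (legL_repWith ha))

theorem diag_fpMap_repWith {τ : CovNotion S} (hτ : HasAtlasCovers τ) (hB : PBase P) (hC : PComp P)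
    (hL : IsLocalOnBase τ P) (h𝒳' : FibCat.IsFibGrpd 𝒳'.p) (h𝒴 : FibCat.IsFibGrpd 𝒴.p)
    (h𝒴' : FibCat.IsFibGrpd 𝒴'.p) (h𝒮 : FibCat.IsFibGrpd 𝒮.p)
    (ha : AlgSt.RepByAlgSpWith P (FibCat.diag a)) (hb : AlgSt.RepByAlgSpWith P (FibCat.diag b)) :
    AlgSt.RepByAlgSpWith P (FibCat.diag (fpMap a b α β)) := by
  have h2 : AlgSt.RepByAlgSpWith P (FibCat.diag (legL (G := G) a α)) :=
    (diag_repWith_square (f := FibCat.fpFst (FibCat.fpFst F G) a) (f' := legL (G := G) a α)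
      (legLLift_isEquivOver (G := G) a α) (isEquivOver_id _) (Iso.refl _)).1
      (diag_fpFst_repWith (FibCat.fpFst F G) ha)
  have h1 : AlgSt.RepByAlgSpWith P (FibCat.diag (legR (F := F') b β)) :=
    (diag_repWith_square (f := FibCat.fpFst (FibCat.fpSnd F' G) b) (f' := legR (F := F') b β)
      (legRLift_isEquivOver (F := F') b β) (isEquivOver_id _) (Iso.refl _)).1
      (diag_fpFst_repWith (FibCat.fpSnd F' G) hb)
  have h3 := diag_comp_repWith hτ hB hC hL (L09.Fib.fp_isFibGrpd h𝒳' h𝒴' h𝒮)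
    (L09.Fib.fp_isFibGrpd h𝒳' h𝒴 h𝒮) h1 h2
  exact (diag_repWith_square
    (f := BasedFunctor.comp (fpMap (BasedFunctor.id 𝒳') b (Iso.refl _) β) (legL a α)) (f' := fpMap a b α β)
    (isEquivOver_id _) (isEquivOver_id _) (legsIso a b α β).symm).1 h3

end Groth.L24.St
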