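import Groth.Agent.L24.St.ChartTop
import Groth.Agent.L24.St.DiagAbs
import Groth.Agent.L24.LocQ.BaseChange
import Groth.Agent.L24.Top.SpectralQuot
import Groth.Agent.L23.Compact
import Mathlib.AlgebraicGeometry.Morphisms.Descent

/-!
Points of an algebraic stack with quasi-compact diagonal are locally spectral.
-/

set_option autoImplicit false
set_option backward.isDefEq.respectTransparency false
set_option backward.isDefEq.respectTransparency.types false

universe u

open CategoryTheory CategoryTheory.Limits AlgebraicGeometry Opposite AlgSt Topology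

noncomputable section

namespace Groth.L24.St

variable {S : Scheme.{u}} {𝒳 : AlgSt.Cat S}

theorem selfOver_ext {𝒲 : AlgSt.Cat S} (F G : 𝒲 ⥤ᵇ FibCat.selfOver (Over S)) : F = G := by
  obtain ⟨F, hF⟩ := F
  obtain ⟨G, hG⟩ := G
  obtain rfl : F = G := (Functor.comp_id F).symm.trans (hF.trans (hG.symm.trans (Functor.comp_id G)))
  rfl

/-- The product of two schemes over the base read on their categories. -/
theorem exists_prod_equiv (U V : Over S) [CompactSpace U.left] [CompactSpace V.left] [QuasiSeparatedSpace S]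
    (a : FibCat.overCat U ⥤ᵇ FibCat.selfOver (Over S)) (b : FibCat.overCat V ⥤ᵇ FibCat.selfOver (Over S)) :
    ∃ (P : Over S) (E : FibCat.overCat P ⥤ᵇ FibCat.fp a b), CompactSpace P.left ∧ FibCat.IsEquivOver E := by
  let T : Over S := Over.mk (𝟙 S)
  let h : U ⟶ T := Over.homMk U.hom (Category.comp_id _)
  let k : V ⟶ T := Over.homMk V.hom (Category.comp_id _)
  let sq := ((IsPullback.of_hasPullback h k).map (AlgSp.yon S)).map (sheafToPresheaf (AlgSp.J S) (Type (u + 1)))
  let A := pshFp sq.w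
  let B := fpPost (ofSpMap ((AlgSp.yon S).map h)) (ofSpMap ((AlgSp.yon S).map k)) (toOverCat T)
  let C := fpMap (F := overMap h) (G := overMap k)
    (F' := BasedFunctor.comp (ofSpMap ((AlgSp.yon S).map h)) (toOverCat T))
    (G' := BasedFunctor.comp (ofSpMap ((AlgSp.yon S).map k)) (toOverCat T))
    (toOverCat U) (toOverCat V) (LocQ.yonToOverIso h).symm (LocQ.yonToOverIso k).symm
  let D := fpPost (overMap h) (overMap k) (FibCat.toSelf (FibCat.overCat T))
  let D' := fpMap (F := a) (G := b)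
    (F' := BasedFunctor.comp (overMap h) (FibCat.toSelf (FibCat.overCat T)))
    (G' := BasedFunctor.comp (overMap k) (FibCat.toSelf (FibCat.overCat T)))
    (BasedFunctor.id _) (BasedFunctor.id _) (eqToIso (selfOver_ext _ _)) (eqToIso (selfOver_ext _ _))
  refine ⟨pullback h k, BasedFunctor.comp (BasedFunctor.comp (ofOverCat (pullback h k))
    (BasedFunctor.comp A (BasedFunctor.comp B C))) (BasedFunctor.comp D D'), ?_, ?_⟩
  · let e : (pullback h k).left ≅ pullback U.hom V.hom :=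
      ((IsPullback.of_hasPullback h k).map (Over.forget S)).isoPullback
    have : CompactSpace ↑(pullback U.hom V.hom) := inferInstance
    exact e.hom.homeomorph.symm.compactSpace
  · exact isEquivOver_comp (isEquivOver_comp (ofOverCat_isEquivOver _)
      (isEquivOver_comp (pshFp_isEquivOver sq) (isEquivOver_comp (fpPost_isEquivOver _ _ (toOverCat_isEquivOver T))
        (fpMap_isEquivOver (toOverCat_isEquivOver U) (toOverCat_isEquivOver V) _ _))))
      (isEquivOver_comp (fpPost_isEquivOver _ _ toSelf_isEquivOver_of_terminal)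
        (fpMap_isEquivOver (isEquivOver_id _) (isEquivOver_id _) _ _))

/-- A quasi-compact space representing the fibre product of two quasi-compact charts. -/
theorem exists_qc_space [QuasiSeparatedSpace S]
    (hΔ : RepByAlgSpWith AlgSp.IsQuasiCompactMor (FibCat.diag (FibCat.toSelf 𝒳))) {U V : Over S}
    [CompactSpace U.left] [CompactSpace V.left] (x : FibCat.overCat U ⥤ᵇ 𝒳) (y : FibCat.overCat V ⥤ᵇ 𝒳) :
    ∃ (F : AlgSp.Space S) (e : ofSp F.obj ⥤ᵇ FibCat.fp x y),
      FibCat.IsEquivOver e ∧ AlgSp.IsQuasiCompactSp F.obj := by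
  let t := FibCat.toSelf 𝒳
  obtain ⟨P, E, hP, hE⟩ := exists_prod_equiv U V (BasedFunctor.comp x t) (BasedFunctor.comp y t)
  obtain ⟨F, e, he, hν⟩ := cmp_repWith x y t hΔ P E
  exact ⟨F, BasedFunctor.comp e (FibCat.fpSnd E (fpPost x y t)),
    isEquivOver_comp he (isEquivOver_comp (F := fpSwap) (G := FibCat.fpFst (fpPost x y t) E)
      fpSwap_isEquivOver (fpFst_isEquivOver hE)),
    hν (AlgSp.IsAlgSpace.yon_obj P) Groth.L23.isQuasiCompactSp_of_compactSpace (𝟙 _) (𝟙 F.obj)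
      (spMapOfOver (BasedFunctor.comp e (FibCat.fpFst E (fpPost x y t))))
      (IsPullback.of_horiz_isIso ⟨by simp⟩)⟩

/-- An affine scheme giving the relation of two quasi-compact charts. -/
theorem exists_affine_rel [QuasiSeparatedSpace S] (h𝒳 : FibCat.IsFibGrpd 𝒳.p)
    (hΔ : RepByAlgSpWith AlgSp.IsQuasiCompactMor (FibCat.diag (FibCat.toSelf 𝒳))) {U V : Over S}
    [CompactSpace U.left] [CompactSpace V.left] (x : FibCat.overCat U ⥤ᵇ 𝒳) (y : FibCat.overCat V ⥤ᵇ 𝒳) :
    ∃ (W : Over S) (ψ : W ⟶ U) (ρ : W ⟶ V), IsAffine W.left ∧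
      (∀ w, Points.ofChart x (ψ.left w) = Points.ofChart y (ρ.left w)) ∧
      ∀ t v, Points.ofChart x t = Points.ofChart y v → ∃ w, ψ.left w = t ∧ ρ.left w = v := by
  obtain ⟨F, e, he, W₀, a₀, -, haS₀, hW₀⟩ := exists_qc_space hΔ x y
  obtain ⟨Y, p, hpS, hp, hY⟩ := W₀.left.exists_hom_isAffine_of_isZariskiLocalAtSource @IsLocalIso
  let W : Over S := Over.mk (p ≫ W₀.hom)
  let j : W ⟶ W₀ := Over.homMk p rfl
  let a : (AlgSp.yon S).obj W ⟶ F.obj := (AlgSp.yon S).map j ≫ a₀
  let E : FibCat.overCat W ⥤ᵇ FibCat.fp x y :=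
    BasedFunctor.comp (ofOverCat W) (BasedFunctor.comp (ofSpMap a) e)
  obtain ⟨ψ, ⟨iψ⟩, -⟩ := exists_overMap_iso (BasedFunctor.comp E (FibCat.fpFst x y))
  obtain ⟨ρ, ⟨iρ⟩, -⟩ := exists_overMap_iso (BasedFunctor.comp E (FibCat.fpSnd x y))
  refine ⟨W, ψ, ρ, hY, fun w => ?_, fun t v htv => ?_⟩
  · rw [← ofChart_overMap_comp, ← ofChart_overMap_comp, ← ofChart_congr (whiskerR iψ x),
      ← ofChart_congr (whiskerR iρ y)]
    exact congrFun (ofChart_congr (whiskerL E (FibCat.fpIso x y))) w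
  · obtain ⟨z₀, hz1, hz2⟩ := exists_points_fp (overCat_isFibGrpd V) h𝒳 (overCat_isFibGrpd U) y x
      (ptOver t) (ptOver v) htv
    obtain ⟨z, rfl⟩ := (bijective_map_of_isEquivOver he).surjective z₀
    obtain ⟨q, rfl⟩ := exists_toFPt z
    obtain ⟨s₀, hs₀⟩ := Groth.L23.surjective_ofPt haS₀ (AlgSp.Points.mk q)
    obtain ⟨s, rfl⟩ := hpS.surj s₀
    have hs : AlgSp.Points.ofPt a s = AlgSp.Points.mk q := (Groth.L23.ofPt_comp j a₀ s).trans hs₀
    have hz : Points.map (spChart a) (ptOver s) = Points.mk (toFPt q) :=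
      Points.sound (rel_toFPt (AlgSp.Points.mk_eq_mk_iff.1 hs))
    refine ⟨s, (overPtEquiv U).symm.injective ?_, (overPtEquiv V).symm.injective ?_⟩
    · show ptOver (ψ.left s) = ptOver t
      rw [← map_overMap_ptOver, ← map_congr iψ, ← hz1, ← hz]
      rfl
    · show ptOver (ρ.left s) = ptOver v
      rw [← map_overMap_ptOver, ← map_congr iρ, ← hz2, ← hz]
      rfl

/-- The image of an affine chart is an open spectral subspace. -/
theorem spectralSpace_range_chart [QuasiSeparatedSpace S] (h𝒳 : IsAlgStack Scheme.fppfPrecoverage 𝒳)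
    (hΔ : RepByAlgSpWith AlgSp.IsQuasiCompactMor (FibCat.diag (FibCat.toSelf 𝒳))) {U : Over S} [IsAffine U.left]
    {x : FibCat.overCat U ⥤ᵇ 𝒳} (hx : RepByAlgSpWith (AlgSp.LocP @Smooth) x) :
    IsOpen (Set.range (Points.ofChart x)) ∧ SpectralSpace ↥(Set.range (Points.ofChart x)) := by
  have ho := isOpenMap_ofChart isOpenMap_of_smooth h𝒳.isStack.1 hx
  obtain ⟨W, ψ, ρ, hW, hw, hrel⟩ := exists_affine_rel h𝒳.isStack.1 hΔ x x
  have : SpectralSpace ↥U.left := {}
  have : SpectralSpace ↥W.left := {}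
  refine ⟨ho.isOpen_range, ?_⟩
  exact Top.spectralSpace_of_rel (f := Set.rangeFactorization (Points.ofChart x))
    ((continuous_ofChart h𝒳 x).subtype_mk _)
    (fun O hO => by
      refine isOpen_induced_iff.2 ⟨Points.ofChart x '' O, ho O hO, ?_⟩
      ext ⟨z, hz⟩
      simp only [Set.mem_preimage, Set.mem_image, Set.rangeFactorization, Subtype.mk.injEq])
    Set.rangeFactorization_surjective ψ.left.isSpectralMap ρ.left.isSpectralMap
    (fun w => Subtype.ext (hw w)) (fun t v e => hrel t v (congrArg Subtype.val e))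

theorem spectralSpace_points [QuasiSeparatedSpace S] (h𝒳 : IsAlgStack Scheme.fppfPrecoverage 𝒳)
    (hqc : IsQuasiCompact 𝒳)
    (hΔ : RepByAlgSpWith AlgSp.IsQuasiCompactMor (FibCat.diag (FibCat.toSelf 𝒳))) :
    SpectralSpace (Points 𝒳) := by
  obtain ⟨U, x, hU, hx, hxs⟩ := hqc
  have := spectralSpace_range_chart h𝒳 hΔ hx
  rw [(surjective_ofChart_of_repWith h𝒳.isStack.1 hxs).range_eq] at this
  have := this.2
  have : CompactSpace (Points 𝒳) := (Homeomorph.Set.univ (Points 𝒳)).compactSpace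
  exact (Homeomorph.Set.univ (Points 𝒳)).symm.isOpenEmbedding.spectralSpace

theorem exists_spectral_nhd [QuasiSeparatedSpace S] (h𝒳 : IsAlgStack Scheme.fppfPrecoverage 𝒳)
    (hΔ : RepByAlgSpWith AlgSp.IsQuasiCompactMor (FibCat.diag (FibCat.toSelf 𝒳))) (p : Points 𝒳) :
    ∃ U : Set (Points 𝒳), IsOpen U ∧ p ∈ U ∧ SpectralSpace ↥U := by
  obtain ⟨V, y, hy, hys⟩ := h𝒳.atlas
  obtain ⟨t, rfl⟩ := surjective_ofChart_of_repWith h𝒳.isStack.1 hys p
  obtain ⟨O, hO, ht, -⟩ := V.left.isBasis_affineOpens.exists_subset_of_mem_open (Set.mem_univ t) isOpen_univ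
  obtain ⟨O', hO', rfl⟩ := hO
  let j : Over.mk (Scheme.Opens.ι (X := V.left) O' ≫ V.hom) ⟶ V := Over.homMk (Scheme.Opens.ι (X := V.left) O') rfl
  have : IsAffine (Over.mk (Scheme.Opens.ι (X := V.left) O' ≫ V.hom)).left := hO'
  have : Etale j.left := inferInstanceAs (Etale (Scheme.Opens.ι (X := V.left) O'))
  obtain ⟨h1, h2⟩ := spectralSpace_range_chart h𝒳 hΔ (smooth_overMap_comp j hy)
  exact ⟨_, h1, ⟨(⟨t, ht⟩ : (Scheme.Opens.toScheme (X := V.left) O')), ofChart_overMap_comp j y (⟨t, ht⟩ : (Scheme.Opens.toScheme (X := V.left) O'))⟩, h2⟩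

theorem quasiSober_t0_points [QuasiSeparatedSpace S] (h𝒳 : IsAlgStack Scheme.fppfPrecoverage 𝒳)
    (hΔ : RepByAlgSpWith AlgSp.IsQuasiCompactMor (FibCat.diag (FibCat.toSelf 𝒳))) :
    QuasiSober (Points 𝒳) ∧ T0Space (Points 𝒳) := by
  refine ⟨⟨fun {Z} hZ hZc => ?_⟩, ⟨fun p q hpq => ?_⟩⟩
  · obtain ⟨z, hz⟩ := hZ.nonempty
    obtain ⟨U, hU, hzU, hs⟩ := exists_spectral_nhd h𝒳 hΔ z
    have hirr : IsIrreducible ((↑) ⁻¹' Z : Set ↥U) :=
      ⟨⟨⟨z, hzU⟩, hz⟩, hZ.2.preimage hU.isOpenEmbedding_subtypeVal⟩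
    obtain ⟨η, hη⟩ := QuasiSober.sober hirr (hZc.preimage continuous_subtype_val)
    refine ⟨η.1, subset_antisymm (closure_minimal (Set.singleton_subset_iff.2 hη.mem) hZc) ?_⟩
    refine (subset_closure_inter_of_isPreirreducible_of_isOpen hZ.2 hU ⟨z, hz, hzU⟩).trans
      (closure_minimal ?_ isClosed_closure)
    rintro y ⟨hy, hyU⟩
    exact specializes_iff_mem_closure.1
      ((hη.specializes (y := (⟨y, hyU⟩ : ↥U)) hy).map continuous_subtype_val)
  · obtain ⟨U, hU, hpU, hs⟩ := exists_spectral_nhd h𝒳 hΔ p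
    have hqU : q ∈ U := (hpq.mem_open_iff hU).1 hpU
    have : Inseparable (⟨p, hpU⟩ : ↥U) ⟨q, hqU⟩ := subtype_inseparable_iff _ _ |>.2 hpq
    exact congrArg Subtype.val this.eq

end Groth.L24.St
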