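import Groth.Agent.L24.Alg.SpaceBaseLocal
import Groth.Agent.L24.St.Spectral
import Groth.Agent.L24.St.UnivProps
import Groth.Agent.L24.St.DiagCover
import Groth.Agent.L24.LocQ.RepDescent

/-!
Quasi-compact, quasi-separated and separated functors between algebraic stacks.
-/

set_option autoImplicit false
set_option backward.isDefEq.respectTransparency false
set_option backward.isDefEq.respectTransparency.types false

universe u

open CategoryTheory CategoryTheory.Limits AlgebraicGeometry Opposite AlgSt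

noncomputable section

namespace Groth.L24.St

variable {S : Scheme.{u}} {𝒳 𝒴 𝒵 : AlgSt.Cat S}

theorem pBase_qcMor : PBase (AlgSp.IsQuasiCompactMor : MorphismProperty (AlgSp.Sp S)) :=
  fun _ _ _ _ _ _ _ _ _ _ _ _ sq h => Groth.L23.qcMor_of_isPullback sq h

theorem pBase_qsMor : PBase (AlgSp.IsQuasiSeparatedMor : MorphismProperty (AlgSp.Sp S)) :=
  fun _ _ _ _ _ _ _ _ _ _ _ _ sq h => Groth.L24.Alg.qsMor_of_isPullback sq h

theorem pBase_sepMor : PBase (AlgSp.IsSeparatedMor : MorphismProperty (AlgSp.Sp S)) :=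
  fun _ _ _ _ _ _ _ _ _ _ _ _ sq h => Groth.L23.separated_of_isPullback sq h

theorem pBase_proper : PBase (AlgSp.IsProperMor : MorphismProperty (AlgSp.Sp S)) :=
  fun _ _ _ _ h₁ h₂ _ h₄ _ _ _ _ sq h => Groth.L23.isProperMor_of_isPullback h₁ h₂ h₄ sq h

theorem pBase_qcqs :
    PBase (AlgSp.IsQuasiCompactMor ⊓ AlgSp.IsQuasiSeparatedMor : MorphismProperty (AlgSp.Sp S)) :=
  fun _ _ _ _ h₁ h₂ h₃ h₄ _ _ _ _ sq h =>
    ⟨pBase_qcMor h₁ h₂ h₃ h₄ _ _ _ _ sq h.1, pBase_qsMor h₁ h₂ h₃ h₄ _ _ _ _ sq h.2⟩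

theorem pComp_proper : PComp (AlgSp.IsProperMor : MorphismProperty (AlgSp.Sp S)) :=
  fun _ _ _ hX hY hZ _ _ ha hb => Groth.L23.isProperMor_comp hX hY hZ ha hb

theorem pComp_qcqs :
    PComp (AlgSp.IsQuasiCompactMor ⊓ AlgSp.IsQuasiSeparatedMor : MorphismProperty (AlgSp.Sp S)) :=
  fun _ _ _ _ hY hZ _ _ ha hb => ⟨Groth.L23.qcMor_comp hY hZ ha.1 hb.1, Groth.L23.qsMor_comp ha.2 hb.2⟩

theorem isLocalOnBase_fppf_qcqs : AlgSp.IsLocalOnBase AlgSp.IsFppfCover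
    (AlgSp.IsQuasiCompactMor ⊓ AlgSp.IsQuasiSeparatedMor : MorphismProperty (AlgSp.Sp S)) := by
  intro ι Y Yi g hY hYi hcov X f hX Xi p q hXi sq
  exact ⟨fun h i => ⟨(Groth.L24.Alg.isLocalOnBase_fppf_qcMor Yi g hY hYi hcov f hX Xi p q hXi sq).1 h.1 i,
      (Groth.L24.Alg.isLocalOnBase_fppf_qsMor Yi g hY hYi hcov f hX Xi p q hXi sq).1 h.2 i⟩, fun h =>
    ⟨(Groth.L24.Alg.isLocalOnBase_fppf_qcMor Yi g hY hYi hcov f hX Xi p q hXi sq).2 fun i => (h i).1,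
      (Groth.L24.Alg.isLocalOnBase_fppf_qsMor Yi g hY hYi hcov f hX Xi p q hXi sq).2 fun i => (h i).2⟩⟩

theorem isSeparatedMor_comp (h𝒳 : FibCat.IsFibGrpd 𝒳.p) (h𝒴 : FibCat.IsFibGrpd 𝒴.p) {f : 𝒳 ⥤ᵇ 𝒴} {g : 𝒴 ⥤ᵇ 𝒵}
    (hf : IsSeparatedMor f) (hg : IsSeparatedMor g) : IsSeparatedMor (BasedFunctor.comp f g) :=
  diag_comp_repWith hasAtlasCovers_fppf pBase_proper pComp_proper Groth.L24.Alg.isLocalOnBase_fppf_proper
    h𝒳 h𝒴 hf hg

theorem isQuasiSeparatedMor_comp (h𝒳 : FibCat.IsFibGrpd 𝒳.p) (h𝒴 : FibCat.IsFibGrpd 𝒴.p) {f : 𝒳 ⥤ᵇ 𝒴}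
    {g : 𝒴 ⥤ᵇ 𝒵} (hf : IsQuasiSeparatedMor f) (hg : IsQuasiSeparatedMor g) :
    IsQuasiSeparatedMor (BasedFunctor.comp f g) :=
  diag_comp_repWith hasAtlasCovers_fppf pBase_qcqs pComp_qcqs isLocalOnBase_fppf_qcqs h𝒳 h𝒴 hf hg

theorem isSeparatedMor_of_comp {f : 𝒳 ⥤ᵇ 𝒴} {g : 𝒴 ⥤ᵇ 𝒵} (h : IsSeparatedMor (BasedFunctor.comp f g))
    (hg : RepByAlgSpWith AlgSp.IsSeparatedMor (FibCat.diag g)) : IsSeparatedMor f :=
  diag_of_comp_repWith_of pBase_proper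
    (fun _ _ _ hX hY hZ _ _ hb hab => Groth.L23.isProperMor_of_comp_separated hX hY hZ hab hb) hg h

theorem isQuasiSeparatedMor_of_comp {f : 𝒳 ⥤ᵇ 𝒴} {g : 𝒴 ⥤ᵇ 𝒵}
    (h : IsQuasiSeparatedMor (BasedFunctor.comp f g))
    (hg : RepByAlgSpWith AlgSp.IsQuasiSeparatedMor (FibCat.diag g)) : IsQuasiSeparatedMor f :=
  diag_of_comp_repWith_of pBase_qcqs
    (fun _ _ _ hX hY hZ _ _ hb hab => ⟨Groth.L23.qcMor_of_comp hX hY hZ hab.1 hb,
      Groth.L23.repWith_diagonal_of_comp hab.2⟩) hg h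

theorem isSeparatedMor_of_fppf_cover (h𝒳 : IsAlgStack Scheme.fppfPrecoverage 𝒳)
    (h𝒴 : IsAlgStack Scheme.fppfPrecoverage 𝒴) (h𝒵 : FibCat.IsFibGrpd 𝒵.p) {f : 𝒳 ⥤ᵇ 𝒴} {z : 𝒵 ⥤ᵇ 𝒴}
    (hz₁ : RepByAlgSpWith (AlgSp.LocP @Flat) z)
    (hz₂ : RepByAlgSpWith (AlgSp.LocP @LocallyOfFinitePresentation) z)
    (hz₃ : RepByAlgSpWith AlgSp.IsSurjectiveMor z) (h : IsSeparatedMor (FibCat.fpFst z f)) : IsSeparatedMor f :=
  diag_repWith_of_fpFst_cover pBase_proper Groth.L24.Alg.isLocalOnBase_fppf_proper h𝒳.isStack.1 h𝒴.isStack.1 h𝒵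
    (diag_rep1_alg h𝒳 h𝒴 f) hz₁ hz₂ hz₃ h

theorem isQuasiSeparatedMor_of_fppf_cover (h𝒳 : IsAlgStack Scheme.fppfPrecoverage 𝒳)
    (h𝒴 : IsAlgStack Scheme.fppfPrecoverage 𝒴) (h𝒵 : FibCat.IsFibGrpd 𝒵.p) {f : 𝒳 ⥤ᵇ 𝒴} {z : 𝒵 ⥤ᵇ 𝒴}
    (hz₁ : RepByAlgSpWith (AlgSp.LocP @Flat) z)
    (hz₂ : RepByAlgSpWith (AlgSp.LocP @LocallyOfFinitePresentation) z)
    (hz₃ : RepByAlgSpWith AlgSp.IsSurjectiveMor z) (h : IsQuasiSeparatedMor (FibCat.fpFst z f)) :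
    IsQuasiSeparatedMor f :=
  diag_repWith_of_fpFst_cover pBase_qcqs isLocalOnBase_fppf_qcqs h𝒳.isStack.1 h𝒴.isStack.1 h𝒵
    (diag_rep1_alg h𝒳 h𝒴 f) hz₁ hz₂ hz₃ h

/-! ### Quasi-compact functors -/

theorem isQuasiCompact_overCat (U : Over S) [CompactSpace U.left] : IsQuasiCompact (FibCat.overCat U) :=
  isQuasiCompact_of_surjective (isAlgStack_overCat U)
    (continuous_ofChart (isAlgStack_overCat U) (BasedFunctor.id _)) (overPtEquiv U).symm.surjective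

theorem isQuasiCompact_of_functor (h𝒳 : IsAlgStack Scheme.fppfPrecoverage 𝒳)
    (h𝒴 : IsAlgStack Scheme.fppfPrecoverage 𝒴) {f : 𝒳 ⥤ᵇ 𝒴} (hs : IsSurjective f) (h : IsQuasiCompact 𝒳) :
    IsQuasiCompact 𝒴 := by
  have := compactSpace_of_isQuasiCompact h𝒳 h
  exact isQuasiCompact_of_surjective h𝒴 (continuous_map h𝒴 f) hs

theorem isQuasiCompactMor_comp (h𝒴 : IsAlgStack Scheme.fppfPrecoverage 𝒴)
    (h𝒵 : IsAlgStack Scheme.fppfPrecoverage 𝒵) {f : 𝒳 ⥤ᵇ 𝒴} {g : 𝒴 ⥤ᵇ 𝒵}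
    (hf : IsQuasiCompactMor Scheme.fppfPrecoverage f) (hg : IsQuasiCompactMor Scheme.fppfPrecoverage g) :
    IsQuasiCompactMor Scheme.fppfPrecoverage (BasedFunctor.comp f g) := fun 𝒲 h𝒲 hq w =>
  isQuasiCompact_of_isEquivOver (fpComp_isEquivOver w f g)
    (hf _ (isAlgStack_fp h𝒲 h𝒴 h𝒵 w g) (hg 𝒲 h𝒲 hq w) (FibCat.fpSnd w g))

theorem isQuasiCompactMor_congr (K : Precoverage Scheme.{u}) {f f' : 𝒳 ⥤ᵇ 𝒴} (e : f ≅ f')
    (h : IsQuasiCompactMor K f) : IsQuasiCompactMor K f' := fun 𝒲 h𝒲 hq w =>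
  isQuasiCompact_of_isEquivOver
    (fpMap_isEquivOver (F := w) (G := f') (F' := w) (G' := f) (a := BasedFunctor.id _) (b := BasedFunctor.id _)
      (isEquivOver_id _) (isEquivOver_id _) (Iso.refl _) e.symm) (h 𝒲 h𝒲 hq w)

theorem isQuasiCompactMor_precomp (K : Precoverage Scheme.{u}) {e : 𝒵 ⥤ᵇ 𝒳} (he : FibCat.IsEquivOver e)
    {f : 𝒳 ⥤ᵇ 𝒴} (h : IsQuasiCompactMor K f) : IsQuasiCompactMor K (BasedFunctor.comp e f) :=
  fun 𝒲 h𝒲 hq w => (isQuasiCompact_iff_of_isEquivOver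
    (fpMap_isEquivOver (F := w) (G := f) (isEquivOver_id _) he (Iso.refl _) (Iso.refl _))).2 (h 𝒲 h𝒲 hq w)

theorem isQuasiCompactMor_of_comp (h𝒳 : IsAlgStack Scheme.fppfPrecoverage 𝒳)
    (h𝒴 : IsAlgStack Scheme.fppfPrecoverage 𝒴) (h𝒵 : IsAlgStack Scheme.fppfPrecoverage 𝒵) {f : 𝒳 ⥤ᵇ 𝒴}
    {g : 𝒴 ⥤ᵇ 𝒵} (h : IsQuasiCompactMor Scheme.fppfPrecoverage (BasedFunctor.comp f g))
    (hg : RepByAlgSpWith AlgSp.IsQuasiCompactMor (FibCat.diag g)) :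
    IsQuasiCompactMor Scheme.fppfPrecoverage f := by
  let e : BasedFunctor.comp (BasedFunctor.id 𝒳) (BasedFunctor.comp f g) ≅ BasedFunctor.comp f g := Iso.refl _
  have hfp := isAlgStack_fp h𝒳 h𝒴 h𝒵 (BasedFunctor.comp f g) g
  have h1 : IsQuasiCompactMor Scheme.fppfPrecoverage (graphFun f e) :=
    (repWith_qcMor_iff h𝒳.isStack.1 hfp.isStack.1 (repWith_rep1 (graph_repWith f e hg))).1 (graph_repWith f e hg)
  have h2 : IsQuasiCompactMor Scheme.fppfPrecoverage (FibCat.fpSnd (BasedFunctor.comp f g) g) :=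
    isQuasiCompactMor_congr _ (Iso.refl _) (isQuasiCompactMor_precomp _ fpSwap_isEquivOver
      (isQuasiCompactMor_fpFst _ h g))
  exact isQuasiCompactMor_congr _ (Iso.refl _) (isQuasiCompactMor_comp hfp h𝒴 h1 h2)

/-- The fibre product of two quasi-compact stacks over a stack with quasi-compact diagonal. -/
theorem isQuasiCompact_fp [QuasiSeparatedSpace S] (h𝒳 : IsAlgStack Scheme.fppfPrecoverage 𝒳)
    (h𝒴 : IsAlgStack Scheme.fppfPrecoverage 𝒴) (h𝒵 : IsAlgStack Scheme.fppfPrecoverage 𝒵)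
    (hΔ : RepByAlgSpWith AlgSp.IsQuasiCompactMor (FibCat.diag (FibCat.toSelf 𝒵)))
    (hX : IsQuasiCompact 𝒳) (hY : IsQuasiCompact 𝒴) (f : 𝒳 ⥤ᵇ 𝒵) (g : 𝒴 ⥤ᵇ 𝒵) :
    IsQuasiCompact (FibCat.fp f g) := by
  obtain ⟨U, x, hU, hx, hxs⟩ := hX
  obtain ⟨V, y, hV, hy, hys⟩ := hY
  obtain ⟨F, e, he, hF⟩ := exists_qc_space hΔ (BasedFunctor.comp x f) (BasedFunctor.comp y g)
  have hFa := isAlgStack_of_repByAlgSp (𝒳 := ofSp F.obj) ⟨F, _, isEquivOver_id _⟩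
  have := Groth.L23.compactSpace_of_qcSp hF
  have hFq : IsQuasiCompact (ofSp F.obj) :=
    isQuasiCompact_of_surjective hFa (ptMap_isHomeomorph F).continuous (ptMap_bijective F.obj).surjective
  exact isQuasiCompact_of_functor hFa (isAlgStack_fp h𝒳 h𝒴 h𝒵 f g)
    (f := BasedFunctor.comp e (fpMap (F := f) (G := g) x y (Iso.refl _) (Iso.refl _)))
    (isSurjective_comp (isSurjective_of_isEquivOver he) (isSurjective_legs h𝒳.isStack.1 (overCat_isFibGrpd U)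
      h𝒴.isStack.1 (overCat_isFibGrpd V) h𝒵.isStack.1 x y _ _
      (isSurjective_of_repWith (overCat_isFibGrpd U) h𝒳.isStack.1 hxs)
      (isSurjective_of_repWith (overCat_isFibGrpd V) h𝒴.isStack.1 hys))) hFq

/-- A quasi-compact scheme over the base change, covering a quasi-compact scheme over the target. -/
theorem exists_affine_lift (h𝒵 : IsAlgStack Scheme.fppfPrecoverage 𝒵) (h𝒴 : IsAlgStack Scheme.fppfPrecoverage 𝒴)
    {z : 𝒵 ⥤ᵇ 𝒴} (hz₁ : AlgSt.LocQ (AlgSp.LocP @Flat) z)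
    (hz₂ : AlgSt.LocQ (AlgSp.LocP @LocallyOfFinitePresentation) z) (hz₃ : IsSurjective z) {U : Over S}
    [CompactSpace U.left] (u : FibCat.overCat U ⥤ᵇ 𝒴) :
    ∃ (A : Over S) (k : A ⟶ U) (a : FibCat.overCat A ⥤ᵇ 𝒵), CompactSpace A.left ∧ Function.Surjective k.left ∧
      Nonempty (BasedFunctor.comp a z ≅ BasedFunctor.comp (overMap k) u) := by
  have hU := isAlgStack_overCat U
  have hfp := isAlgStack_fp hU h𝒵 h𝒴 u z
  obtain ⟨W, c, hc, hcs⟩ := hfp.atlas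
  obtain ⟨k, ⟨ik⟩, -⟩ := exists_overMap_iso (BasedFunctor.comp c (FibCat.fpFst u z))
  have hsur : Function.Surjective k.left := LocQ.surjective_of_overMap (LocQ.isSurjective_congr ik
    (isSurjective_comp (isSurjective_of_repWith (overCat_isFibGrpd W) hfp.isStack.1 hcs)
      (isSurjective_fpFst h𝒵.isStack.1 h𝒴.isStack.1 (overCat_isFibGrpd U) u hz₃)))
  have hopen : IsOpenMap k.left := by
    have h1 := LocQ.isOpenMor_of_flat_lfp hfp hU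
      (LocQ.locQ_fpFst LocQ.isSmoothLocalST_flat (pBase_locP Groth.L23.etLocal_flat) h𝒵 h𝒴 hU u hz₁)
      (LocQ.locQ_fpFst LocQ.isSmoothLocalST_lfp (pBase_locP Groth.L23.etLocal_lfp) h𝒵 h𝒴 hU u hz₂)
    intro O hO
    have e : ∀ t, Points.map (FibCat.fpFst u z) (Points.ofChart c t) = ptOver (k.left t) := fun t => by
      rw [← map_overMap_ptOver, ← map_congr ik]
      rfl
    have : Points.ofChart (BasedFunctor.id (FibCat.overCat U)) ⁻¹'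
        (Points.map (FibCat.fpFst u z) '' (Points.ofChart c '' O)) = k.left '' O := by
      rw [← Set.image_comp]
      ext v
      simp only [Set.mem_preimage, Set.mem_image, Function.comp_apply]
      exact ⟨fun ⟨t, ht, ht'⟩ => ⟨t, ht, (overPtEquiv U).symm.injective ((e t).symm.trans ht')⟩,
        fun ⟨t, ht, ht'⟩ => ⟨t, ht, by rw [e, ht']; rfl⟩⟩
    rw [← this]
    exact (h1 _ (isOpenMap_ofChart isOpenMap_of_smooth hfp.isStack.1 hc _ hO)).preimage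
      (continuous_ofChart hU (BasedFunctor.id _))
  obtain ⟨O, hO, hOU⟩ := hopen.exists_opens_image_eq_of_prespectralSpace k.left.continuous (U := Set.univ)
    (fun v _ => hsur v) isOpen_univ isCompact_univ
  let j : Over.mk (Scheme.Opens.ι (X := W.left) O ≫ W.hom) ⟶ W := Over.homMk (Scheme.Opens.ι (X := W.left) O) rfl
  obtain ⟨i1⟩ := LocQ.exists_overMap_comp j k
  refine ⟨_, j ≫ k, BasedFunctor.comp (BasedFunctor.comp (overMap j) c) (FibCat.fpSnd u z),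
    isCompact_iff_compactSpace.1 hO, fun v => ?_, ⟨?_⟩⟩
  · obtain ⟨t, ht, e⟩ := hOU.ge (Set.mem_univ v)
    exact ⟨(⟨t, ht⟩ : (Scheme.Opens.toScheme (X := W.left) O)), e⟩
  · exact whiskerL (BasedFunctor.comp (overMap j) c) (FibCat.fpIso u z).symm ≪≫
      whiskerR (whiskerL (overMap j) ik ≪≫ i1) u

/-- Quasi-compactness descends along fppf functors. -/
theorem isQuasiCompactMor_of_fpFst (h𝒳 : IsAlgStack Scheme.fppfPrecoverage 𝒳)
    (h𝒴 : IsAlgStack Scheme.fppfPrecoverage 𝒴) (h𝒵 : IsAlgStack Scheme.fppfPrecoverage 𝒵) {f : 𝒳 ⥤ᵇ 𝒴}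
    {z : 𝒵 ⥤ᵇ 𝒴} (hz₁ : AlgSt.LocQ (AlgSp.LocP @Flat) z)
    (hz₂ : AlgSt.LocQ (AlgSp.LocP @LocallyOfFinitePresentation) z) (hz₃ : IsSurjective z)
    (h : IsQuasiCompactMor Scheme.fppfPrecoverage (FibCat.fpFst z f)) :
    IsQuasiCompactMor Scheme.fppfPrecoverage f := by
  intro 𝒲 h𝒲 hq g
  obtain ⟨U, x, hU, hx, hxs⟩ := hq
  obtain ⟨A, k, a, hA, hk, ⟨i⟩⟩ := exists_affine_lift h𝒵 h𝒴 hz₁ hz₂ hz₃ (BasedFunctor.comp x g)
  have h1 : IsQuasiCompact (FibCat.fp (BasedFunctor.comp a z) f) :=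
    isQuasiCompact_of_isEquivOver (fpPaste_isEquivOver a z f)
      (h _ (isAlgStack_overCat A) (isQuasiCompact_overCat A) a)
  have hks : IsSurjective (overMap k) := fun p => by
    obtain ⟨t, ht⟩ := hk ((overPtEquiv U) p)
    refine ⟨ptOver t, ?_⟩
    rw [map_overMap_ptOver, ht]
    exact (overPtEquiv U).symm_apply_apply p
  exact isQuasiCompact_of_functor (isAlgStack_fp (isAlgStack_overCat A) h𝒳 h𝒴 _ f) (isAlgStack_fp h𝒲 h𝒳 h𝒴 g f)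
    (isSurjective_legs h𝒲.isStack.1 (overCat_isFibGrpd A) h𝒳.isStack.1 h𝒳.isStack.1 h𝒴.isStack.1
      (F := g) (G := f) (F' := BasedFunctor.comp a z) (G' := f) (BasedFunctor.comp (overMap k) x) (BasedFunctor.id 𝒳)
      i.symm (Iso.refl _)
      (isSurjective_comp hks (isSurjective_of_repWith (overCat_isFibGrpd U) h𝒲.isStack.1 hxs))
      (isSurjective_of_isEquivOver (isEquivOver_id 𝒳))) h1

end Groth.L24.St
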