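import Groth.Agent.L24.St.Rep
import Groth.Agent.L23.Basic
import Groth.Prelude.Def_AlgSt3
import Mathlib.AlgebraicGeometry.Morphisms.QuasiFinite
import Mathlib.AlgebraicGeometry.Morphisms.FormallyUnramified
import Mathlib.RingTheory.Unramified.LocalStructure

/-!
Comparisons between properties of morphisms of categories over `(Sch/S)`.
-/

set_option autoImplicit false
set_option backward.isDefEq.respectTransparency false
set_option backward.isDefEq.respectTransparency.types false

universe v₃ u₃ v₂ u₂ u

open CategoryTheory CategoryTheory.Limits AlgebraicGeometry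

namespace Groth.L24.St

theorem lqf_of_unramified {X Y : Scheme.{u}} (f : X ⟶ Y) [LocallyOfFiniteType f] [FormallyUnramified f] :
    LocallyQuasiFinite f := by
  refine ⟨fun {U} hU {V} hV e => ?_⟩
  have h1 := f.finiteType_appLE hU hV e
  have h2 := f.formallyUnramified_appLE hU hV e
  algebraize [(f.appLE U V e).hom]
  have : Algebra.EssFiniteType Γ(Y, U) Γ(X, V) := inferInstance
  exact inferInstanceAs (Algebra.QuasiFinite Γ(Y, U) Γ(X, V))

variable {S : Scheme.{u}} {𝒳 : BasedCategory.{v₂, u₂} (Over S)} {𝒴 : BasedCategory.{v₃, u₃} (Over S)}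
  {f : 𝒳 ⥤ᵇ 𝒴}

theorem isQuasiDM_of_isDM (h : AlgSt.IsDMMor f) : AlgSt.IsQuasiDMMor f :=
  repWith_mono (fun _ _ _ a ha _ _ p q k hp hq w => by
    obtain ⟨h1, h2⟩ := ha p q k hp hq w
    have : LocallyOfFiniteType k.left := h1
    have : FormallyUnramified k.left := h2
    exact ⟨lqf_of_unramified k.left, h1⟩) h

theorem isMono_of_isImm (h : AlgSt.IsImm f) : AlgSt.IsMono f :=
  repWith_mono (fun _ _ _ a ha =>
    Groth.L23.mono_of_repWith (P := @IsImmersion) (fun _ _ g (hg : IsImmersion g) => by
      change Mono g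
      infer_instance) ha) h

end Groth.L24.St
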