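import Groth.Agent.L24.St.PointsSp
import Groth.Agent.L24.St.MapLegs
import Groth.Agent.L23.LocP

/-!
The calculus of functors representable by algebraic spaces with a property local for etale charts.
-/

set_option autoImplicit false
set_option backward.isDefEq.respectTransparency false
set_option backward.isDefEq.respectTransparency.types false

universe u

open CategoryTheory CategoryTheory.Limits AlgebraicGeometry Opposite AlgSp

namespace Groth.L24.St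

variable {S : Scheme.{u}} {P : MorphismProperty Scheme.{u}}

/-- Coverings containing an etale surjective map from a member. -/
def AtlasCov : CovNotion S := fun _ _ _ g => ∃ i, RepWith @Etale (g i) ∧ RepWith @Surjective (g i)

theorem hasAtlasCovers_atlasCov : HasAtlasCovers (AtlasCov (S := S)) :=
  fun _ _ _ hp hs => ⟨⟨⟩, hp, hs⟩

theorem isLocalOnBase_locP (hP : Groth.L23.EtLocal P) : IsLocalOnBase (AtlasCov (S := S)) (LocP P) := by
  intro ι Y Yi g hY hYi hcov X f hX Xi p q hXi sq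
  refine ⟨fun h i => Groth.L23.locP_of_isPullback hP hX hY (hYi i) (sq i) h, fun h => ?_⟩
  obtain ⟨i, hi, his⟩ := hcov
  exact Groth.L23.locP_of_target_cover hP hX hY (hYi i) hi his (sq i) (h i)

theorem isLocalOnBase_top : IsLocalOnBase (AtlasCov (S := S)) (⊤ : MorphismProperty (Sp S)) :=
  fun _ _ _ _ _ _ _ _ _ _ _ _ _ _ _ => ⟨fun _ _ => trivial, fun _ => trivial⟩

theorem pBase_top : PBase (⊤ : MorphismProperty (Sp S)) := fun _ _ _ _ _ _ _ _ _ _ _ _ _ _ => trivial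

theorem pComp_top : PComp (⊤ : MorphismProperty (Sp S)) := fun _ _ _ _ _ _ _ _ _ _ => trivial

theorem pBase_locP (hP : Groth.L23.EtLocal P) : PBase (LocP P : MorphismProperty (Sp S)) := by
  intro X₁ Y₁ X₂ Y₂ hX₁ hY₁ hX₂ hY₂ a b a' b' sq h
  exact Groth.L23.locP_of_isPullback hP hX₁ hY₁ hY₂ sq h

theorem pComp_locP (hP : Groth.L23.EtLocal P) : PComp (LocP P : MorphismProperty (Sp S)) := by
  intro X Y Z hX hY hZ a b ha hb
  exact Groth.L23.locP_comp hP hX hY hZ ha hb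

variable {𝒳 𝒴 𝒵 : AlgSt.Cat S}

theorem repWith_comp_locP (hP : Groth.L23.EtLocal P) (h𝒳 : FibCat.IsFibGrpd 𝒳.p) (h𝒴 : FibCat.IsFibGrpd 𝒴.p)
    {f : 𝒳 ⥤ᵇ 𝒴} {g : 𝒴 ⥤ᵇ 𝒵} (hf : AlgSt.RepByAlgSpWith (LocP P) f) (hg : AlgSt.RepByAlgSpWith (LocP P) g) :
    AlgSt.RepByAlgSpWith (LocP P) (BasedFunctor.comp f g) :=
  repWith_comp hasAtlasCovers_atlasCov (pBase_locP hP) (pComp_locP hP) (isLocalOnBase_locP hP) h𝒳 h𝒴 hf hg

theorem diag_comp_rep1 (h𝒳 : FibCat.IsFibGrpd 𝒳.p) (h𝒴 : FibCat.IsFibGrpd 𝒴.p) {f : 𝒳 ⥤ᵇ 𝒴} {g : 𝒴 ⥤ᵇ 𝒵}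
    (hf : AlgSt.RepByAlgSp1 (FibCat.diag f)) (hg : AlgSt.RepByAlgSp1 (FibCat.diag g)) :
    AlgSt.RepByAlgSp1 (FibCat.diag (BasedFunctor.comp f g)) :=
  (rep1_iff _).2 (diag_comp_repWith hasAtlasCovers_atlasCov pBase_top pComp_top isLocalOnBase_top h𝒳 h𝒴
    ((rep1_iff _).1 hf) ((rep1_iff _).1 hg))

theorem diag_rep1_of_comp {f : 𝒳 ⥤ᵇ 𝒴} {g : 𝒴 ⥤ᵇ 𝒵} (hg : AlgSt.RepByAlgSp1 (FibCat.diag g))
    (hfg : AlgSt.RepByAlgSp1 (FibCat.diag (BasedFunctor.comp f g))) : AlgSt.RepByAlgSp1 (FibCat.diag f) :=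
  (rep1_iff _).2 (diag_of_comp_repWith pBase_top (fun _ _ _ _ _ _ _ _ _ _ => trivial) ((rep1_iff _).1 hg)
    ((rep1_iff _).1 hfg))

end Groth.L24.St
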