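import Groth.Agent.L24.St.FpAlg

/-!
A property local on the base descends along a flat, locally finitely presented, surjective functor.
-/

set_option autoImplicit false
set_option backward.isDefEq.respectTransparency false
set_option backward.isDefEq.respectTransparency.types false

universe u

open CategoryTheory CategoryTheory.Limits AlgebraicGeometry Opposite AlgSt

noncomputable section

namespace Groth.L24.St

variable {S : Scheme.{u}} {𝒳 𝒴 𝒵 : AlgSt.Cat S}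

/-- A functor to the slice is composition with the map of sheaves it determines. -/
def overFactor {F : AlgSp.Sp S} {U : Over S} (Φ : ofSp F ⥤ᵇ FibCat.overCat U) :
    Φ ≅ BasedFunctor.comp (ofSpMap (spMapOfOver Φ)) (toOverCat U) :=
  eqToIso (show Φ = BasedFunctor.comp (BasedFunctor.comp Φ (ofOverCat U)) (toOverCat U) from rfl) ≪≫
    whiskerR (isoOfSpMap (BasedFunctor.comp Φ (ofOverCat U))) (toOverCat U)

/-- Two spaces representing the same category over a space are isomorphic over it. -/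
theorem exists_iso_over {V P G : AlgSp.Sp S} {𝒲 : AlgSt.Cat S} {e₁ : ofSp V ⥤ᵇ 𝒲} {e₂ : ofSp P ⥤ᵇ 𝒲}
    {φ : 𝒲 ⥤ᵇ ofSp G} {a : V ⟶ G} {b : P ⟶ G} (h₁ : FibCat.IsEquivOver e₁) (h₂ : FibCat.IsEquivOver e₂)
    (i₁ : BasedFunctor.comp e₁ φ ≅ ofSpMap a) (i₂ : BasedFunctor.comp e₂ φ ≅ ofSpMap b) :
    ∃ i : P ⟶ V, IsIso i ∧ i ≫ a = b := by
  obtain ⟨c, hc, -, ⟨ic⟩⟩ := exists_inverse h₁
  refine ⟨spMap (BasedFunctor.comp e₂ c), isIso_spMap (isEquivOver_comp h₂ hc), ?_⟩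
  have h := spMap_congr (show BasedFunctor.comp (BasedFunctor.comp e₂ c) (ofSpMap a) ≅ ofSpMap b from
    whiskerL (BasedFunctor.comp e₂ c) i₁.symm ≪≫ whiskerR (whiskerL e₂ ic) φ ≪≫ i₂)
  rwa [spMap_comp, spMap_ofSpMap, spMap_ofSpMap] at h

/-- The cover of a test scheme induced by a flat, locally finitely presented, surjective functor. -/
theorem exists_cover {z : 𝒵 ⥤ᵇ 𝒴} (hz₁ : RepByAlgSpWith (AlgSp.LocP @Flat) z)
    (hz₂ : RepByAlgSpWith (AlgSp.LocP @LocallyOfFinitePresentation) z)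
    (hz₃ : RepByAlgSpWith AlgSp.IsSurjectiveMor z) {U : Over S} (y : FibCat.overCat U ⥤ᵇ 𝒴) :
    ∃ (G : AlgSp.Space S) (π : G.obj ⟶ (AlgSp.yon S).obj U) (ζ : ofSp G.obj ⥤ᵇ 𝒵),
      AlgSp.IsFppfCover (ι := PUnit.{u + 1}) (fun _ => G.obj) (fun _ => π) ∧
        Nonempty (BasedFunctor.comp (BasedFunctor.comp (ofSpMap π) (toOverCat U)) y ≅ BasedFunctor.comp ζ z) := by
  obtain ⟨G, e, he, h⟩ := repWith_locP_and hz₁ hz₂ U y
  have hs : AlgSp.IsSurjectiveMor (spMapOfOver (BasedFunctor.comp e (FibCat.fpFst y z))) :=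
    (surjective_spMapOfOver_iff _).2 (by
      obtain ⟨G', e', he', hs'⟩ := hz₃ U y
      intro t
      obtain ⟨w, hw⟩ := (surjective_spMapOfOver_iff _).1 hs' t
      obtain ⟨w', hw'⟩ := (bijective_map_of_isEquivOver he).surjective (Points.map e' w)
      exact ⟨w', by rw [map_comp_apply, hw', ← map_comp_apply]; exact hw⟩)
  refine ⟨G, _, BasedFunctor.comp e (FibCat.fpSnd y z), ⟨fun _ => ⟨Groth.L23.locP_mono (fun _ h => h.1) h,
    Groth.L23.locP_mono (fun _ h => h.2) h⟩, fun x => ⟨⟨⟩, hs x⟩⟩,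
    ⟨whiskerR (overFactor _).symm y ≪≫ whiskerL e (FibCat.fpIso y z)⟩⟩

variable {P : MorphismProperty (AlgSp.Sp S)} {τ : AlgSp.CovNotion S}

theorem repWith_of_fpFst_cover (hτ : HasAtlasCovers τ) (hB : PBase P) (hL : AlgSp.IsLocalOnBase τ P)
    (hcov : ∀ ⦃U : Over S⦄ ⦃G : AlgSp.Sp S⦄ (π : G ⟶ (AlgSp.yon S).obj U),
      AlgSp.IsFppfCover (ι := PUnit.{u + 1}) (fun _ => G) (fun _ => π) →
        τ (ι := PUnit.{u + 1}) (fun _ => G) (fun _ => π))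
    (h𝒳 : FibCat.IsFibGrpd 𝒳.p) (h𝒴 : FibCat.IsFibGrpd 𝒴.p) (h𝒵 : FibCat.IsFibGrpd 𝒵.p)
    {f : 𝒳 ⥤ᵇ 𝒴} (hf : RepByAlgSp1 f) {z : 𝒵 ⥤ᵇ 𝒴} (hz₁ : RepByAlgSpWith (AlgSp.LocP @Flat) z)
    (hz₂ : RepByAlgSpWith (AlgSp.LocP @LocallyOfFinitePresentation) z)
    (hz₃ : RepByAlgSpWith AlgSp.IsSurjectiveMor z) (h : RepByAlgSpWith P (FibCat.fpFst z f)) :
    RepByAlgSpWith P f := by
  intro U y
  obtain ⟨F, e, he⟩ := hf U y
  refine ⟨F, e, he, ?_⟩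
  obtain ⟨G, π, ζ, hπ, ⟨iζ⟩⟩ := exists_cover hz₁ hz₂ hz₃ y
  have sq := IsPullback.of_hasPullback (spMapOfOver (BasedFunctor.comp e (FibCat.fpFst y f))) π
  obtain ⟨hQ, Θ, hΘ, ⟨iΘ⟩⟩ := exists_space_square h𝒳 h𝒴 y e he G.property sq
  obtain ⟨V, a, e', hV, he', ⟨i'⟩, ha⟩ :=
    exists_space_prop hτ hB hL (L09.Fib.fp_isFibGrpd h𝒵 h𝒳 h𝒴) h𝒵 h G.property ζ
  let M := fpMap (F := BasedFunctor.comp (BasedFunctor.comp (ofSpMap π) (toOverCat U)) y) (G := f)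
    (F' := BasedFunctor.comp ζ z) (G' := f) (BasedFunctor.id _) (BasedFunctor.id _) iζ (Iso.refl _)
  let e₁ := BasedFunctor.comp e' (BasedFunctor.comp (fpPaste ζ z f) M)
  have he₁ : FibCat.IsEquivOver e₁ := isEquivOver_comp he' (isEquivOver_comp (fpPaste_isEquivOver ζ z f)
    (fpMap_isEquivOver (isEquivOver_id _) (isEquivOver_id _) _ _))
  obtain ⟨i, hi, hia⟩ := exists_iso_over he₁ hΘ
    (show BasedFunctor.comp e₁ (FibCat.fpFst _ f) ≅ ofSpMap a from i') iΘ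
  refine (hL (fun _ : PUnit => G.obj) (fun _ => π) (AlgSp.IsAlgSpace.yon_obj U) (fun _ => G.property)
    (hcov π hπ) _ F.property (fun _ => pullback _ π) (fun _ => pullback.snd _ π) (fun _ => pullback.fst _ π)
    (fun _ => hQ) (fun _ => sq)).2 fun _ => ?_
  rw [← hia]
  exact hB.iso_left hV hQ G.property i ha

theorem repWith_iff_fpFst_cover (hB : PBase P) (hL : AlgSp.IsLocalOnBase AlgSp.IsFppfCover P)
    (h𝒳 : FibCat.IsFibGrpd 𝒳.p) (h𝒴 : FibCat.IsFibGrpd 𝒴.p) (h𝒵 : FibCat.IsFibGrpd 𝒵.p)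
    {f : 𝒳 ⥤ᵇ 𝒴} (hf : RepByAlgSp1 f) {z : 𝒵 ⥤ᵇ 𝒴} (hz₁ : RepByAlgSpWith (AlgSp.LocP @Flat) z)
    (hz₂ : RepByAlgSpWith (AlgSp.LocP @LocallyOfFinitePresentation) z)
    (hz₃ : RepByAlgSpWith AlgSp.IsSurjectiveMor z) :
    RepByAlgSpWith P f ↔ RepByAlgSpWith P (FibCat.fpFst z f) :=
  ⟨repWith_fpFst z, repWith_of_fpFst_cover hasAtlasCovers_fppf hB hL (fun _ _ _ h => h) h𝒳 h𝒴 h𝒵 hf hz₁ hz₂ hz₃⟩

theorem repWith_fpFst_of_space (hB : PBase P) {W : AlgSp.Space S} {w : ofSp W.obj ⥤ᵇ 𝒴} {f : 𝒳 ⥤ᵇ 𝒴}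
    {V : AlgSp.Space S} {a : V.obj ⟶ W.obj} {e : ofSp V.obj ⥤ᵇ FibCat.fp w f} (he : FibCat.IsEquivOver e)
    (i : BasedFunctor.comp e (FibCat.fpFst w f) ≅ ofSpMap a) (ha : P a) :
    RepByAlgSpWith P (FibCat.fpFst w f) :=
  (repWith_precomp he _).1 ((repWith_congr i).2 (repWith_ofSpMap_of_prop hB V.property W.property a ha))

end Groth.L24.St
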