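import Groth.Agent.L24.St.LocPStack
import Groth.Agent.L24.St.UnivProps
import Groth.Agent.L24.St.StackSp
import Groth.Agent.L24.St.DiagAbs

/-!
Fibre products and sources of representable functors of algebraic stacks are algebraic.
-/

set_option autoImplicit false
set_option backward.isDefEq.respectTransparency false
set_option backward.isDefEq.respectTransparency.types false

universe u

open CategoryTheory CategoryTheory.Limits AlgebraicGeometry Opposite AlgSt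

noncomputable section

namespace Groth.L24.St

variable {S : Scheme.{u}} {𝒳 𝒴 𝒵 : AlgSt.Cat S}

theorem repWith_spChart_locP {P : MorphismProperty Scheme.{u}} (hP : Groth.L23.EtLocal P) {F : AlgSp.Sp S}
    (hF : AlgSp.IsAlgSpace F) {T : Over S} {g : (AlgSp.yon S).obj T ⟶ F} (hg : AlgSp.RepWith @Etale g) :
    RepByAlgSpWith (AlgSp.LocP P) (spChart g) := by
  refine repWith_mono ?_ (repWith_spChart hF hg)
  intro X U _ a ha U' V α b k hα hb w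
  exact hP.etale _ (etale_chart_of_square (Groth.L23.repWith_comp hα ha) hb w)

/-- A representable chart from a space composed with an etale atlas is a scheme chart. -/
theorem exists_scheme_chart {P : MorphismProperty Scheme.{u}} (hP : Groth.L23.EtLocal P) (h𝒳 : FibCat.IsFibGrpd 𝒳.p)
    {F : AlgSp.Space S} {C : ofSp F.obj ⥤ᵇ 𝒳} (hC : RepByAlgSpWith (AlgSp.LocP P) C) (hs : IsSurjective C) :
    ∃ (W : Over S) (a : (AlgSp.yon S).obj W ⟶ F.obj), RepByAlgSpWith (AlgSp.LocP P) (BasedFunctor.comp (spChart a) C) ∧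
      RepByAlgSpWith AlgSp.IsSurjectiveMor (BasedFunctor.comp (spChart a) C) := by
  obtain ⟨W, a, ha, has⟩ := F.property.atlas
  have h1 := repWith_comp_locP hP (overCat_isFibGrpd W) (ofSp_isFibGrpd F.obj) (repWith_spChart_locP hP F.property ha) hC
  refine ⟨W, a, h1, repWith_surjective_of_isSurjective (overCat_isFibGrpd W) h𝒳 (repWith_rep1 h1) ?_⟩
  refine (isSurjective_iff_ofChart _).2 ?_
  rw [map_comp_ofChart]
  exact hs.comp (surjective_spChart has)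

theorem isSurjective_comp {f : 𝒳 ⥤ᵇ 𝒴} {g : 𝒴 ⥤ᵇ 𝒵} (hf : IsSurjective f) (hg : IsSurjective g) :
    IsSurjective (BasedFunctor.comp f g) := fun z => by
  obtain ⟨y, rfl⟩ := hg z
  obtain ⟨x, rfl⟩ := hf y
  exact ⟨x, map_comp_apply f g x⟩

theorem isSurjective_of_isEquivOver {f : 𝒳 ⥤ᵇ 𝒴} (hf : FibCat.IsEquivOver f) : IsSurjective f :=
  (bijective_map_of_isEquivOver hf).surjective

theorem isSurjective_legs {𝒳' 𝒴' : AlgSt.Cat S} (h𝒳 : FibCat.IsFibGrpd 𝒳.p) (h𝒳' : FibCat.IsFibGrpd 𝒳'.p)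
    (h𝒴 : FibCat.IsFibGrpd 𝒴.p) (h𝒴' : FibCat.IsFibGrpd 𝒴'.p) (h𝒵 : FibCat.IsFibGrpd 𝒵.p)
    {F : 𝒳 ⥤ᵇ 𝒵} {G : 𝒴 ⥤ᵇ 𝒵} {F' : 𝒳' ⥤ᵇ 𝒵} {G' : 𝒴' ⥤ᵇ 𝒵} (a : 𝒳' ⥤ᵇ 𝒳) (b : 𝒴' ⥤ᵇ 𝒴)
    (α : BasedFunctor.comp a F ≅ F') (β : BasedFunctor.comp b G ≅ G') (ha : IsSurjective a) (hb : IsSurjective b) :
    IsSurjective (fpMap a b α β) := by
  have h1 : IsSurjective (legR (F := F') b β) :=
    isSurjective_comp (isSurjective_of_isEquivOver (legRLift_isEquivOver (F := F') b β))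
      (isSurjective_fpFst h𝒴' h𝒴 (L09.Fib.fp_isFibGrpd h𝒳' h𝒴 h𝒵) (FibCat.fpSnd F' G) hb)
  have h2 : IsSurjective (legL (G := G) a α) :=
    isSurjective_comp (isSurjective_of_isEquivOver (legLLift_isEquivOver (G := G) a α))
      (isSurjective_fpFst h𝒳' h𝒳 (L09.Fib.fp_isFibGrpd h𝒳 h𝒴 h𝒵) (FibCat.fpFst F G) ha)
  intro z
  obtain ⟨w, hw⟩ := isSurjective_comp h1 h2 z
  exact ⟨w, by rw [← map_congr (legsIso a b α β)]; exact hw⟩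

theorem diag_toSelf_fp (h𝒳 : FibCat.IsFibGrpd 𝒳.p) (h𝒴 : FibCat.IsFibGrpd 𝒴.p) (h𝒵 : FibCat.IsFibGrpd 𝒵.p)
    (hdX : RepByAlgSp1 (FibCat.diag (FibCat.toSelf 𝒳))) (hdY : RepByAlgSp1 (FibCat.diag (FibCat.toSelf 𝒴)))
    (hdZ : RepByAlgSp1 (FibCat.diag (FibCat.toSelf 𝒵))) (f : 𝒳 ⥤ᵇ 𝒵) (g : 𝒴 ⥤ᵇ 𝒵) :
    RepByAlgSp1 (FibCat.diag (FibCat.toSelf (FibCat.fp f g))) := by
  have hg : RepByAlgSp1 (FibCat.diag g) := by
    refine diag_rep1_of_comp hdZ ?_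
    exact (rep1_iff _).2 ((diag_repWith_square (f := FibCat.toSelf 𝒴) (f' := BasedFunctor.comp g (FibCat.toSelf 𝒵))
      (isEquivOver_id _) (isEquivOver_id _) (toSelfIso g)).1 ((rep1_iff _).1 hdY))
  have hp : RepByAlgSp1 (FibCat.diag (FibCat.fpFst f g)) :=
    (rep1_iff _).2 (diag_fpFst_repWith f ((rep1_iff _).1 hg))
  have h1 := (rep1_iff _).1 (diag_comp_rep1 (L09.Fib.fp_isFibGrpd h𝒳 h𝒴 h𝒵) h𝒳 hp hdX)
  exact (rep1_iff _).2 ((diag_repWith_square (f := FibCat.toSelf (FibCat.fp f g))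
    (f' := BasedFunctor.comp (FibCat.fpFst f g) (FibCat.toSelf 𝒳))
    (isEquivOver_id _) (isEquivOver_id _) (toSelfIso (FibCat.fpFst f g))).2 h1)

theorem hasAtlas_fp {P : MorphismProperty Scheme.{u}} (hP : Groth.L23.EtLocal P) (h𝒳 : FibCat.IsFibGrpd 𝒳.p)
    (h𝒴 : FibCat.IsFibGrpd 𝒴.p) (h𝒵 : FibCat.IsFibGrpd 𝒵.p)
    (hdZ : RepByAlgSp1 (FibCat.diag (FibCat.toSelf 𝒵)))
    (hX : HasAtlas (AlgSp.LocP P) 𝒳) (hY : HasAtlas (AlgSp.LocP P) 𝒴) (f : 𝒳 ⥤ᵇ 𝒵) (g : 𝒴 ⥤ᵇ 𝒵) :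
    HasAtlas (AlgSp.LocP P) (FibCat.fp f g) := by
  obtain ⟨U, x, hx, hxs⟩ := hX
  obtain ⟨V, y, hy, hys⟩ := hY
  obtain ⟨F, e, he⟩ := (repByAlgSp1_diag_iff h𝒵).1 hdZ V (BasedFunctor.comp y g) U (BasedFunctor.comp x f)
  let T := fpMap (F := f) (G := g) x y (Iso.refl (BasedFunctor.comp x f)) (Iso.refl (BasedFunctor.comp y g))
  have hT : RepByAlgSpWith (AlgSp.LocP P) T :=
    fpMap_repWith hasAtlasCovers_atlasCov (pBase_locP hP) (pComp_locP hP) (isLocalOnBase_locP hP)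
      (overCat_isFibGrpd U) h𝒴 (overCat_isFibGrpd V) h𝒵 hx hy
  have hTs : IsSurjective T := isSurjective_legs h𝒳 (overCat_isFibGrpd U) h𝒴 (overCat_isFibGrpd V) h𝒵 x y _ _
    (isSurjective_of_repWith (overCat_isFibGrpd U) h𝒳 hxs) (isSurjective_of_repWith (overCat_isFibGrpd V) h𝒴 hys)
  obtain ⟨W, a, h1, h2⟩ := exists_scheme_chart hP (L09.Fib.fp_isFibGrpd h𝒳 h𝒴 h𝒵) (F := F)
    ((repWith_precomp he T).2 hT) (isSurjective_comp (isSurjective_of_isEquivOver he) hTs)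
  exact ⟨W, _, h1, h2⟩

theorem isAlgStack_fp_of {K : Precoverage Scheme.{u}} (hstack : Stk.IsPrestack (QuotSh.J K S) 𝒵)
    (hdZ : RepByAlgSp1 (FibCat.diag (FibCat.toSelf 𝒵))) (h𝒳 : IsAlgStack K 𝒳) (h𝒴 : IsAlgStack K 𝒴)
    (f : 𝒳 ⥤ᵇ 𝒵) (g : 𝒴 ⥤ᵇ 𝒵) : IsAlgStack K (FibCat.fp f g) :=
  ⟨isStack_fp h𝒳.isStack h𝒴.isStack hstack,
    diag_toSelf_fp h𝒳.isStack.1 h𝒴.isStack.1 hstack.1 h𝒳.diag h𝒴.diag hdZ f g,
    hasAtlas_fp Groth.L23.etLocal_smooth h𝒳.isStack.1 h𝒴.isStack.1 hstack.1 hdZ h𝒳.atlas h𝒴.atlas f g⟩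

theorem isAlgStack_fp (h𝒳 : IsAlgStack Scheme.fppfPrecoverage 𝒳) (h𝒴 : IsAlgStack Scheme.fppfPrecoverage 𝒴)
    (h𝒵 : IsAlgStack Scheme.fppfPrecoverage 𝒵) (f : 𝒳 ⥤ᵇ 𝒵) (g : 𝒴 ⥤ᵇ 𝒵) :
    IsAlgStack Scheme.fppfPrecoverage (FibCat.fp f g) :=
  isAlgStack_fp_of (isPrestack_of_isStack h𝒵.isStack) h𝒵.diag h𝒳 h𝒴 f g

theorem isEtaleMor_repWith_iff {f : 𝒳 ⥤ᵇ 𝒴} :
    RepByAlgSpWith AlgSp.IsEtaleMor f ↔ RepByAlgSpWith (AlgSp.LocP @Etale) f :=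
  ⟨repWith_mono fun _ U hF a h => (Groth.L23.isEtaleMor_iff_locP hF (AlgSp.IsAlgSpace.yon_obj U) a).1 h,
    repWith_mono fun _ U hF a h => (Groth.L23.isEtaleMor_iff_locP hF (AlgSp.IsAlgSpace.yon_obj U) a).2 h⟩

theorem hasAtlas_etale_iff : HasAtlas AlgSp.IsEtaleMor 𝒳 ↔ HasAtlas (AlgSp.LocP @Etale) 𝒳 :=
  exists_congr fun _ => exists_congr fun _ => and_congr_left' isEtaleMor_repWith_iff

theorem isAlgStack_selfOver : IsAlgStack Scheme.fppfPrecoverage (FibCat.selfOver (Over S) : AlgSt.Cat S) :=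
  isAlgStack_of_repByAlgSp selfOver_repByAlgSp

theorem isAlgStack_of_rep1 (h𝒳 : FibCat.IsFibGrpd 𝒳.p) (h𝒴 : IsAlgStack Scheme.fppfPrecoverage 𝒴)
    (j : 𝒳 ⥤ᵇ 𝒴) (hj : RepByAlgSp1 j) : IsAlgStack Scheme.fppfPrecoverage 𝒳 := by
  refine ⟨isStack_of_rep1 h𝒳 h𝒴.isStack j hj, ?_, ?_⟩
  · have h1 := diag_comp_rep1 h𝒳 h𝒴.isStack.1 (repWith_rep1 (isMono_diag_of_rep1 hj)) h𝒴.diag
    exact (rep1_iff _).2 ((diag_repWith_square (f := FibCat.toSelf 𝒳) (f' := BasedFunctor.comp j (FibCat.toSelf 𝒴))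
      (isEquivOver_id _) (isEquivOver_id _) (toSelfIso j)).2 ((rep1_iff _).1 h1))
  · obtain ⟨V, y, hy, hys⟩ := h𝒴.atlas
    obtain ⟨F, e, he⟩ := hj V y
    obtain ⟨W, a, h1, h2⟩ := exists_scheme_chart Groth.L23.etLocal_smooth h𝒳 (F := F)
      (C := BasedFunctor.comp e (FibCat.fpSnd y j)) ((repWith_precomp he _).2 (repWith_fpSnd j hy))
      (isSurjective_comp (isSurjective_of_isEquivOver he) (by
        intro p
        obtain ⟨v, hv⟩ := isSurjective_of_repWith (overCat_isFibGrpd V) h𝒴.isStack.1 hys (Points.map j p)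
        obtain ⟨w, -, hw⟩ := exists_points_fp h𝒳 h𝒴.isStack.1 (overCat_isFibGrpd V) j y v p hv
        exact ⟨w, hw⟩))
    exact ⟨W, _, h1, h2⟩

end Groth.L24.St
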