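import Groth.Prelude.Def_AlgSt2
import Groth.Prelude.Def_AlgSt3
import Groth.Agent.L24.St.OfPsh
import Groth.Agent.L24.St.Yoneda

/-!
Functors between categories of sheaves, and functors into slices.
-/

set_option autoImplicit false
set_option backward.isDefEq.respectTransparency false
set_option backward.isDefEq.respectTransparency.types false

universe w' v' w v u

open CategoryTheory CategoryTheory.Limits AlgebraicGeometry Opposite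

namespace Groth.L24.St

variable {S : Scheme.{u}}

/-- The map of sheaves determined by a functor between their categories. -/
def spMap {F G : AlgSp.Sp S} (Φ : AlgSt.ofSp F ⥤ᵇ AlgSt.ofSp G) : F ⟶ G :=
  ObjectProperty.homMk (pshMapOf Φ)

theorem spMap_hom {F G : AlgSp.Sp S} (Φ : AlgSt.ofSp F ⥤ᵇ AlgSt.ofSp G) :
    (spMap Φ).hom = pshMapOf Φ := rfl

theorem spMap_congr {F G : AlgSp.Sp S} {Φ Ψ : AlgSt.ofSp F ⥤ᵇ AlgSt.ofSp G} (e : Φ ≅ Ψ) :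
    spMap Φ = spMap Ψ := ObjectProperty.hom_ext _ (pshMapOf_congr e)

theorem spMap_comp {F G H : AlgSp.Sp S} (Φ : AlgSt.ofSp F ⥤ᵇ AlgSt.ofSp G) (Ψ : AlgSt.ofSp G ⥤ᵇ AlgSt.ofSp H) :
    spMap (BasedFunctor.comp Φ Ψ) = spMap Φ ≫ spMap Ψ := ObjectProperty.hom_ext _ (pshMapOf_comp Φ Ψ)

theorem spMap_id (F : AlgSp.Sp S) : spMap (BasedFunctor.id (AlgSt.ofSp F)) = 𝟙 F :=
  ObjectProperty.hom_ext _ pshMapOf_id

theorem spMap_ofSpMap {F G : AlgSp.Sp S} (a : F ⟶ G) : spMap (AlgSt.ofSpMap a) = a :=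
  ObjectProperty.hom_ext _ (pshMapOf_ofPshMap a.hom)

/-- A functor between categories of sheaves comes from its map of sheaves. -/
def isoOfSpMap {F G : AlgSp.Sp S} (Φ : AlgSt.ofSp F ⥤ᵇ AlgSt.ofSp G) : Φ ≅ AlgSt.ofSpMap (spMap Φ) :=
  isoOfPshMapOf Φ

/-- Functors between categories of sheaves with equal maps are 2-isomorphic. -/
def isoOfSpMapEq {F G : AlgSp.Sp S} {Φ Ψ : AlgSt.ofSp F ⥤ᵇ AlgSt.ofSp G} (h : spMap Φ = spMap Ψ) : Φ ≅ Ψ :=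
  isoOfPshMapEq (congrArg (fun t => t.hom) h)

theorem isIso_spMap {F G : AlgSp.Sp S} {Φ : AlgSt.ofSp F ⥤ᵇ AlgSt.ofSp G} (h : FibCat.IsEquivOver Φ) :
    IsIso (spMap Φ) := by
  obtain ⟨Ψ, ⟨e⟩, ⟨e'⟩⟩ := h
  exact ⟨spMap Ψ, by rw [← spMap_comp, spMap_congr e, spMap_id],
    by rw [← spMap_comp, spMap_congr e', spMap_id]⟩

theorem ofSpMap_isEquivOver {F G : AlgSp.Sp S} (a : F ⟶ G) [IsIso a] :
    FibCat.IsEquivOver (AlgSt.ofSpMap a) :=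
  ⟨AlgSt.ofSpMap (inv a), ⟨isoOfSpMapEq (by rw [spMap_comp, spMap_ofSpMap, spMap_ofSpMap, spMap_id, IsIso.hom_inv_id])⟩,
    ⟨isoOfSpMapEq (by rw [spMap_comp, spMap_ofSpMap, spMap_ofSpMap, spMap_id, IsIso.inv_hom_id])⟩⟩

theorem ofSp_isFibGrpd (F : AlgSp.Sp S) : FibCat.IsFibGrpd (AlgSt.ofSp F).p :=
  Stk.isFibGrpd_ofPsh F.obj

variable {U : Over S}

theorem toOverCat_ofOverCat (U : Over S) :
    BasedFunctor.comp (AlgSt.toOverCat U) (AlgSt.ofOverCat U) = BasedFunctor.id _ := rfl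

theorem ofOverCat_toOverCat (U : Over S) :
    BasedFunctor.comp (AlgSt.ofOverCat U) (AlgSt.toOverCat U) = BasedFunctor.id _ := rfl

theorem ofOverCat_isEquivOver (U : Over S) : FibCat.IsEquivOver (AlgSt.ofOverCat U) :=
  ⟨AlgSt.toOverCat U, ⟨eqToIso (ofOverCat_toOverCat U)⟩, ⟨eqToIso (toOverCat_ofOverCat U)⟩⟩

theorem toOverCat_isEquivOver (U : Over S) : FibCat.IsEquivOver (AlgSt.toOverCat U) :=
  ⟨AlgSt.ofOverCat U, ⟨eqToIso (toOverCat_ofOverCat U)⟩, ⟨eqToIso (ofOverCat_toOverCat U)⟩⟩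

theorem secAt_ofOverCat {F : AlgSp.Sp S} (Φ : AlgSt.ofSp F ⥤ᵇ FibCat.overCat U) (x : (AlgSt.ofSp F).obj) :
    secAt (BasedFunctor.comp Φ (AlgSt.ofOverCat U)) x = ⟨AlgSt.secHom Φ x⟩ := rfl

/-- `spMapOfOver` is the map of sheaves of the composite with `ofOverCat`. -/
theorem spMapOfOver_eq {F : AlgSp.Sp S} (Φ : AlgSt.ofSp F ⥤ᵇ FibCat.overCat U) :
    AlgSt.spMapOfOver Φ = spMap (BasedFunctor.comp Φ (AlgSt.ofOverCat U)) := rfl

theorem spMapOfOver_congr {F : AlgSp.Sp S} {Φ Ψ : AlgSt.ofSp F ⥤ᵇ FibCat.overCat U} (e : Φ ≅ Ψ) :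
    AlgSt.spMapOfOver Φ = AlgSt.spMapOfOver Ψ :=
  spMap_congr (whiskerR e (AlgSt.ofOverCat U))

theorem spMapOfOver_comp {F G : AlgSp.Sp S} (Φ : AlgSt.ofSp F ⥤ᵇ AlgSt.ofSp G)
    (Ψ : AlgSt.ofSp G ⥤ᵇ FibCat.overCat U) :
    AlgSt.spMapOfOver (BasedFunctor.comp Φ Ψ) = spMap Φ ≫ AlgSt.spMapOfOver Ψ :=
  spMap_comp Φ (BasedFunctor.comp Ψ (AlgSt.ofOverCat U))

theorem spMapOfOver_ofSpMap_comp {F G : AlgSp.Sp S} (a : F ⟶ G) (Ψ : AlgSt.ofSp G ⥤ᵇ FibCat.overCat U) :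
    AlgSt.spMapOfOver (BasedFunctor.comp (AlgSt.ofSpMap a) Ψ) = a ≫ AlgSt.spMapOfOver Ψ := by
  rw [spMapOfOver_comp, spMap_ofSpMap]

theorem spMapOfOver_toOverCat (U : Over S) : AlgSt.spMapOfOver (AlgSt.toOverCat U) = 𝟙 _ := by
  rw [spMapOfOver_eq, toOverCat_ofOverCat, spMap_id]

theorem ofOverCat_overMap {V : Over S} (h : U ⟶ V) :
    BasedFunctor.comp (AlgSt.overMap h) (AlgSt.ofOverCat V) =
      BasedFunctor.comp (AlgSt.ofOverCat U) (AlgSt.ofSpMap ((AlgSp.yon S).map h)) := rfl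

theorem spMapOfOver_overMap {F : AlgSp.Sp S} {V : Over S} (Φ : AlgSt.ofSp F ⥤ᵇ FibCat.overCat U) (h : U ⟶ V) :
    AlgSt.spMapOfOver (BasedFunctor.comp Φ (AlgSt.overMap h)) = AlgSt.spMapOfOver Φ ≫ (AlgSp.yon S).map h := by
  have h1 := spMap_comp (BasedFunctor.comp Φ (AlgSt.ofOverCat U)) (AlgSt.ofSpMap ((AlgSp.yon S).map h))
  rw [spMap_ofSpMap] at h1
  exact h1

end Groth.L24.St
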