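import Groth.Agent.L24.St.Points
import Groth.Agent.L24.St.Sp
import Groth.Agent.L24.St.Rep
import Groth.Agent.L23.Points

/-!
Points of scheme charts: `|Sch/U| = U`, fibre products of two charts by schemes, surjectivity and continuity.
-/

set_option autoImplicit false
set_option backward.isDefEq.respectTransparency false
set_option backward.isDefEq.respectTransparency.types false

universe v₄ u₄ v₃ u₃ v₂ u₂ u

open CategoryTheory CategoryTheory.Limits AlgebraicGeometry Opposite AlgSt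

noncomputable section

namespace Groth.L24.St

variable {S : Scheme.{u}} {𝒳 : BasedCategory.{v₂, u₂} (Over S)} {𝒴 : BasedCategory.{v₃, u₃} (Over S)}
  {U V : Over S}

/-- The point of `U` under a field-valued point of the slice. -/
def overPtAux (p : FPt (FibCat.overCat U)) : ↥U.left :=
  (eqToHom p.lies.symm ≫ p.obj.hom).left (IsLocalRing.closedPoint p.K)

theorem over_hom_factor {a b : Over U} (φ : a ⟶ b) {A B : Over S} (hA : a.left = A) (hB : b.left = B) :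
    eqToHom hA.symm ≫ a.hom = (eqToHom hA.symm ≫ φ.left ≫ eqToHom hB) ≫ eqToHom hB.symm ≫ b.hom := by
  subst hA hB
  simp

theorem overPtAux_eq_of_hom {p q : FPt (FibCat.overCat U)} (φ : p.obj ⟶ q.obj) :
    overPtAux p = overPtAux q := by
  have h := over_hom_factor (U := U) φ p.lies q.lies
  refine (congrArg (fun g : Over.mk p.str ⟶ U => g.left (IsLocalRing.closedPoint p.K)) h).trans ?_
  exact congrArg (fun i => (eqToHom q.lies.symm ≫ q.obj.hom).left i) (Subsingleton.elim (α := Spec (CommRingCat.of q.K)) _ _)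

/-- The point of `U` under a point of the slice. -/
def overPt : Points (FibCat.overCat U) → ↥U.left :=
  Quot.lift overPtAux fun _ _ ⟨_, a, b, _⟩ => (overPtAux_eq_of_hom a).symm.trans (overPtAux_eq_of_hom b)

@[simp] theorem overPt_mk (p : FPt (FibCat.overCat U)) : overPt (Points.mk p) = overPtAux p := rfl

/-- The point of the slice defined by a point of the scheme. -/
def ptOver (t : ↥U.left) : Points (FibCat.overCat U) := Points.ofChart (BasedFunctor.id _) t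

theorem overPt_ptOver (t : ↥U.left) : overPt (ptOver t) = t := by
  show overPtAux _ = t
  exact Scheme.fromSpecResidueField_apply t _

theorem ptOver_overPt (x : Points (FibCat.overCat U)) : ptOver (overPt x) = x := by
  obtain ⟨p, rfl⟩ := Points.mk_surjective x
  let m : Spec (CommRingCat.of p.K) ⟶ U.left := (eqToHom p.lies.symm ≫ p.obj.hom).left
  have key := Scheme.descResidueField_stalkClosedPointTo_fromSpecResidueField p.K U.left m
  have hm : m ≫ U.hom = p.str := Over.w (eqToHom p.lies.symm ≫ p.obj.hom)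
  let d : Over.mk p.str ⟶ Over.mk (U.left.fromSpecResidueField (m (IsLocalRing.closedPoint p.K)) ≫ U.hom) :=
    Over.homMk (Spec.map (U.left.descResidueField (K := p.K) (Scheme.stalkClosedPointTo m))) (by
      show _ ≫ _ ≫ U.hom = p.str
      rw [← Category.assoc]; exact (congrArg (· ≫ U.hom) key).trans hm)
  refine (mk_eq_of_hom (p := p) (Over.homMk (show p.obj.left ⟶ _ from eqToHom p.lies ≫ d) ?_)).symm
  have h2 : d ≫ Over.homMk (U.left.fromSpecResidueField (m (IsLocalRing.closedPoint p.K))) rfl =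
      eqToHom p.lies.symm ≫ p.obj.hom := Over.OverMorphism.ext key
  exact ((Category.assoc _ _ _).trans (congrArg (fun t => eqToHom p.lies ≫ t) h2)).trans
    ((eqToHom_trans_assoc _ _ _).trans (Category.id_comp _))

/-- The points of the slice of a scheme are the points of the scheme. -/
def overPtEquiv (U : Over S) : Points (FibCat.overCat U) ≃ ↥U.left :=
  ⟨overPt, ptOver, ptOver_overPt, overPt_ptOver⟩

theorem ofChart_eq_map (x : FibCat.overCat U ⥤ᵇ 𝒳) : Points.ofChart x = Points.map x ∘ ptOver := rfl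

theorem ofChart_congr {x y : FibCat.overCat U ⥤ᵇ 𝒳} (e : x ≅ y) : Points.ofChart x = Points.ofChart y := by
  rw [ofChart_eq_map, ofChart_eq_map, map_congr e]

theorem map_comp_ofChart (x : FibCat.overCat U ⥤ᵇ 𝒳) (f : 𝒳 ⥤ᵇ 𝒴) :
    Points.ofChart (BasedFunctor.comp x f) = Points.map f ∘ Points.ofChart x := rfl

theorem map_overMap_ptOver (ψ : U ⟶ V) (t : ↥U.left) :
    Points.map (overMap ψ) (ptOver t) = ptOver (ψ.left t) := by
  refine (overPtEquiv V).injective (show overPt (Points.map (overMap ψ) (ptOver t)) = _ from ?_)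
  show overPtAux _ = overPt (ptOver (ψ.left t))
  rw [overPt_ptOver]
  show (U.left.fromSpecResidueField t ≫ ψ.left) (IsLocalRing.closedPoint _) = ψ.left t
  rw [Scheme.Hom.comp_apply, Scheme.fromSpecResidueField_apply]

theorem ofChart_overMap_comp (ψ : U ⟶ V) (x : FibCat.overCat V ⥤ᵇ 𝒳) (t : ↥U.left) :
    Points.ofChart (BasedFunctor.comp (overMap ψ) x) t = Points.ofChart x (ψ.left t) := by
  rw [ofChart_eq_map, ofChart_eq_map, Function.comp_apply, Function.comp_apply, map_comp_apply,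
    map_overMap_ptOver]

theorem isSurjective_iff_ofChart (x : FibCat.overCat U ⥤ᵇ 𝒳) :
    IsSurjective x ↔ Function.Surjective (Points.ofChart x) := by
  rw [ofChart_eq_map]
  exact ((overPtEquiv U).symm.surjective.of_comp_iff _).symm

theorem exists_overMap_iso (Φ : FibCat.overCat U ⥤ᵇ FibCat.overCat V) :
    ∃ ψ : U ⟶ V, Nonempty (Φ ≅ overMap ψ) ∧
      spMapOfOver (BasedFunctor.comp (toOverCat U) Φ) = (AlgSp.yon S).map ψ := by
  let A : AlgSt.ofSch U ⥤ᵇ AlgSt.ofSch V := BasedFunctor.comp (toOverCat U) (BasedFunctor.comp Φ (ofOverCat V))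
  obtain ⟨ψ, hψ⟩ := (AlgSp.yon S).map_surjective (spMap A)
  have i : A ≅ ofSpMap ((AlgSp.yon S).map ψ) := isoOfSpMap A ≪≫ eqToIso (by rw [hψ])
  exact ⟨ψ, ⟨whiskerR (whiskerL (ofOverCat U) i) (toOverCat V)⟩, hψ.symm⟩

/-- The field-valued point of the category of a sheaf defined by one of the sheaf. -/
def toFPt {F : AlgSp.Sp S} (q : AlgSp.FieldPt F) : FPt (ofSp F) :=
  { K := q.K, str := q.str, obj := ⟨Over.mk q.str, q.val⟩, lies := rfl }

theorem rel_toFPt {F : AlgSp.Sp S} {p q : AlgSp.FieldPt F} (h : AlgSp.FieldPt.Rel p q) :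
    FPt.Rel (toFPt p) (toFPt q) := by
  obtain ⟨Ω, _, w, a, b, hab⟩ := h
  exact ⟨toFPt ⟨Ω, w, F.obj.map a.op p.val⟩, ⟨a, rfl⟩, ⟨b, hab.symm⟩, trivial⟩

theorem exists_toFPt {F : AlgSp.Sp S} (x : Points (ofSp F)) :
    ∃ q : AlgSp.FieldPt F, Points.mk (toFPt q) = x := by
  obtain ⟨p, rfl⟩ := Points.mk_surjective x
  exact ⟨⟨p.K, p.str, F.obj.map (eqToHom (show Over.mk p.str = p.obj.base from p.lies.symm)).op p.obj.sec⟩,
    mk_eq_of_hom (Stk.EltObj.Hom.mk (eqToHom (show Over.mk p.str = p.obj.base from p.lies.symm)) rfl)⟩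

theorem overPt_map_spMapOfOver {F : AlgSp.Sp S} (Φ : ofSp F ⥤ᵇ FibCat.overCat U) (q : AlgSp.FieldPt F) :
    overPt (Points.map Φ (Points.mk (toFPt q))) =
      AlgSp.Points.toScheme U (AlgSp.Points.map (spMapOfOver Φ) (AlgSp.Points.mk q)) := rfl

theorem surjective_spMapOfOver_iff {F : AlgSp.Sp S} (Φ : ofSp F ⥤ᵇ FibCat.overCat U) :
    AlgSp.IsSurjectiveMor (spMapOfOver Φ) ↔ IsSurjective Φ := by
  constructor
  · intro h x
    obtain ⟨y, hy⟩ := h (AlgSp.Points.ofScheme U (overPt x))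
    obtain ⟨q, rfl⟩ := AlgSp.Points.mk_surjective y
    refine ⟨Points.mk (toFPt q), (overPtEquiv U).injective ?_⟩
    change overPt (Points.map Φ (Points.mk (toFPt q))) = overPt x
    rw [overPt_map_spMapOfOver, hy, AlgSp.Points.toScheme_ofScheme]
  · intro h z
    obtain ⟨x, hx⟩ := h (ptOver (AlgSp.Points.toScheme U z))
    obtain ⟨q, rfl⟩ := exists_toFPt x
    refine ⟨AlgSp.Points.mk q, (AlgSp.Points.schemeEquiv U).symm.injective ?_⟩
    change AlgSp.Points.toScheme U (AlgSp.Points.map (spMapOfOver Φ) (AlgSp.Points.mk q)) = AlgSp.Points.toScheme U z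
    rw [← overPt_map_spMapOfOver, hx, overPt_ptOver]

theorem isSurjective_of_repWith (h𝒳 : FibCat.IsFibGrpd 𝒳.p) (h𝒴 : FibCat.IsFibGrpd 𝒴.p) {f : 𝒳 ⥤ᵇ 𝒴}
    (h : RepByAlgSpWith AlgSp.IsSurjectiveMor f) : IsSurjective f := by
  intro z
  obtain ⟨p, rfl⟩ := Points.mk_surjective z
  obtain ⟨G, φ, hφ⟩ := exists_overCat_functor h𝒴 p.obj p.lies
  obtain ⟨F, e, he, hs⟩ := h (Over.mk p.str) G
  obtain ⟨w, -⟩ := (surjective_spMapOfOver_iff _).1 hs (ptOver (IsLocalRing.closedPoint p.K))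
  obtain ⟨q, rfl⟩ := exists_toFPt w
  let ξ : (FibCat.fp G f).obj := e.obj (toFPt q).obj
  let r : FPt 𝒳 := ((toFPt q).map e).map (FibCat.fpSnd G f)
  refine ⟨Points.mk r, ?_⟩
  exact mk_eq_of_hom (p := r.map f) (q := p)
    (ξ.obj.iso.inv ≫ G.map (L09.Fib.toTerm ξ.obj.fst) ≫ φ.hom)

theorem repWith_surjective_of_isSurjective (h𝒳 : FibCat.IsFibGrpd 𝒳.p) (h𝒴 : FibCat.IsFibGrpd 𝒴.p)
    {f : 𝒳 ⥤ᵇ 𝒴} (hf : RepByAlgSp1 f) (hs : IsSurjective f) :
    RepByAlgSpWith AlgSp.IsSurjectiveMor f := by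
  intro U y
  obtain ⟨F, e, he⟩ := hf U y
  refine ⟨F, e, he, (surjective_spMapOfOver_iff _).2 fun x => ?_⟩
  obtain ⟨w, hw⟩ := isSurjective_fpFst h𝒳 h𝒴 (overCat_isFibGrpd U) y hs x
  obtain ⟨v, rfl⟩ := (bijective_map_of_isEquivOver he).surjective w
  exact ⟨v, by rw [map_comp_apply]; exact hw⟩

/-- A scheme chart and a representable functor with a property admit a scheme chart of their fibre product. -/
theorem exists_chart_cover {𝒵 : BasedCategory.{v₄, u₄} (Over S)} (h𝒳 : FibCat.IsFibGrpd 𝒳.p)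
    (h𝒵 : FibCat.IsFibGrpd 𝒵.p) {Q : MorphismProperty Scheme.{u}} {f : 𝒵 ⥤ᵇ 𝒳}
    (hf : RepByAlgSpWith (AlgSp.LocP Q) f) (x : FibCat.overCat U ⥤ᵇ 𝒳) :
    ∃ (W : Over S) (ψ : W ⟶ U) (z : FibCat.overCat W ⥤ᵇ 𝒵),
      Q ψ.left ∧ Nonempty (BasedFunctor.comp (overMap ψ) x ≅ BasedFunctor.comp z f) ∧
        ∀ t p, Points.ofChart x t = Points.map f p → ∃ w, ψ.left w = t ∧ Points.ofChart z w = p := by
  obtain ⟨F, e, he, hQ⟩ := hf U x
  obtain ⟨W, a, haE, haS⟩ := F.property.atlas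
  let E : FibCat.overCat W ⥤ᵇ FibCat.fp x f :=
    BasedFunctor.comp (ofOverCat W) (BasedFunctor.comp (ofSpMap a) e)
  obtain ⟨ψ, ⟨iψ⟩, hψ⟩ := exists_overMap_iso (BasedFunctor.comp E (FibCat.fpFst x f))
  refine ⟨W, ψ, BasedFunctor.comp E (FibCat.fpSnd x f), ?_,
    ⟨whiskerR iψ.symm x ≪≫ whiskerL E (FibCat.fpIso x f)⟩, ?_⟩
  · refine hQ a (𝟙 _) ψ haE (AlgSp.repWith_id _ U) ?_
    rw [Category.comp_id, ← spMapOfOver_ofSpMap_comp, ← hψ]
    rfl
  · intro t p htp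
    obtain ⟨w, hw1, hw2⟩ := exists_points_fp h𝒵 h𝒳 (overCat_isFibGrpd U) f x (ptOver t) p htp
    obtain ⟨z, rfl⟩ := (bijective_map_of_isEquivOver he).surjective w
    obtain ⟨q, rfl⟩ := exists_toFPt z
    obtain ⟨s, hs⟩ := Groth.L23.surjective_ofPt haS (AlgSp.Points.mk q)
    have hz : Points.map (BasedFunctor.comp (ofOverCat W) (ofSpMap a)) (ptOver s) = Points.mk (toFPt q) :=
      Points.sound (rel_toFPt (AlgSp.Points.mk_eq_mk_iff.1 hs))
    refine ⟨s, ?_, ?_⟩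
    · refine (overPtEquiv U).symm.injective ?_
      show ptOver (ψ.left s) = ptOver t
      rw [← map_overMap_ptOver, ← map_congr iψ, ← hw1, ← hz]
      rfl
    · rw [← hw2, ← hz]
      rfl

/-- Two scheme charts admit a scheme chart of their fibre product, surjective on pairs of points with equal images. -/
theorem exists_chart_square (h𝒳 : FibCat.IsFibGrpd 𝒳.p) {Q : MorphismProperty Scheme.{u}}
    {x : FibCat.overCat U ⥤ᵇ 𝒳} {y : FibCat.overCat V ⥤ᵇ 𝒳} (hy : RepByAlgSpWith (AlgSp.LocP Q) y) :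
    ∃ (W : Over S) (ψ : W ⟶ U) (ρ : W ⟶ V),
      Q ψ.left ∧ Nonempty (BasedFunctor.comp (overMap ψ) x ≅ BasedFunctor.comp (overMap ρ) y) ∧
        ∀ t v, Points.ofChart x t = Points.ofChart y v → ∃ w, ψ.left w = t ∧ ρ.left w = v := by
  obtain ⟨W, ψ, z, hψ, ⟨i⟩, hs⟩ := exists_chart_cover h𝒳 (overCat_isFibGrpd V) hy x
  obtain ⟨ρ, ⟨iρ⟩, -⟩ := exists_overMap_iso z
  refine ⟨W, ψ, ρ, hψ, ⟨i ≪≫ whiskerR iρ y⟩, fun t v htv => ?_⟩
  obtain ⟨w, h1, h2⟩ := hs t (ptOver v) htv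
  refine ⟨w, h1, (overPtEquiv V).symm.injective ?_⟩
  show ptOver (ρ.left w) = ptOver v
  rw [← map_overMap_ptOver, ← map_congr iρ]
  exact h2

theorem continuous_ofChart (h𝒳 : IsAlgStack Scheme.fppfPrecoverage 𝒳) (x : FibCat.overCat U ⥤ᵇ 𝒳) :
    Continuous (Points.ofChart x) := by
  refine ⟨fun O hO => ?_⟩
  obtain ⟨V, y, hy, hys⟩ := h𝒳.atlas
  obtain ⟨W, ψ, ρ, hψ, ⟨i⟩, hsurj⟩ := exists_chart_square h𝒳.isStack.1 (x := x) hy
  have : Smooth ψ.left := hψ
  have hys' := (isSurjective_iff_ofChart y).1 (isSurjective_of_repWith (overCat_isFibGrpd V) h𝒳.isStack.1 hys)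
  have hs : Function.Surjective ψ.left := fun t => by
    obtain ⟨v, hv⟩ := hys' (Points.ofChart x t)
    obtain ⟨w, hw, -⟩ := hsurj t v hv.symm
    exact ⟨w, hw⟩
  have heq : ψ.left ⁻¹' (Points.ofChart x ⁻¹' O) = ρ.left ⁻¹' (Points.ofChart y ⁻¹' O) := by
    ext w
    simp only [Set.mem_preimage]
    rw [← ofChart_overMap_comp, ← ofChart_overMap_comp, ofChart_congr i]
  rw [← Function.Surjective.image_preimage hs (Points.ofChart x ⁻¹' O), heq]
  exact ψ.left.isOpenMap _ ((hO V y hy).preimage ρ.left.continuous)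

theorem isOpenMap_map {𝒵 : BasedCategory.{v₄, u₄} (Over S)} {Q : MorphismProperty Scheme.{u}}
    (hQ : ∀ {X Y : Scheme.{u}} (g : X ⟶ Y), Q g → IsOpenMap g)
    (h𝒳 : FibCat.IsFibGrpd 𝒳.p) (h𝒵 : IsAlgStack Scheme.fppfPrecoverage 𝒵) {f : 𝒵 ⥤ᵇ 𝒳}
    (hf : RepByAlgSpWith (AlgSp.LocP Q) f) : IsOpenMap (Points.map f) := by
  intro O hO V y _
  obtain ⟨W, ψ, z, hψ, ⟨i⟩, hs⟩ := exists_chart_cover h𝒳 h𝒵.isStack.1 hf y
  have heq : Points.ofChart y ⁻¹' (Points.map f '' O) = ψ.left '' (Points.ofChart z ⁻¹' O) := by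
    ext v
    constructor
    · rintro ⟨p, hp, e⟩
      obtain ⟨w, rfl, rfl⟩ := hs v p e.symm
      exact ⟨w, hp, rfl⟩
    · rintro ⟨w, hw, rfl⟩
      refine ⟨Points.ofChart z w, hw, ?_⟩
      show _ = Points.ofChart y (ψ.left w)
      rw [← ofChart_overMap_comp, ofChart_congr i]
      rfl
  rw [heq]
  exact hQ _ hψ _ (hO.preimage (continuous_ofChart h𝒵 z))

theorem isOpenMap_ofChart {Q : MorphismProperty Scheme.{u}} (hQ : ∀ {X Y : Scheme.{u}} (g : X ⟶ Y), Q g → IsOpenMap g)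
    (h𝒳 : FibCat.IsFibGrpd 𝒳.p) {x : FibCat.overCat U ⥤ᵇ 𝒳} (hx : RepByAlgSpWith (AlgSp.LocP Q) x) :
    IsOpenMap (Points.ofChart x) := by
  intro O hO V y _
  obtain ⟨W, ψ, ρ, hψ, ⟨i⟩, hsurj⟩ := exists_chart_square h𝒳 (x := y) hx
  have heq : Points.ofChart y ⁻¹' (Points.ofChart x '' O) = ψ.left '' (ρ.left ⁻¹' O) := by
    ext v
    constructor
    · rintro ⟨t, ht, e⟩
      obtain ⟨w, rfl, rfl⟩ := hsurj v t e.symm
      exact ⟨w, ht, rfl⟩
    · rintro ⟨w, hw, rfl⟩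
      refine ⟨ρ.left w, hw, ?_⟩
      rw [← ofChart_overMap_comp, ← ofChart_overMap_comp, ofChart_congr i]
  rw [heq]
  exact hQ _ hψ _ (hO.preimage ρ.left.continuous)

theorem continuous_map {𝒴 : BasedCategory.{v₃, u₃} (Over S)} (h𝒴 : IsAlgStack Scheme.fppfPrecoverage 𝒴)
    (f : 𝒳 ⥤ᵇ 𝒴) : Continuous (Points.map f) :=
  ⟨fun O hO U x _ => (continuous_ofChart h𝒴 (BasedFunctor.comp x f)).isOpen_preimage O hO⟩

end Groth.L24.St
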