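import Groth.Agent.L24.St.Bootstrap2
import Groth.Agent.L24.St.StackSp
import Groth.Agent.L24.Boot.EtaleSheafSpace

/-!
The bootstrap theorems for stacks in the etale topology.
-/

set_option autoImplicit false
set_option backward.isDefEq.respectTransparency false
set_option backward.isDefEq.respectTransparency.types false

universe u

open CategoryTheory CategoryTheory.Limits AlgebraicGeometry Opposite AlgSt

noncomputable section

namespace Groth.L24.St

variable {S : Scheme.{u}} {𝒳 : AlgSt.Cat S}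

theorem isStack_ofSp_etale (F : AlgSp.Sp S) : Stk.IsStack (Groth.L24.Boot.JE S) (AlgSt.ofSp F) :=
  (isStack_ofPsh_iff _).2 ((isSheaf_iff_isSheaf_of_type _ _).1 (Groth.L24.Boot.isSheaf_etale_of_fppf F.property))

theorem isStack_overCat_etale (U : Over S) : Stk.IsStack (Groth.L24.Boot.JE S) (FibCat.overCat U) :=
  (L09.Fib.isStack_iff _ (ofOverCat_isEquivOver U)).2 (isStack_ofSp_etale _)

/-- An etale stack in setoids with a smooth surjective atlas is representable by an algebraic space. -/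
theorem repByAlgSp_of_setoid_etale_atlas (hst : Stk.IsStack (Groth.L24.Boot.JE S) 𝒳)
    (hs : FibCat.IsFibSetoid 𝒳.p) (ha : HasAtlas (AlgSp.LocP @Smooth) 𝒳) : RepByAlgSp 𝒳 := by
  have hQ := toClassPsh_isEquivOver (h := hst.1) hs
  have hF : Presheaf.IsSheaf (Groth.L24.Boot.JE S) (classPsh hst.1) := (isSheaf_iff_isSheaf_of_type _ _).2
    ((isStack_ofPsh_iff _).1 ((L09.Fib.isStack_iff _ hQ).1 hst))
  obtain ⟨U, x, hsm, hsu⟩ := hasAtlas_of_equiv hQ ha
  let Φ : Stk.ofPsh ((AlgSp.pyon S).obj U) ⥤ᵇ Stk.ofPsh (classPsh hst.1) := BasedFunctor.comp (toOverCat U) x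
  have h1 : RepByAlgSpWith (AlgSp.LocP @Smooth) (Stk.ofPshMap (pshMapOf Φ)) :=
    (repWith_congr (isoOfPshMapOf Φ)).1 ((repWith_precomp (toOverCat_isEquivOver U) x).2 hsm)
  have h2 : RepByAlgSpWith AlgSp.IsSurjectiveMor (Stk.ofPshMap (pshMapOf Φ)) :=
    (repWith_congr (isoOfPshMapOf Φ)).1 ((repWith_precomp (toOverCat_isEquivOver U) x).2 hsu)
  have h : AlgSp.RepBySpWith (AlgSp.IsSurjectiveMor ⊓ AlgSp.LocP @Smooth) (pshMapOf Φ) :=
    fun V ξ P fst snd sq => by
      obtain ⟨hP, hA, hq⟩ := (repBySpWith_iff _).2 h1 ξ fst snd sq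
      obtain ⟨_, _, hq'⟩ := (repBySpWith_iff _).2 h2 ξ fst snd sq
      exact ⟨hP, hA, hq', hq⟩
  exact (repByAlgSp_of_equiv hQ).2 (repByAlgSp_of_isAlgSpaceP
    (Groth.L24.Boot.isAlgSpaceP_of_smooth_space_chart hF ⟨(AlgSp.yon S).obj U, AlgSp.IsAlgSpace.yon_obj U⟩
      (pshMapOf Φ) h))

/-- A stack with a representable smooth surjective map from a scheme has representable diagonal. -/
theorem diag_rep1_of_etale_atlas (hst : Stk.IsStack (Groth.L24.Boot.JE S) 𝒳) (ha : HasAtlas (AlgSp.LocP @Smooth) 𝒳) :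
    RepByAlgSp1 (FibCat.diag (FibCat.toSelf 𝒳)) := by
  have h𝒳 := hst.1
  obtain ⟨U, u, hu, hus⟩ := ha
  refine (repByAlgSp1_diag_iff h𝒳).2 fun T x T' y => ?_
  obtain ⟨W, ψ, z, hψ, ⟨i⟩, hcov⟩ := exists_chart_cover h𝒳 (overCat_isFibGrpd U) hu y
  have : Smooth ψ.left := hψ
  have hW : RepByAlgSp (FibCat.fp (overMap ψ) (FibCat.fpFst y x)) := by
    refine (repByAlgSp_of_equiv (fpPaste_isEquivOver (overMap ψ) y x)).2 ?_
    refine (repByAlgSp_of_equiv (fpMap_isEquivOver (isEquivOver_id _) (isEquivOver_id _)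
      (show BasedFunctor.comp (BasedFunctor.id _) (BasedFunctor.comp z u) ≅ BasedFunctor.comp (overMap ψ) y from i.symm)
      (Iso.refl _))).2 ?_
    refine (repByAlgSp_of_equiv (fpPaste_isEquivOver z u x)).1 ?_
    have hR : RepByAlgSp (FibCat.fp u x) :=
      (repByAlgSp_of_equiv (fpSwap_isEquivOver (F := x) (G := u))).1 ((repWith_rep1 hu) T x)
    exact repByAlgSp_fp (L09.Fib.fp_isFibGrpd (overCat_isFibGrpd U) (overCat_isFibGrpd T) h𝒳) (overCat_isFibGrpd U)
      (rep1_of_repByAlgSp hR (overCat_repByAlgSp U) _) z (overCat_repByAlgSp W)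
  obtain ⟨F, e, he⟩ := hW
  have hψs : IsSurjective (overMap ψ) := (isSurjective_iff_ofChart _).2 fun p => by
    obtain ⟨t, rfl⟩ : ∃ t, ptOver t = p := ⟨_, ptOver_overPt p⟩
    obtain ⟨q, hq⟩ := isSurjective_of_repWith (overCat_isFibGrpd U) h𝒳 hus (Points.ofChart y t)
    obtain ⟨w, hw, -⟩ := hcov t q hq.symm
    exact ⟨w, by rw [ofChart_eq_map, Function.comp_apply, map_overMap_ptOver, hw]⟩
  have hg := L09.Fib.fp_isFibGrpd (overCat_isFibGrpd T') (overCat_isFibGrpd T) h𝒳 (F := y) (G := x)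
  have hsurj : IsSurjective (FibCat.fpSnd (overMap ψ) (FibCat.fpFst y x)) := by
    intro q
    obtain ⟨w, hw⟩ := hψs (Points.map (FibCat.fpFst y x) q)
    obtain ⟨v, -, hv⟩ := exists_points_fp hg (overCat_isFibGrpd T') (overCat_isFibGrpd W)
      (FibCat.fpFst y x) (overMap ψ) w q hw
    exact ⟨v, hv⟩
  obtain ⟨V, a, h1, h2⟩ := exists_scheme_chart Groth.L23.etLocal_smooth hg (F := F)
    (C := BasedFunctor.comp e (FibCat.fpSnd (overMap ψ) (FibCat.fpFst y x)))
    ((repWith_precomp he _).2 (repWith_fpSnd _ (smooth_overMap ψ)))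
    (isSurjective_comp (isSurjective_of_isEquivOver he) hsurj)
  exact repByAlgSp_of_setoid_etale_atlas
    (isStack_fp (isStack_overCat_etale T') (isStack_overCat_etale T) (isPrestack_of_isStack hst))
    (fp_isFibSetoid_of_setoids (isFibSetoid_of_repByAlgSp (overCat_repByAlgSp T'))
      (isFibSetoid_of_repByAlgSp (overCat_repByAlgSp T)) h𝒳 y x) ⟨V, _, h1, h2⟩

theorem isAlgStack_etale_of_atlas (hst : Stk.IsStack (Groth.L24.Boot.JE S) 𝒳)
    (ha : HasAtlas (AlgSp.LocP @Smooth) 𝒳) : IsAlgStack Scheme.etalePrecoverage 𝒳 :=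
  ⟨hst, diag_rep1_of_etale_atlas hst ha, ha⟩

end Groth.L24.St
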