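import Groth.Agent.L24.St.FlatCover
import Groth.Agent.L24.LocQ.RepDescent
import Groth.Agent.L23.Cover
import Groth.Agent.L23.ClosedAffineSpace

/-!
A property local on the base descends along functors covering the test objects fppf locally.
-/

set_option autoImplicit false
set_option backward.isDefEq.respectTransparency false
set_option backward.isDefEq.respectTransparency.types false

universe u

open CategoryTheory CategoryTheory.Limits AlgebraicGeometry Opposite AlgSt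

noncomputable section

namespace Groth.L24.St

variable {S : Scheme.{u}} {𝒳 𝒴 𝒵 : AlgSt.Cat S} {P : MorphismProperty (AlgSp.Sp S)}

/-- A covering sieve contains an fppf family indexed by the points. -/
theorem exists_family_of_mem_J {U : Over S} {R : Sieve U} (hR : R ∈ QuotSh.J Scheme.fppfPrecoverage S U) :
    ∃ (V : ↥U.left → Over S) (g : ∀ t, V t ⟶ U), ∀ t, R.arrows (g t) ∧ Flat (g t).left ∧
      LocallyOfFinitePresentation (g t).left ∧ t ∈ Set.range (g t).left := by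
  have hmem : R ∈ ((Scheme.fppfPrecoverage.{u}).toGrothendieck.over S) U := hR
  rw [GrothendieckTopology.mem_over_iff] at hmem
  have : Scheme.fppfPrecoverage.{u}.HasPullbacks := by
    unfold Scheme.fppfPrecoverage; infer_instance
  have : Scheme.fppfPrecoverage.{u}.HasIsos := by
    unfold Scheme.fppfPrecoverage
    have : MorphismProperty.ContainsIdentities (@Flat ⊓ @LocallyOfFinitePresentation) :=
      ⟨fun X => ⟨inferInstanceAs (Flat (𝟙 X)), inferInstanceAs (LocallyOfFinitePresentation (𝟙 X))⟩⟩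
    infer_instance
  obtain ⟨T, hT, hle⟩ :=
    (Precoverage.mem_toGrothendieck_iff_of_isStableUnderComposition (J := Scheme.fppfPrecoverage)).1 hmem
  have h : ∀ t : ↥U.left, ∃ (V : Scheme.{u}) (v : V ⟶ U.left), T v ∧ t ∈ Set.range v := by
    intro t
    obtain ⟨Y, q, hq, ht⟩ := hT.1 t
    obtain @⟨V, v, hv⟩ := hq
    exact ⟨V, v, hv, ht⟩
  choose V v hv ht using h
  refine ⟨fun t => Over.mk (v t ≫ U.hom), fun t => Over.homMk (v t) rfl, fun t =>
    ⟨(Sieve.overEquiv_iff (Y := U) _ _).1 (hle _ _ (hv t)), (hT.2 (hv t)).1, (hT.2 (hv t)).2, ht t⟩⟩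

/-- A property local on the base descends along a functor which fppf locally lifts the test objects. -/
theorem repWith_of_fpFst_sieve (hB : PBase P) (hL : AlgSp.IsLocalOnBase AlgSp.IsFppfCover P)
    (h𝒳 : FibCat.IsFibGrpd 𝒳.p) (h𝒴 : FibCat.IsFibGrpd 𝒴.p) (h𝒵 : FibCat.IsFibGrpd 𝒵.p)
    {f : 𝒳 ⥤ᵇ 𝒴} (hf : RepByAlgSp1 f) {g : 𝒵 ⥤ᵇ 𝒴}
    (hg : ∀ (U : Over S) (y : FibCat.overCat U ⥤ᵇ 𝒴), ∃ R ∈ QuotSh.J Scheme.fppfPrecoverage S U,
      ∀ ⦃V : Over S⦄ (h : V ⟶ U), R.arrows h →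
        ∃ z : FibCat.overCat V ⥤ᵇ 𝒵, Nonempty (BasedFunctor.comp z g ≅ BasedFunctor.comp (AlgSt.overMap h) y))
    (h' : RepByAlgSpWith P (FibCat.fpFst g f)) : RepByAlgSpWith P f := by
  intro U y
  obtain ⟨F, e, he⟩ := hf U y
  refine ⟨F, e, he, ?_⟩
  obtain ⟨R, hR, hlift⟩ := hg U y
  obtain ⟨V, v, hv⟩ := exists_family_of_mem_J hR
  let a := spMapOfOver (BasedFunctor.comp e (FibCat.fpFst y f))
  have hY : ∀ t, AlgSp.IsAlgSpace ((AlgSp.yon S).obj (V t)) := fun t => AlgSp.IsAlgSpace.yon_obj (V t)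
  have hQ : ∀ t, AlgSp.IsAlgSpace (pullback a ((AlgSp.yon S).map (v t))) := fun t =>
    isAlgSpace_pullback F.property (hY t) (AlgSp.IsAlgSpace.yon_obj U) _ _
  refine (hL (fun t => (AlgSp.yon S).obj (V t)) (fun t => (AlgSp.yon S).map (v t))
    (AlgSp.IsAlgSpace.yon_obj U) hY ?_ a F.property (fun t => pullback a ((AlgSp.yon S).map (v t)))
    (fun t => pullback.snd _ _) (fun t => pullback.fst _ _) hQ
    (fun t => IsPullback.of_hasPullback _ _)).2 fun t => ?_
  · refine ⟨fun t => ⟨(LocQ.locP_map_iff Groth.L23.etLocal_flat (v t)).2 (hv t).2.1,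
      (LocQ.locP_map_iff Groth.L23.etLocal_lfp (v t)).2 (hv t).2.2.1⟩, fun x => ?_⟩
    refine ⟨AlgSp.Points.toScheme U x, ?_⟩
    obtain ⟨w, hw⟩ := (hv (AlgSp.Points.toScheme U x)).2.2.2
    obtain ⟨p, hp⟩ := (toScheme_homeo (V (AlgSp.Points.toScheme U x))).surjective w
    refine ⟨p, (toScheme_homeo U).injective ?_⟩
    exact (Groth.L23.toScheme_map_yon _ p).trans ((congrArg _ hp).trans hw)
  obtain ⟨z, ⟨i⟩⟩ := hlift (v t) (hv t).1
  have sq := IsPullback.of_hasPullback a ((AlgSp.yon S).map (v t))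
  obtain ⟨hP, Θ, hΘ, ⟨iΘ⟩⟩ := exists_space_square h𝒳 h𝒴 y e he (hY t) sq
  obtain ⟨W, b, e', hW, he', ⟨i'⟩, hb⟩ := exists_space_prop hasAtlasCovers_fppf hB hL
    (L09.Fib.fp_isFibGrpd h𝒵 h𝒳 h𝒴) h𝒵 h' (hY t) (BasedFunctor.comp (toOverCat (V t)) z)
  have h1 : spMapOfOver (BasedFunctor.comp (toOverCat (V t)) (overMap (v t))) = (AlgSp.yon S).map (v t) := by
    rw [spMapOfOver_overMap, spMapOfOver_toOverCat, Category.id_comp]
  let iζ : BasedFunctor.comp (BasedFunctor.comp (ofSpMap ((AlgSp.yon S).map (v t))) (toOverCat U)) y ≅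
      BasedFunctor.comp (BasedFunctor.comp (toOverCat (V t)) z) g :=
    whiskerR ((overFactor (BasedFunctor.comp (toOverCat (V t)) (overMap (v t)))).trans
      (eqToIso (by rw [h1]))).symm y ≪≫ whiskerL (toOverCat (V t)) i.symm
  let M := fpMap (F := BasedFunctor.comp (BasedFunctor.comp (ofSpMap ((AlgSp.yon S).map (v t))) (toOverCat U)) y)
    (G := f) (F' := BasedFunctor.comp (BasedFunctor.comp (toOverCat (V t)) z) g) (G' := f)
    (BasedFunctor.id _) (BasedFunctor.id _) iζ (Iso.refl _)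
  let e₁ := BasedFunctor.comp e' (BasedFunctor.comp (fpPaste (BasedFunctor.comp (toOverCat (V t)) z) g f) M)
  have he₁ : FibCat.IsEquivOver e₁ := isEquivOver_comp he' (isEquivOver_comp (fpPaste_isEquivOver _ g f)
    (fpMap_isEquivOver (isEquivOver_id _) (isEquivOver_id _) _ _))
  obtain ⟨j, hj, hja⟩ := exists_iso_over he₁ hΘ
    (show BasedFunctor.comp e₁ (FibCat.fpFst _ f) ≅ ofSpMap b from i') iΘ
  rw [← hja]
  exact hB.iso_left hW hP (hY t) j hb

end Groth.L24.St
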