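import Groth.Prelude.Def_AlgSt
import Groth.Agent.L24.St.Calc
import Groth.Agent.L24.St.OfPsh
import Groth.Agent.L09.FibMisc

/-!
A category fibred in setoids is equivalent to the category of its presheaf of isomorphism classes.
-/

set_option autoImplicit false
set_option backward.isDefEq.respectTransparency false
set_option backward.isDefEq.respectTransparency.types false

universe v₂ u₂ v u

open CategoryTheory Category Opposite Functor

namespace Groth.L24.St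

variable {C : Type u} [Category.{v} C] (𝒳 : BasedCategory.{v₂, u₂} C)

/-- Objects over `U`. -/
def ObjOver (U : C) : Type u₂ := {x : 𝒳.obj // 𝒳.p.obj x = U}

/-- Isomorphism over the identity. -/
def ClassRel (U : C) (a b : ObjOver 𝒳 U) : Prop := ∃ i : a.1 ≅ b.1, OverId i.hom

/-- Isomorphism classes of objects over `U`. -/
def Classes (U : C) : Type u₂ := Quot (ClassRel 𝒳 U)

variable {𝒳}

theorem classRel_equivalence (U : C) : _root_.Equivalence (ClassRel 𝒳 U) :=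
  ⟨fun a => ⟨Iso.refl _, overId_id _⟩, fun ⟨i, hi⟩ => ⟨i.symm, hi.inv⟩,
    fun ⟨i, hi⟩ ⟨j, hj⟩ => ⟨i ≪≫ j, hi.comp hj⟩⟩

/-- The class of an object over `U`. -/
def cls {U : C} (a : ObjOver 𝒳 U) : Classes 𝒳 U := Quot.mk _ a

theorem cls_eq_iff {U : C} {a b : ObjOver 𝒳 U} :
    cls a = cls b ↔ ∃ i : a.1 ≅ b.1, OverId i.hom := by
  unfold cls
  rw [Quot.eq, (classRel_equivalence U).eqvGen_iff]
  rfl

variable (h : FibCat.IsFibGrpd 𝒳.p)

include h in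
theorem exists_pull {U V : C} (f : V ⟶ U) (a : ObjOver 𝒳 U) :
    ∃ (b : ObjOver 𝒳 V) (φ : b.1 ⟶ a.1), 𝒳.p.IsHomLift f φ := by
  obtain ⟨x, rfl⟩ := a
  obtain ⟨y, φ, hφ⟩ := h.exists_lift f
  exact ⟨⟨y, IsHomLift.domain_eq 𝒳.p f φ⟩, φ, hφ⟩

include h in
theorem cls_eq_of_lifts {U V : C} (f : V ⟶ U) {a a' : ObjOver 𝒳 U} (ha : cls a = cls a')
    {b b' : ObjOver 𝒳 V} (φ : b.1 ⟶ a.1) (φ' : b'.1 ⟶ a'.1) (hφ : 𝒳.p.IsHomLift f φ)
    (hφ' : 𝒳.p.IsHomLift f φ') : cls b = cls b' := by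
  obtain ⟨i, hi⟩ := cls_eq_iff.1 ha
  have hsc := L09.Fib.stronglyCartesian_of_isFibGrpd _ h f φ'
  have hl : 𝒳.p.IsHomLift (𝟙 V ≫ f) (φ ≫ i.hom) := by
    have : 𝒳.p.IsHomLift (𝟙 U) i.hom := hi.lift a.2
    rw [Category.id_comp]
    infer_instance
  obtain ⟨χ, ⟨hχ, -⟩, -⟩ := IsStronglyCartesian.universal_property 𝒳.p f φ' (𝟙 V) (𝟙 V ≫ f) rfl (φ ≫ i.hom)
  have := L09.Fib.isIso_of_isFibGrpd _ h (𝟙 V) χ
  exact cls_eq_iff.2 ⟨asIso χ, overId_of_lift hχ⟩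

/-- Restriction of an isomorphism class. -/
noncomputable def pullCls {U V : C} (f : V ⟶ U) : Classes 𝒳 U → Classes 𝒳 V :=
  Quot.lift (fun a => cls (exists_pull h f a).choose) fun a a' hr =>
    cls_eq_of_lifts h f (Quot.sound hr) _ _ (exists_pull h f a).choose_spec.choose_spec
      (exists_pull h f a').choose_spec.choose_spec

theorem pullCls_eq {U V : C} (f : V ⟶ U) {a : ObjOver 𝒳 U} {b : ObjOver 𝒳 V} (φ : b.1 ⟶ a.1)
    (hφ : 𝒳.p.IsHomLift f φ) : pullCls h f (cls a) = cls b :=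
  cls_eq_of_lifts h f rfl _ φ (exists_pull h f a).choose_spec.choose_spec hφ

/-- The presheaf of isomorphism classes. -/
noncomputable def classPsh : Cᵒᵖ ⥤ Type u₂ where
  obj U := Classes 𝒳 U.unop
  map f := ↾(pullCls h f.unop)
  map_id U := by
    ext q
    obtain ⟨a, rfl⟩ := Quot.mk_surjective q
    exact pullCls_eq h _ (a := a) (b := a) (𝟙 a.1) (IsHomLift.id a.2)
  map_comp {U V W} f g := by
    ext q
    obtain ⟨a, rfl⟩ := Quot.mk_surjective q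
    obtain ⟨b, φ, hφ⟩ := exists_pull h f.unop a
    obtain ⟨c, ψ, hψ⟩ := exists_pull h g.unop b
    show pullCls h (g.unop ≫ f.unop) (cls a) = pullCls h g.unop (pullCls h f.unop (cls a))
    rw [pullCls_eq h f.unop φ hφ, pullCls_eq h g.unop ψ hψ]
    exact pullCls_eq h _ (ψ ≫ φ) inferInstance

/-- The comparison functor. -/
noncomputable def toClassPsh : 𝒳 ⥤ᵇ Stk.ofPsh (classPsh h) where
  toFunctor :=
    { obj := fun x => ⟨𝒳.p.obj x, cls ⟨x, rfl⟩⟩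
      map := fun {x y} φ => ⟨𝒳.p.map φ,
        pullCls_eq h (𝒳.p.map φ) (a := ⟨y, rfl⟩) (b := ⟨x, rfl⟩) φ (IsHomLift.map 𝒳.p φ)⟩
      map_id := fun x => Stk.EltObj.hom_ext (𝒳.p.map_id x)
      map_comp := fun φ ψ => Stk.EltObj.hom_ext (𝒳.p.map_comp φ ψ) }
  w := rfl

theorem toClassPsh_isEquivOver (hs : FibCat.IsFibSetoid 𝒳.p) :
    FibCat.IsEquivOver (toClassPsh (h := h)) := by
  have : (toClassPsh (h := h)).toFunctor.Faithful := ⟨fun {x y φ ψ} e => by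
    have e' : 𝒳.p.map φ = 𝒳.p.map ψ :=
      congrArg (fun t : (toClassPsh (h := h)).obj x ⟶ (toClassPsh (h := h)).obj y => t.hom) e
    have : 𝒳.p.IsHomLift (𝒳.p.map φ) ψ := by rw [e']; infer_instance
    exact L09.Fib.setoid_ext hs (𝒳.p.map φ)⟩
  have : (toClassPsh (h := h)).toFunctor.Full := ⟨fun {x y} m => by
    obtain ⟨b, φ, hφ⟩ := exists_pull h m.hom ⟨y, rfl⟩
    obtain ⟨i, hi⟩ := cls_eq_iff.1 ((pullCls_eq h m.hom (a := ⟨y, rfl⟩) φ hφ).symm.trans m.map_sec)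
    refine ⟨i.inv ≫ φ, Stk.EltObj.hom_ext ?_⟩
    show 𝒳.p.map (i.inv ≫ φ) = m.hom
    have hi' : 𝒳.p.IsHomLift (𝟙 (𝒳.p.obj x)) i.inv := hi.inv
    have : 𝒳.p.IsHomLift m.hom (i.inv ≫ φ) := by
      have := IsHomLift.comp 𝒳.p (𝟙 (𝒳.p.obj x)) m.hom i.inv φ
      rwa [Category.id_comp] at this
    exact (IsHomLift.eq_of_isHomLift 𝒳.p m.hom (i.inv ≫ φ)).symm⟩
  refine isEquivOver_of_overId _ fun η => ?_
  obtain ⟨U, s⟩ := η
  obtain ⟨a, ha⟩ := Quot.mk_surjective s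
  obtain ⟨x, hx⟩ := a
  change 𝒳.p.obj x = U at hx
  subst hx
  subst ha
  exact ⟨x, Iso.refl _, overId_id _⟩

end Groth.L24.St
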