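import Groth.Agent.L24.St.Rep
import Groth.Prelude.Def_AlgSpRep

/-!
Representability of maps of presheaves by algebraic spaces, in both renderings.
-/

set_option autoImplicit false
set_option backward.isDefEq.respectTransparency false
set_option backward.isDefEq.respectTransparency.types false

universe v₃ u₃ v₂ u₂ u

open CategoryTheory CategoryTheory.Limits AlgebraicGeometry Opposite AlgSp

namespace Groth.L24.St

variable {S : Scheme.{u}} {F G : PSp S} {U : Over S} {Q : MorphismProperty (Sp S)}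

/-- The section of a presheaf given by a functor out of a slice. -/
def pointOf (y : FibCat.overCat U ⥤ᵇ Stk.ofPsh G) : (pyon S).obj U ⟶ G :=
  pshMapOf (F := (pyon S).obj U) (BasedFunctor.comp (AlgSt.toOverCat U) y)

/-- The functor out of a slice given by a section. -/
def funOf (ξ : (pyon S).obj U ⟶ G) : FibCat.overCat U ⥤ᵇ Stk.ofPsh G :=
  BasedFunctor.comp (AlgSt.ofOverCat U) (Stk.ofPshMap ξ)

theorem pointOf_funOf (ξ : (pyon S).obj U ⟶ G) : pointOf (funOf ξ) = ξ := pshMapOf_ofPshMap ξ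

/-- The comparison from the category of a pullback presheaf to the 2-fibre product. -/
def baseFp (a : F ⟶ G) (y : FibCat.overCat U ⥤ᵇ Stk.ofPsh G) {P : PSp S} {fst : P ⟶ F}
    {snd : P ⟶ (pyon S).obj U} (sq : IsPullback fst snd a (pointOf y)) :
    Stk.ofPsh P ⥤ᵇ FibCat.fp y (Stk.ofPshMap a) :=
  BasedFunctor.comp (pshFp sq.flip.w)
    (fpMap (AlgSt.toOverCat U) (BasedFunctor.id _)
      (isoOfPshMapOf (F := (pyon S).obj U) (BasedFunctor.comp (AlgSt.toOverCat U) y)) (Iso.refl _))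

theorem baseFp_isEquivOver (a : F ⟶ G) (y : FibCat.overCat U ⥤ᵇ Stk.ofPsh G) {P : PSp S} {fst : P ⟶ F}
    {snd : P ⟶ (pyon S).obj U} (sq : IsPullback fst snd a (pointOf y)) :
    FibCat.IsEquivOver (baseFp a y sq) :=
  isEquivOver_comp (pshFp_isEquivOver sq.flip)
    (fpMap_isEquivOver (toOverCat_isEquivOver U) (isEquivOver_id _) _ _)

theorem baseFp_spMap (a : F ⟶ G) (y : FibCat.overCat U ⥤ᵇ Stk.ofPsh G) {P : PSp S} {fst : P ⟶ F}
    {snd : P ⟶ (pyon S).obj U} (sq : IsPullback fst snd a (pointOf y)) (hP : Presheaf.IsSheaf (J S) P) :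
    AlgSt.spMapOfOver (F := (⟨P, hP⟩ : Sp S))
      (BasedFunctor.comp (baseFp a y sq) (FibCat.fpFst y (Stk.ofPshMap a))) =
      (ObjectProperty.homMk snd : (⟨P, hP⟩ : Sp S) ⟶ (yon S).obj U) := by
  have h1 := spMapOfOver_ofSpMap_comp (S := S)
    (ObjectProperty.homMk snd : (⟨P, hP⟩ : Sp S) ⟶ (yon S).obj U) (AlgSt.toOverCat U)
  rw [spMapOfOver_toOverCat, Category.comp_id] at h1
  exact h1

theorem isAlgSpaceP_of_repByAlgSp {P : PSp S} (h : AlgSt.RepByAlgSp (Stk.ofPsh P)) : IsAlgSpaceP P := by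
  obtain ⟨X, e, he⟩ := h
  have := isIso_pshMapOf he
  exact ((isAlgSpaceP_obj_iff _).2 X.property).of_iso (asIso (pshMapOf e))

theorem repByAlgSp_of_isAlgSpaceP {P : PSp S} (h : IsAlgSpaceP P) : AlgSt.RepByAlgSp (Stk.ofPsh P) := by
  obtain ⟨h, hP⟩ := h
  exact ⟨⟨⟨P, h⟩, hP⟩, BasedFunctor.id _, isEquivOver_id _⟩

theorem repBySp_iff (a : F ⟶ G) : RepBySp a ↔ AlgSt.RepByAlgSp1 (Stk.ofPshMap a) := by
  constructor
  · intro h U y
    have sq := IsPullback.of_hasPullback a (pointOf y)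
    exact (repByAlgSp_of_equiv (baseFp_isEquivOver a y sq)).1 (repByAlgSp_of_isAlgSpaceP (h _ _ _ sq))
  · intro h U ξ P fst snd sq
    rw [← pointOf_funOf ξ] at sq
    exact isAlgSpaceP_of_repByAlgSp ((repByAlgSp_of_equiv (baseFp_isEquivOver a _ sq)).2 (h U _))

theorem repBySpWith_iff [Q.RespectsIso] (a : F ⟶ G) :
    RepBySpWith Q a ↔ AlgSt.RepByAlgSpWith Q (Stk.ofPshMap a) := by
  constructor
  · intro h U y
    have sq := IsPullback.of_hasPullback a (pointOf y)
    obtain ⟨hP, hA, hQ⟩ := h _ _ _ sq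
    exact ⟨⟨⟨_, hP⟩, hA⟩, baseFp a y sq, baseFp_isEquivOver a y sq, by rwa [baseFp_spMap a y sq hP]⟩
  · intro h U ξ P fst snd sq
    rw [← pointOf_funOf ξ] at sq
    obtain ⟨hP, hA⟩ := isAlgSpaceP_of_repByAlgSp
      ((repByAlgSp_of_equiv (baseFp_isEquivOver a _ sq)).2 (repWith_rep1 h U _))
    refine ⟨hP, hA, ?_⟩
    rw [← baseFp_spMap a _ sq hP]
    exact Wit.prop_of_equiv (fun F F' _ _ i _ b hb => (Q.cancel_left_of_respectsIso i b).2 hb) (h U _) hA _
      (baseFp_isEquivOver a _ sq)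

end Groth.L24.St
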