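import Groth.Agent.L24.Boot.Slicing
import Groth.Agent.L24.Boot.EtaleCharts
import Groth.Agent.L24.St.PshRep
import Groth.Agent.L24.St.Classes
import Groth.Agent.L24.St.FpAlg
import Groth.Agent.L24.St.Fibrewise
import Groth.Agent.L24.St.InertiaSep

/-!
The bootstrap theorem for stacks: a stack in setoids with a smooth surjective atlas is an algebraic
space, and consequences for representability of morphisms.
-/

set_option autoImplicit false
set_option backward.isDefEq.respectTransparency false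
set_option backward.isDefEq.respectTransparency.types false

universe u

open CategoryTheory CategoryTheory.Limits AlgebraicGeometry Opposite AlgSt

noncomputable section

namespace Groth.L24.St

variable {S : Scheme.{u}}

section Space

open AlgSp

/-- A sheaf with a map from a scheme representable by spaces, smooth and surjective, is an algebraic space. -/
theorem isAlgSpace_of_repBySpWith_smooth {F : Sp S} {U : Over S} (p : (yon S).obj U ⟶ F)
    (hsm : RepBySpWith (LocP @Smooth) p.hom) (hs : RepBySpWith IsSurjectiveMor p.hom) : IsAlgSpace F := by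
  have h : RepBySpWith (LocP @Smooth ⊓ IsSurjectiveMor) p.hom := by
    rw [repBySpWith_hom_iff] at hsm hs ⊢
    exact fun V ξ F' fst snd sq => ⟨(hsm ξ fst snd sq).1, (hsm ξ fst snd sq).2, (hs ξ fst snd sq).2⟩
  have hc := Groth.L24.Boot.hasCharts_of_repBySpWith (P := @Smooth ⊓ @Surjective) (IsAlgSpace.yon_obj U) p h
    (𝟙 _) (repWith_id _ U) (repWith_id _ U) fun {A T G} r f a _ hre hrs hf hrf =>
      ⟨hf.1 r (𝟙 _) a hre (repWith_id _ T) (by rw [Category.comp_id, hrf]),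
        Groth.L24.Boot.surjective_of_points a (by
          rw [← hrf, show Points.map (r ≫ f) = Points.map f ∘ Points.map r from funext fun x => Points.map_comp r f x]
          exact hf.2.comp (Groth.L23.surjective_map_of_repWith hrs))⟩
  rw [Category.id_comp] at hc
  exact Groth.L24.Boot.isAlgSpace_of_smoothCharts hc

instance locP_respectsIso (P : MorphismProperty Scheme.{u}) :
    (LocP (S := S) P).RespectsIso :=
  MorphismProperty.RespectsIso.mk _
    (fun e f h => locP_precomp_iso P e.hom f h)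
    (fun {X Y Z} e f h U V a b k ha hb w =>
      h a (b ≫ e.inv) k ha ((MorphismProperty.cancel_right_of_respectsIso (RepWith @Etale) _ _).2 hb) (by
        rw [← Category.assoc, ← w, Category.assoc, Category.assoc, e.hom_inv_id, Category.comp_id]))

instance isSurjectiveMor_respectsIso : (IsSurjectiveMor (S := S)).RespectsIso := by
  have key : ∀ {X Y : Sp S} (e : X ⟶ Y) [IsIso e], Function.Surjective (Points.map e) := fun e _ =>
    Groth.L23.surjective_map_of_repWith (Groth.L23.repWith_of_isIso e)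
  have comp : ∀ {X Y Z : Sp S} (f : X ⟶ Y) (g : Y ⟶ Z), Points.map (f ≫ g) = Points.map g ∘ Points.map f :=
    fun f g => funext fun x => Points.map_comp f g x
  refine MorphismProperty.RespectsIso.mk _ (fun e f h => ?_) fun e f h => ?_
  · show Function.Surjective (Points.map (e.hom ≫ f))
    rw [comp]; exact Function.Surjective.comp h (key e.hom)
  · show Function.Surjective (Points.map (f ≫ e.hom))
    rw [comp]; exact (key e.hom).comp h

end Space

variable {𝒳 𝒴 : AlgSt.Cat S}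

/-- A stack in setoids with a smooth surjective atlas is representable by an algebraic space. -/
theorem repByAlgSp_of_setoid_atlas (hst : Stk.IsStack (AlgSp.J S) 𝒳) (hs : FibCat.IsFibSetoid 𝒳.p)
    (ha : HasAtlas (AlgSp.LocP @Smooth) 𝒳) : RepByAlgSp 𝒳 := by
  have h𝒳 := hst.1
  have hQ := toClassPsh_isEquivOver (h := h𝒳) hs
  let F : AlgSp.Sp S := ⟨classPsh h𝒳, (isSheaf_iff_isSheaf_of_type _ _).2
    ((isStack_ofPsh_iff _).1 ((L09.Fib.isStack_iff _ hQ).1 hst))⟩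
  obtain ⟨U, x, hsm, hsu⟩ := hasAtlas_of_equiv hQ ha
  let Φ : ofSp ((AlgSp.yon S).obj U) ⥤ᵇ ofSp F := BasedFunctor.comp (toOverCat U) x
  let p : (AlgSp.yon S).obj U ⟶ F := spMap Φ
  have h1 : RepByAlgSpWith (AlgSp.LocP @Smooth) (ofSpMap p) :=
    (repWith_congr (isoOfSpMap Φ)).1 ((repWith_precomp (toOverCat_isEquivOver U) x).2 hsm)
  have h2 : RepByAlgSpWith AlgSp.IsSurjectiveMor (ofSpMap p) :=
    (repWith_congr (isoOfSpMap Φ)).1 ((repWith_precomp (toOverCat_isEquivOver U) x).2 hsu)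
  exact (repByAlgSp_of_equiv hQ).2
    ⟨⟨F, isAlgSpace_of_repBySpWith_smooth p ((repBySpWith_iff p.hom).2 h1) ((repBySpWith_iff p.hom).2 h2)⟩,
      BasedFunctor.id _, isEquivOver_id _⟩

theorem repByAlgSp_of_isFibSetoid (h𝒳 : IsAlgStack Scheme.fppfPrecoverage 𝒳) (hs : FibCat.IsFibSetoid 𝒳.p) :
    RepByAlgSp 𝒳 :=
  repByAlgSp_of_setoid_atlas h𝒳.isStack hs h𝒳.atlas

/-- The kernel of `Aut x ⟶ Aut (f x)` is trivial for every `x`. -/
def TrivialKernel (f : 𝒳 ⥤ᵇ 𝒴) : Prop :=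
  ∀ (a : 𝒳.obj) (φ : a ⟶ a), 𝒳.p.map φ = 𝟙 (𝒳.p.obj a) → f.map φ = 𝟙 (f.obj a) → φ = 𝟙 a

theorem trivialKernel_of_faithful (f : 𝒳 ⥤ᵇ 𝒴) [f.toFunctor.Faithful] : TrivialKernel f :=
  fun a φ _ h => f.toFunctor.map_injective (h.trans (f.toFunctor.map_id a).symm)

theorem faithful_of_trivialKernel (h𝒳 : FibCat.IsFibGrpd 𝒳.p) (h𝒴 : FibCat.IsFibGrpd 𝒴.p) (f : 𝒳 ⥤ᵇ 𝒴)
    (h : TrivialKernel f) : f.toFunctor.Faithful := by
  refine ⟨fun {a b φ ψ} hφ => ?_⟩
  have hp : 𝒳.p.map φ = 𝒳.p.map ψ := by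
    have h1 := Functor.congr_hom f.w φ
    have h2 := Functor.congr_hom f.w ψ
    simp only [Functor.comp_map] at h1 h2
    rw [hφ] at h1
    rw [h1] at h2
    exact (cancel_mono _).1 ((cancel_epi _).1 h2)
  have := h𝒳.isStronglyCartesian φ
  have hl : 𝒳.p.IsHomLift (𝟙 (𝒳.p.obj a) ≫ 𝒳.p.map φ) ψ := by
    rw [Category.id_comp, hp]; infer_instance
  obtain ⟨χ, ⟨hχ, hc⟩, -⟩ := Functor.IsStronglyCartesian.universal_property 𝒳.p (𝒳.p.map φ) φ
    (𝟙 (𝒳.p.obj a)) (𝟙 (𝒳.p.obj a) ≫ 𝒳.p.map φ) rfl ψ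
  have := h𝒴.isStronglyCartesian (f.map φ)
  have hfχ : f.map χ = 𝟙 _ := by
    have h1 : OverId (f.map χ) := (overId_of_lift hχ).map f
    have : 𝒴.p.IsHomLift (𝟙 (𝒴.p.obj (f.obj a))) (f.map χ) := h1
    have : 𝒴.p.IsHomLift (𝟙 (𝒴.p.obj (f.obj a))) (𝟙 (f.obj a)) := overId_id _
    refine Functor.IsStronglyCartesian.ext 𝒴.p (𝒴.p.map (f.map φ)) (f.map φ) (𝟙 (𝒴.p.obj (f.obj a))) ?_
    rw [Category.id_comp, ← f.toFunctor.map_comp, hc, hφ]
  have hχ1 : 𝒳.p.map χ = 𝟙 _ := by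
    have := IsHomLift.eq_of_isHomLift 𝒳.p (𝟙 (𝒳.p.obj a)) χ
    exact this.symm
  rw [← hc, h a χ hχ1 hfχ, Category.id_comp]

theorem isFibSetoid_of_trivialKernel (h𝒳 : FibCat.IsFibGrpd 𝒳.p)
    (h : TrivialKernel (FibCat.toSelf 𝒳)) : FibCat.IsFibSetoid 𝒳.p := by
  have := faithful_of_trivialKernel h𝒳 (isAlgStack_selfOver (S := S)).isStack.1 (FibCat.toSelf 𝒳) h
  refine ⟨h𝒳, fun U a b => ⟨fun φ ψ => Functor.Fiber.hom_ext ((FibCat.toSelf 𝒳).toFunctor.map_injective ?_)⟩⟩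
  show 𝒳.p.map φ.1 = 𝒳.p.map ψ.1
  have := φ.2
  have := ψ.2
  have h1 := IsHomLift.fac' 𝒳.p (𝟙 U) φ.1
  have h2 := IsHomLift.fac' 𝒳.p (𝟙 U) ψ.1
  exact h1.trans h2.symm

theorem trivialKernel_toSelf_of_isFibSetoid (hs : FibCat.IsFibSetoid 𝒳.p) :
    TrivialKernel (FibCat.toSelf 𝒳) := fun a φ hφ _ => by
  have : 𝒳.p.IsHomLift (𝟙 (𝒳.p.obj a)) φ := by rw [← hφ]; infer_instance
  have : 𝒳.p.IsHomLift (𝟙 (𝒳.p.obj a)) (𝟙 a) := overId_id a
  exact L09.Fib.setoid_ext hs (𝟙 (𝒳.p.obj a))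

/-- A faithful morphism of algebraic stacks is representable by algebraic spaces. -/
theorem rep1_of_faithful (h𝒳 : IsAlgStack Scheme.fppfPrecoverage 𝒳) (h𝒴 : IsAlgStack Scheme.fppfPrecoverage 𝒴)
    (f : 𝒳 ⥤ᵇ 𝒴) [f.toFunctor.Faithful] : RepByAlgSp1 f := by
  intro U y
  refine repByAlgSp_of_isFibSetoid (isAlgStack_fp (isAlgStack_overCat U) h𝒳 h𝒴 y f) ?_
  have hU : FibCat.IsFibSetoid (FibCat.overCat U).p := isFibSetoid_of_repByAlgSp (overCat_repByAlgSp U)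
  refine ⟨L09.Fib.fp_isFibGrpd hU.1 h𝒳.isStack.1 h𝒴.isStack.1, fun V a b => ⟨fun φ ψ => Functor.Fiber.hom_ext ?_⟩⟩
  have h1 : φ.1.hom.fst = ψ.1.hom.fst := by
    have := (L09.Fib.fp_isHomLift_iff _ _).1 φ.2
    have := (L09.Fib.fp_isHomLift_iff _ _).1 ψ.2
    exact L09.Fib.setoid_ext hU (𝟙 V)
  refine fp_ext h1 (f.toFunctor.map_injective ?_)
  have e1 := φ.1.hom.w
  have e2 := ψ.1.hom.w
  rw [h1] at e1
  exact (cancel_epi a.1.obj.iso.hom).1 (e1.symm.trans e2)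

theorem rep1_iff_trivialKernel (h𝒳 : IsAlgStack Scheme.fppfPrecoverage 𝒳)
    (h𝒴 : IsAlgStack Scheme.fppfPrecoverage 𝒴) (f : 𝒳 ⥤ᵇ 𝒴) : RepByAlgSp1 f ↔ TrivialKernel f := by
  refine ⟨fun h => ?_, fun h => ?_⟩
  · have := faithful_of_rep1 h𝒳.isStack.1 h𝒴.isStack.1 f h
    exact trivialKernel_of_faithful f
  · have := faithful_of_trivialKernel h𝒳.isStack.1 h𝒴.isStack.1 f h
    exact rep1_of_faithful h𝒳 h𝒴 f

theorem trivialKernel_iff_inertia (h𝒳 : FibCat.IsFibGrpd 𝒳.p) (h𝒴 : FibCat.IsFibGrpd 𝒴.p) (f : 𝒳 ⥤ᵇ 𝒴) :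
    TrivialKernel f ↔ FibCat.IsEquivOver (FibCat.inertiaToBase f) := by
  constructor
  · intro h
    have hz : ∀ z : (FibCat.inertia f).obj, z.aut.hom = 𝟙 z.pt := fun z => by
      have := inertia_aut_lift f z
      exact h _ _ ((IsHomLift.eq_of_isHomLift 𝒳.p (𝟙 (𝒳.p.obj z.pt)) z.aut.hom).symm) z.map_aut
    have : (FibCat.inertiaToBase f).toFunctor.Faithful := ⟨fun h => FibCat.InertiaObj.hom_ext h⟩
    have : (FibCat.inertiaToBase f).toFunctor.Full := ⟨fun {z w} m => ⟨⟨m, by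
      rw [hz z, hz w]; exact (Category.id_comp _).trans (Category.comp_id _).symm⟩, rfl⟩⟩
    exact isEquivOver_of_overId _ fun x => ⟨(FibCat.inertiaNeutral f).obj x, Iso.refl _, overId_id _⟩
  · intro h a φ hp hf
    obtain ⟨hfull, -⟩ := eqv_fullFaithful h
    have : 𝒳.p.IsHomLift (𝟙 (𝒳.p.obj a)) φ := by rw [← hp]; infer_instance
    have : IsIso φ := L09.Fib.isIso_of_isFibGrpd _ h𝒳 (𝟙 (𝒳.p.obj a)) φ
    let z : (FibCat.inertia f).obj := ⟨a, asIso φ, hf⟩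
    let w : (FibCat.inertia f).obj := ⟨a, Iso.refl a, f.toFunctor.map_id a⟩
    obtain ⟨m, hm⟩ := (FibCat.inertiaToBase f).toFunctor.map_surjective (X := z) (Y := w) (𝟙 a)
    have hm' : m.hom = 𝟙 a := hm
    have := m.comm
    rw [hm'] at this
    exact (Category.comp_id _).symm.trans (this.trans (Category.id_comp _))

theorem diag_full_iff_trivialKernel (h𝒳 : FibCat.IsFibGrpd 𝒳.p) (h𝒴 : FibCat.IsFibGrpd 𝒴.p) (f : 𝒳 ⥤ᵇ 𝒴) :
    (FibCat.diag f).toFunctor.Full ↔ TrivialKernel f := by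
  constructor
  · intro hfull a φ hp hf
    let m : (FibCat.diag f).obj a ⟶ (FibCat.diag f).obj a := fpHom φ (𝟙 a)
      (show f.map φ ≫ 𝟙 _ = 𝟙 _ ≫ f.map (𝟙 a) by rw [hf]; simp)
    obtain ⟨u, hu⟩ := (FibCat.diag f).toFunctor.map_surjective m
    have h1 : u = φ := congrArg (fun t : (FibCat.diag f).obj a ⟶ (FibCat.diag f).obj a => t.hom.fst) hu
    have h2 : u = 𝟙 a := congrArg (fun t : (FibCat.diag f).obj a ⟶ (FibCat.diag f).obj a => t.hom.snd) hu
    exact h1.symm.trans h2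
  · intro h
    have := faithful_of_trivialKernel h𝒳 h𝒴 f h
    refine ⟨fun {a b} m => ⟨m.hom.fst, fp_ext rfl (f.toFunctor.map_injective ?_)⟩⟩
    have := m.hom.w
    exact (Category.comp_id _).symm.trans (this.trans (Category.id_comp _))

theorem trivialKernel_iff_diag_diag (h𝒳 : FibCat.IsFibGrpd 𝒳.p) (h𝒴 : FibCat.IsFibGrpd 𝒴.p) (f : 𝒳 ⥤ᵇ 𝒴) :
    TrivialKernel f ↔ FibCat.IsEquivOver (FibCat.diag (FibCat.diag f)) := by
  constructor
  · intro h
    have := (diag_full_iff_trivialKernel h𝒳 h𝒴 f).2 h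
    have : (FibCat.diag f).toFunctor.Faithful := ⟨fun h => congrArg (fun t => t.hom.fst) h⟩
    exact diag_isEquivOver_of_fullFaithful (FibCat.diag f)
  · intro h a φ hp hf
    have : 𝒳.p.IsHomLift (𝟙 (𝒳.p.obj a)) φ := by rw [← hp]; infer_instance
    have : IsIso φ := L09.Fib.isIso_of_isFibGrpd _ h𝒳 (𝟙 (𝒳.p.obj a)) φ
    let z : (FibCat.inertia f).obj := ⟨a, asIso φ, hf⟩
    obtain ⟨x, i, -⟩ := eqv_exists_overId h ((inertiaE f).obj z)
    have h1 : i.hom.hom.fst ≫ φ = 𝟙 _ ≫ i.hom.hom.snd := congrArg (fun t => t.hom.fst) i.hom.hom.w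
    have h2 : i.hom.hom.fst ≫ 𝟙 _ = 𝟙 _ ≫ i.hom.hom.snd := congrArg (fun t => t.hom.snd) i.hom.hom.w
    have : IsIso i.hom.hom.fst :=
      ⟨i.inv.hom.fst, congrArg (fun t => t.hom.fst) i.hom_inv_id, congrArg (fun t => t.hom.fst) i.inv_hom_id⟩
    exact (cancel_epi i.hom.hom.fst).1 (h1.trans h2.symm)

end Groth.L24.St
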