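import Groth.Agent.L24.St.ChartTop
import Groth.Agent.L23.Compact

/-!
The points of the category of an algebraic space are the points of the space; charts precomposed with etale maps.
-/

set_option autoImplicit false
set_option backward.isDefEq.respectTransparency false
set_option backward.isDefEq.respectTransparency.types false

universe v₃ u₃ v₂ u₂ u

open CategoryTheory CategoryTheory.Limits AlgebraicGeometry Opposite AlgSt Topology

noncomputable section

namespace Groth.L24.St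

variable {S : Scheme.{u}}

/-- The points of a sheaf to the points of its category. -/
def ptMap (F : AlgSp.Sp S) : AlgSp.Points F → Points (ofSp F) :=
  Quotient.lift (fun q => Points.mk (toFPt q)) fun _ _ h => Points.sound (rel_toFPt h)

@[simp] theorem ptMap_mk {F : AlgSp.Sp S} (q : AlgSp.FieldPt F) :
    ptMap F (AlgSp.Points.mk q) = Points.mk (toFPt q) := rfl

theorem rel_of_rel_toFPt {F : AlgSp.Sp S} {p q : AlgSp.FieldPt F} (h : FPt.Rel (toFPt p) (toFPt q)) :
    AlgSp.FieldPt.Rel p q := by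
  obtain ⟨r, α, β, -⟩ := h
  have key : ∀ {x : AlgSp.FieldPt F} (m : r.obj ⟶ (toFPt x).obj),
      F.obj.map (eqToHom (show Over.mk r.str = r.obj.base from r.lies.symm) ≫ m.hom).op x.val =
        F.obj.map (eqToHom (show Over.mk r.str = r.obj.base from r.lies.symm)).op r.obj.sec := by
    intro x m
    rw [op_comp, Functor.map_comp_apply]
    exact congrArg _ m.map_sec
  exact ⟨r.K, r.field, r.str, eqToHom (show Over.mk r.str = r.obj.base from r.lies.symm) ≫ α.hom,
    eqToHom (show Over.mk r.str = r.obj.base from r.lies.symm) ≫ β.hom, (key α).trans (key β).symm⟩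

theorem ptMap_bijective (F : AlgSp.Sp S) : Function.Bijective (ptMap F) := by
  refine ⟨fun x y h => ?_, fun y => ?_⟩
  · obtain ⟨p, rfl⟩ := AlgSp.Points.mk_surjective x
    obtain ⟨q, rfl⟩ := AlgSp.Points.mk_surjective y
    exact AlgSp.Points.sound (rel_of_rel_toFPt ((mk_eq_mk_iff (ofSp_isFibGrpd F)).1 h))
  · obtain ⟨q, rfl⟩ := exists_toFPt y
    exact ⟨AlgSp.Points.mk q, rfl⟩

theorem ptMap_map {F G : AlgSp.Sp S} (a : F ⟶ G) (x : AlgSp.Points F) :
    Points.map (ofSpMap a) (ptMap F x) = ptMap G (AlgSp.Points.map a x) := by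
  obtain ⟨q, rfl⟩ := AlgSp.Points.mk_surjective x
  rfl

/-- A chart of the category of a sheaf given by a map from a scheme. -/
abbrev spChart {F : AlgSp.Sp S} {T : Over S} (g : (AlgSp.yon S).obj T ⟶ F) : FibCat.overCat T ⥤ᵇ ofSp F :=
  BasedFunctor.comp (ofOverCat T) (ofSpMap g)

theorem ptMap_ofPt {F : AlgSp.Sp S} {T : Over S} (g : (AlgSp.yon S).obj T ⟶ F) (t : ↥T.left) :
    ptMap F (AlgSp.Points.ofPt g t) = Points.ofChart (spChart g) t := rfl

theorem exists_spChart_iso {F : AlgSp.Sp S} {T : Over S} (x : FibCat.overCat T ⥤ᵇ ofSp F) :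
    ∃ g : (AlgSp.yon S).obj T ⟶ F, Nonempty (x ≅ spChart g) :=
  ⟨spMap (BasedFunctor.comp (toOverCat T) x),
    ⟨whiskerL (ofOverCat T) (isoOfSpMap (BasedFunctor.comp (toOverCat T) x))⟩⟩

theorem ptMap_isHomeomorph (F : AlgSp.Space S) : IsHomeomorph (ptMap F.obj) := by
  have hF := isAlgStack_of_repByAlgSp (𝒳 := ofSp F.obj) ⟨F, _, isEquivOver_id _⟩
  refine ⟨⟨fun O hO => AlgSp.Points.isOpen_iff.2 fun T g => ?_⟩, fun O hO T x _ => ?_, ptMap_bijective _⟩
  · exact (continuous_ofChart hF (spChart g)).isOpen_preimage O hO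
  · obtain ⟨g, ⟨i⟩⟩ := exists_spChart_iso x
    rw [ofChart_congr i]
    have : Points.ofChart (spChart g) ⁻¹' (ptMap F.obj '' O) = AlgSp.Points.ofPt g ⁻¹' O := by
      ext t
      rw [Set.mem_preimage, Set.mem_preimage, ← ptMap_ofPt]
      exact (ptMap_bijective F.obj).injective.mem_set_image
    rw [this]
    exact AlgSp.Points.isOpen_iff.1 hO T g

theorem isHomeomorph_map_of_isEquivOver {𝒳 : BasedCategory.{v₂, u₂} (Over S)} {𝒴 : BasedCategory.{v₃, u₃} (Over S)}
    {Θ : 𝒳 ⥤ᵇ 𝒴} (hΘ : FibCat.IsEquivOver Θ) : IsHomeomorph (Points.map Θ) := by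
  refine ⟨⟨fun O hO U x hx => hO U (BasedFunctor.comp x Θ) ((repWith_postcomp hΘ x).2 hx)⟩, fun O hO => ?_,
    bijective_map_of_isEquivOver hΘ⟩
  obtain ⟨c, hc, ⟨a⟩, ⟨b⟩⟩ := exists_inverse hΘ
  have h1 : Points.map Θ '' O = Points.map c ⁻¹' O := by
    refine congrFun (Set.image_eq_preimage_of_inverse (fun x => ?_) (fun y => ?_)) O
    · rw [← map_comp_apply, map_congr a, map_id_apply]
    · rw [← map_comp_apply, map_congr b, map_id_apply]
  rw [h1]
  exact fun U x hx => hO U (BasedFunctor.comp x c) ((repWith_postcomp hc x).2 hx)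

/-- Precomposition with a map of schemes or spaces having a stronger property keeps a property. -/
theorem repWith_precomp_repWith {𝒳 𝒴 𝒵 : AlgSt.Cat S} {P : MorphismProperty (AlgSp.Sp S)}
    {R : MorphismProperty Scheme.{u}} [R.IsStableUnderBaseChange]
    (hP : ∀ ⦃V G H : AlgSp.Sp S⦄ (a : V ⟶ G) (b : G ⟶ H), AlgSp.RepWith R a → P b → P (a ≫ b))
    (h𝒳 : FibCat.IsFibGrpd 𝒳.p) (h𝒴 : FibCat.IsFibGrpd 𝒴.p) {f : 𝒳 ⥤ᵇ 𝒴} {g : 𝒴 ⥤ᵇ 𝒵}
    (hf : RepByAlgSpWith (AlgSp.RepWith R) f) (hg : RepByAlgSpWith P g) :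
    RepByAlgSpWith P (BasedFunctor.comp f g) := by
  intro U y
  obtain ⟨G, e, he, hb⟩ := hg U y
  obtain ⟨V, a, e', hV, he', ⟨i⟩, ha⟩ :=
    exists_space h𝒳 h𝒴 hf G.property (BasedFunctor.comp e (FibCat.fpSnd y g))
  have ha' : AlgSp.RepWith R a :=
    descends_repWith R a hV G.property (prop_snd_of_repWith (pBase_repWith R) hV G.property a ha)
  let Θ : FibCat.fp (BasedFunctor.comp e (FibCat.fpSnd y g)) f ⥤ᵇ FibCat.fp (FibCat.fpSnd y g) f :=
    fpMap e (BasedFunctor.id _) (Iso.refl _) (Iso.refl _)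
  refine ⟨⟨V, hV⟩, BasedFunctor.comp e' (BasedFunctor.comp Θ (fpComp y f g)),
    isEquivOver_comp he' (isEquivOver_comp (fpMap_isEquivOver he (isEquivOver_id _) _ _)
      (fpComp_isEquivOver y f g)), ?_⟩
  have key : AlgSt.spMapOfOver (BasedFunctor.comp (BasedFunctor.comp e' (BasedFunctor.comp Θ (fpComp y f g)))
      (FibCat.fpFst y (BasedFunctor.comp f g))) =
      a ≫ AlgSt.spMapOfOver (BasedFunctor.comp e (FibCat.fpFst y g)) := by
    rw [← spMapOfOver_ofSpMap_comp]
    exact spMapOfOver_congr (whiskerR i (BasedFunctor.comp e (FibCat.fpFst y g)))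
  rw [key]
  exact hP a _ ha' hb

theorem repWith_spChart {F : AlgSp.Sp S} (hF : AlgSp.IsAlgSpace F) {T : Over S}
    {g : (AlgSp.yon S).obj T ⟶ F} {R : MorphismProperty Scheme.{u}} [R.IsStableUnderBaseChange]
    (hg : AlgSp.RepWith R g) : RepByAlgSpWith (AlgSp.RepWith R) (spChart g) := etale_atlas_repWith hF hg

theorem repWith_overMap {U V : Over S} {j : U ⟶ V} {R : MorphismProperty Scheme.{u}}
    [R.IsStableUnderBaseChange] (hj : R j.left) : RepByAlgSpWith (AlgSp.RepWith R) (overMap j) := by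
  refine (repWith_postcomp (ofOverCat_isEquivOver V) _).1 ?_
  rw [ofOverCat_overMap]
  exact repWith_spChart (AlgSp.IsAlgSpace.yon_obj V) ((AlgSp.repWith_yon_map_iff R j).2 hj)

theorem smooth_overMap_comp {𝒳 : AlgSt.Cat S} {U V : Over S} (j : U ⟶ V) [Etale j.left]
    {y : FibCat.overCat V ⥤ᵇ 𝒳} (hy : RepByAlgSpWith (AlgSp.LocP @Smooth) y) :
    RepByAlgSpWith (AlgSp.LocP @Smooth) (BasedFunctor.comp (overMap j) y) :=
  repWith_precomp_repWith (R := @Etale) (fun _ _ _ _ b ha hb => locP_precomp_etale _ ha b hb)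
    (overCat_isFibGrpd U) (overCat_isFibGrpd V) (repWith_overMap (R := @Etale) ‹_›) hy

theorem smooth_spChart_comp {𝒳 : AlgSt.Cat S} {F : AlgSp.Space S} {T : Over S}
    {g : (AlgSp.yon S).obj T ⟶ F.obj} (hg : AlgSp.RepWith @Etale g)
    {y : ofSp F.obj ⥤ᵇ 𝒳} (hy : RepByAlgSpWith (AlgSp.LocP @Smooth) y) :
    RepByAlgSpWith (AlgSp.LocP @Smooth) (BasedFunctor.comp (spChart g) y) :=
  repWith_precomp_repWith (R := @Etale) (fun _ _ _ _ b ha hb => locP_precomp_etale _ ha b hb)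
    (overCat_isFibGrpd T) (ofSp_isFibGrpd F.obj) (repWith_spChart F.property hg) hy

end Groth.L24.St
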