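import Groth.Agent.L24.St.PointsSp
import Mathlib.AlgebraicGeometry.Limits

/-!
Quasi-compact algebraic stacks have compact spaces of points and conversely.
-/

set_option autoImplicit false
set_option backward.isDefEq.respectTransparency false
set_option backward.isDefEq.respectTransparency.types false

universe u

open CategoryTheory CategoryTheory.Limits AlgebraicGeometry Opposite AlgSt Topology

noncomputable section

namespace Groth.L24.St

variable {S : Scheme.{u}} {𝒳 : AlgSt.Cat S}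

theorem exists_smooth_affine_chart (h𝒳 : FibCat.IsFibGrpd 𝒳.p)
    {ι : Type u} [Finite ι] {V : Over S} {y : FibCat.overCat V ⥤ᵇ 𝒳}
    (hy : RepByAlgSpWith (AlgSp.LocP @Smooth) y) (O : ι → V.left.Opens) (hO : ∀ i, IsAffineOpen (O i))
    (hcov : ∀ p, ∃ i, p ∈ Points.ofChart y '' (O i : Set ↥V.left)) : IsQuasiCompact 𝒳 := by
  have : ∀ i, IsAffine ((O i).toScheme) := hO
  let d : (∐ fun i => (O i).toScheme) ⟶ V.left := Sigma.desc fun i => (O i).ι
  let U : Over S := Over.mk (d ≫ V.hom)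
  let j : U ⟶ V := Over.homMk d rfl
  have hd : Etale d := IsZariskiLocalAtSource.sigmaDesc fun i => inferInstance
  have : Etale j.left := hd
  refine ⟨U, BasedFunctor.comp (overMap j) y, inferInstanceAs (IsAffine (∐ fun i => (O i).toScheme)),
    smooth_overMap_comp j hy, ?_⟩
  refine repWith_surjective_of_isSurjective (overCat_isFibGrpd U) h𝒳
    (repWith_rep1 (smooth_overMap_comp j hy)) ((isSurjective_iff_ofChart _).2 fun p => ?_)
  obtain ⟨i, t, ht, rfl⟩ := hcov p
  refine ⟨(Sigma.ι (fun i => (O i).toScheme) i) (⟨t, ht⟩ : (O i).toScheme), ?_⟩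
  rw [ofChart_overMap_comp]
  congr 1
  change (Sigma.ι (fun i => (O i).toScheme) i ≫ d) (⟨t, ht⟩ : (O i).toScheme) = t
  rw [Sigma.ι_desc]
  rfl

theorem isQuasiCompact_of_compactSpace (h𝒳 : IsAlgStack Scheme.fppfPrecoverage 𝒳)
    [CompactSpace (Points 𝒳)] : IsQuasiCompact 𝒳 := by
  obtain ⟨V, y, hy, hys⟩ := h𝒳.atlas
  have hsurj := surjective_ofChart_of_repWith h𝒳.isStack.1 hys
  let A := V.left.affineOpens
  have hopen : ∀ O : A, IsOpen (Points.ofChart y '' (O.1 : Set ↥V.left)) := fun O =>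
    isOpenMap_ofChart isOpenMap_of_smooth h𝒳.isStack.1 hy _ O.1.2
  obtain ⟨s, hs⟩ := isCompact_univ.elim_finite_subcover _ hopen (fun p _ => by
    obtain ⟨t, rfl⟩ := hsurj p
    obtain ⟨O, hO, ht, -⟩ := V.left.isBasis_affineOpens.exists_subset_of_mem_open
      (Set.mem_univ t) isOpen_univ
    obtain ⟨O', hO', rfl⟩ := hO
    exact Set.mem_iUnion.2 ⟨⟨O', hO'⟩, t, ht, rfl⟩)
  refine exists_smooth_affine_chart h𝒳.isStack.1 (ι := s) hy (fun i => i.1.1) (fun i => i.1.2) fun p => ?_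
  obtain ⟨O, hO, hp⟩ := Set.mem_iUnion₂.1 (hs (Set.mem_univ p))
  exact ⟨⟨O, hO⟩, hp⟩

theorem isQuasiCompact_iff_compactSpace (h𝒳 : IsAlgStack Scheme.fppfPrecoverage 𝒳) :
    IsQuasiCompact 𝒳 ↔ CompactSpace (Points 𝒳) :=
  ⟨compactSpace_of_isQuasiCompact h𝒳, fun _ => isQuasiCompact_of_compactSpace h𝒳⟩

theorem isQuasiCompact_of_surjective {W : Type*} [TopologicalSpace W] [CompactSpace W]
    (h𝒳 : IsAlgStack Scheme.fppfPrecoverage 𝒳) {π : W → Points 𝒳} (hπ : Continuous π)
    (hs : Function.Surjective π) : IsQuasiCompact 𝒳 := by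
  have : CompactSpace (Points 𝒳) := ⟨by rw [← hs.range_eq]; exact isCompact_range hπ⟩
  exact isQuasiCompact_of_compactSpace h𝒳

end Groth.L24.St
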