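import Groth.Agent.L24.St.DiagLft
import Groth.Agent.L24.St.PointsSp
import Mathlib.AlgebraicGeometry.AlgClosed.Basic
import Mathlib.FieldTheory.IsAlgClosed.AlgebraicClosure

/-!
Surjectivity of the diagonal, read on objects over algebraically closed fields.
-/

set_option autoImplicit false
set_option backward.isDefEq.respectTransparency false
set_option backward.isDefEq.respectTransparency.types false

universe u

open CategoryTheory CategoryTheory.Limits AlgebraicGeometry Opposite AlgSt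

noncomputable section

namespace Groth.L24.St

variable {S : Scheme.{u}} {𝒳 𝒴 : AlgSt.Cat S}

/-- A nonempty space locally of finite type over an algebraically closed field has a rational
point, through a chart. -/
theorem exists_chart_section {k : Type u} [Field k] [IsAlgClosed k] (s : Spec (CommRingCat.of k) ⟶ S)
    {F : AlgSp.Space S} (a : F.obj ⟶ (AlgSp.yon S).obj (Over.mk s))
    (ha : AlgSp.LocP @LocallyOfFiniteType a) (hne : Nonempty (AlgSp.Points F.obj)) :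
    ∃ (W : Over S) (p : (AlgSp.yon S).obj W ⟶ F.obj) (r : Over.mk s ⟶ W),
      (AlgSp.yon S).map r ≫ p ≫ a = 𝟙 _ := by
  obtain ⟨W, p, hp, hps⟩ := F.property.atlas
  obtain ⟨h, hh⟩ := (AlgSp.yon S).map_surjective (p ≫ a)
  let U : Over S := Over.mk s
  have hW : LocallyOfFiniteType h.left :=
    ha p (𝟙 ((AlgSp.yon S).obj U)) h hp (AlgSp.repWith_id _ U) (by rw [Category.comp_id, hh])
  let hl : W.left ⟶ Spec (CommRingCat.of k) := h.left
  haveI : LocallyOfFiniteType hl := hW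
  haveI : JacobsonSpace W.left := LocallyOfFiniteType.jacobsonSpace hl
  obtain ⟨x⟩ := hne
  obtain ⟨t, -⟩ := Groth.L23.surjective_ofPt hps x
  obtain ⟨w, -, hw⟩ := nonempty_inter_closedPoints (X := W.left) (Z := Set.univ)
    ⟨t, trivial⟩ isOpen_univ.isLocallyClosed
  let r : U ⟶ W := Over.homMk (pointOfClosedPoint hl w hw) (by
    rw [← Over.w h]
    exact ((Category.assoc _ _ _).symm.trans (congrArg (· ≫ U.hom) (pointOfClosedPoint_comp hl w hw))).trans
      (Category.id_comp _))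
  refine ⟨W, p, r, ?_⟩
  rw [← hh, ← Functor.map_comp, ← CategoryTheory.Functor.map_id]
  exact congrArg _ (Over.OverMorphism.ext (pointOfClosedPoint_comp hl w hw))

/-- If the diagonal is surjective, isomorphisms of images of objects over an algebraically closed
field lift. -/
theorem exists_lift_hom_of_isSurjective_diag (h𝒳 : IsAlgStack Scheme.fppfPrecoverage 𝒳)
    (h𝒴 : IsAlgStack Scheme.fppfPrecoverage 𝒴) {f : 𝒳 ⥤ᵇ 𝒴} (hΔ : IsSurjective (FibCat.diag f))
    {k : Type u} [Field k] [IsAlgClosed k] (s : Spec (CommRingCat.of k) ⟶ S) {a₁ a₂ : 𝒳.obj}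
    (h₁ : 𝒳.p.obj a₁ = Over.mk s) (β : f.obj a₁ ⟶ f.obj a₂) (hβ : 𝒴.p.IsHomLift (𝟙 (Over.mk s)) β) :
    ∃ α : a₁ ⟶ a₂, 𝒳.p.IsHomLift (𝟙 (Over.mk s)) α ∧ f.map α = β := by
  let U : Over S := Over.mk s
  have := hβ
  have := L09.Fib.isIso_of_isFibGrpd _ h𝒴.isStack.1 (𝟙 (Over.mk s)) β
  let ξ : (FibCat.fp f f).obj := fpObj a₁ a₂ (asIso β) (overId_of_lift hβ)
  have hfp := L09.Fib.fp_isFibGrpd h𝒳.isStack.1 h𝒳.isStack.1 h𝒴.isStack.1 (F := f) (G := f)
  obtain ⟨y, φ, hφ⟩ := exists_overCat_functor (U := U) hfp ξ h₁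
  obtain ⟨F, e, he, ha⟩ := diag_lft h𝒳 h𝒴 f U y
  let q : FPt (FibCat.overCat U) := { K := k, str := s, obj := idObj U, lies := rfl }
  obtain ⟨x, hx⟩ := hΔ (Points.map y (Points.mk q))
  obtain ⟨z, -, -⟩ := exists_points_fp h𝒳.isStack.1 hfp (overCat_isFibGrpd U) (FibCat.diag f) y
    (Points.mk q) x hx.symm
  obtain ⟨z', -⟩ := (bijective_map_of_isEquivOver he).surjective z
  obtain ⟨z'', -⟩ := (ptMap_bijective F.obj).surjective z'
  obtain ⟨W, p, r, hr⟩ := exists_chart_section s _ ha ⟨z''⟩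
  let G : FibCat.overCat U ⥤ᵇ FibCat.fp y (FibCat.diag f) :=
    BasedFunctor.comp (BasedFunctor.comp (overMap r) (spChart p)) e
  obtain ⟨ψ, ⟨iψ⟩, hψ⟩ := exists_overMap_iso (BasedFunctor.comp G (FibCat.fpFst y (FibCat.diag f)))
  have hψ1 : ψ = 𝟙 U := by
    apply (AlgSp.yon S).map_injective
    rw [← hψ, CategoryTheory.Functor.map_id, ← hr]
    rw [show BasedFunctor.comp (toOverCat U) (BasedFunctor.comp G (FibCat.fpFst y (FibCat.diag f))) =
      BasedFunctor.comp (BasedFunctor.comp (toOverCat U) (ofOverCat U))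
        (BasedFunctor.comp (ofSpMap ((AlgSp.yon S).map r)) (BasedFunctor.comp (ofSpMap p)
          (BasedFunctor.comp e (FibCat.fpFst y (FibCat.diag f))))) from rfl,
      toOverCat_ofOverCat]
    rw [show BasedFunctor.comp (BasedFunctor.id (ofSp ((AlgSp.yon S).obj U)))
        (BasedFunctor.comp (ofSpMap ((AlgSp.yon S).map r)) (BasedFunctor.comp (ofSpMap p)
          (BasedFunctor.comp e (FibCat.fpFst y (FibCat.diag f))))) =
        BasedFunctor.comp (ofSpMap ((AlgSp.yon S).map r)) (BasedFunctor.comp (ofSpMap p)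
          (BasedFunctor.comp e (FibCat.fpFst y (FibCat.diag f)))) from rfl,
      spMapOfOver_ofSpMap_comp, spMapOfOver_ofSpMap_comp]
  subst hψ1
  let η := G.obj (idObj U)
  have hov : OverId (η.obj.iso.hom) := fp_overId η
  let j : (overMap (𝟙 U)).obj (idObj U) ≅ idObj U := Over.isoMk (Iso.refl _) (by simp [overMap])
  let e1 : η.obj.fst ≅ idObj U := (appIso iψ (idObj U)).trans j
  have he1 : OverId e1.hom := (overId_app iψ.hom (idObj U)).comp (OverId.of_eq (φ := j.hom) rfl rfl)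
  let m : (FibCat.diag f).obj η.obj.snd ≅ ξ := η.obj.iso.symm ≪≫ y.toFunctor.mapIso e1 ≪≫ φ
  have hm : OverId m.hom := (OverId.inv hov).comp ((he1.map y).comp hφ)
  have hm1 : OverId m.hom.hom.fst := overId_of_lift ((L09.Fib.fp_isHomLift_iff _ _).1 hm)
  have hm2 : OverId m.hom.hom.snd := overId_of_lift (L09.Fib.fp_snd_lift _ _ hm)
  let R := 𝒳.p.obj ((FibCat.diag f).obj η.obj.snd).obj.fst
  have : 𝒳.p.IsHomLift (𝟙 R) m.hom.hom.fst := hm1
  have := L09.Fib.isIso_of_isFibGrpd _ h𝒳.isStack.1 (𝟙 R) m.hom.hom.fst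
  refine ⟨inv m.hom.hom.fst ≫ m.hom.hom.snd, ?_, ?_⟩
  · exact ((OverId.inv (i := asIso m.hom.hom.fst) hm1).comp hm2).lift h₁
  · have hw : f.map m.hom.hom.fst ≫ β = 𝟙 _ ≫ f.map m.hom.hom.snd := m.hom.hom.w
    rw [Category.id_comp] at hw
    rw [Functor.map_comp, Functor.map_inv, ← hw, IsIso.inv_hom_id_assoc]

/-- If isomorphisms of images lift over algebraically closed fields, the diagonal is surjective. -/
theorem isSurjective_diag_of_forall (h𝒳 : IsAlgStack Scheme.fppfPrecoverage 𝒳)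
    (h𝒴 : IsAlgStack Scheme.fppfPrecoverage 𝒴) (f : 𝒳 ⥤ᵇ 𝒴)
    (H : ∀ (k : Type u) [Field k] [IsAlgClosed k] (s : Spec (CommRingCat.of k) ⟶ S) (a₁ a₂ : 𝒳.obj)
        (_ : 𝒳.p.obj a₁ = Over.mk s) (_ : 𝒳.p.obj a₂ = Over.mk s) (β : f.obj a₁ ⟶ f.obj a₂),
        𝒴.p.IsHomLift (𝟙 (Over.mk s)) β →
          ∃ α : a₁ ⟶ a₂, 𝒳.p.IsHomLift (𝟙 (Over.mk s)) α ∧ f.map α = β) :
    IsSurjective (FibCat.diag f) := by
  intro w
  obtain ⟨q, rfl⟩ := Points.mk_surjective w
  let Ω := AlgebraicClosure q.K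
  let s : Spec (CommRingCat.of Ω) ⟶ S :=
    Spec.map (CommRingCat.ofHom (algebraMap q.K Ω)) ≫ q.str
  let j : Over.mk s ⟶ Over.mk q.str := Over.homMk (Spec.map (CommRingCat.ofHom (algebraMap q.K Ω))) rfl
  obtain ⟨ξ, hξ, ι, -⟩ :=
    exists_over (L09.Fib.fp_isFibGrpd h𝒳.isStack.1 h𝒳.isStack.1 h𝒴.isStack.1 (F := f) (G := f)) q.lies j
  obtain ⟨α, hα, hβ⟩ := H Ω s ξ.obj.fst ξ.obj.snd hξ ((L09.Fib.fp_snd_obj ξ).trans hξ) ξ.obj.iso.hom
    ((fp_overId ξ).lift ((f.w_obj _).trans hξ))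
  let a : FPt 𝒳 := { K := Ω, str := s, obj := ξ.obj.fst, lies := hξ }
  let q' : FPt (FibCat.fp f f) := { K := Ω, str := s, obj := ξ, lies := hξ }
  refine ⟨Points.mk a, ?_⟩
  exact (mk_eq_of_hom (p := a.map (FibCat.diag f)) (q := q') (fpHom (𝟙 _) α (by
    show f.map (𝟙 _) ≫ ξ.obj.iso.hom = 𝟙 _ ≫ f.map α
    rw [hβ, f.toFunctor.map_id]))).trans (mk_eq_of_hom (p := q') (q := q) ι)

end Groth.L24.St
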