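import Groth.Agent.L24.St.AffineDiag
import Groth.Agent.L24.St.Compact
import Groth.Agent.L23.MorCalc
import Groth.Prelude.Def_W4stkstmodspWNA

/-!
Stacks with a finite flat affine presentation are quasi-compact, separated and quasi-DM.
-/

set_option autoImplicit false
set_option backward.isDefEq.respectTransparency false
set_option backward.isDefEq.respectTransparency.types false

universe u

open CategoryTheory CategoryTheory.Limits AlgebraicGeometry Opposite AlgSt

noncomputable section

namespace Groth.L24.St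

variable {S : Scheme.{u}} {𝒳 : AlgSt.Cat S}

theorem pBase_finite : PBase (AlgSp.IsFiniteMor : MorphismProperty (AlgSp.Sp S)) :=
  pBase_affP (R := @IsFinite)

theorem isLocalOnBase_fppf_finite :
    AlgSp.IsLocalOnBase AlgSp.IsFppfCover (AlgSp.IsFiniteMor : MorphismProperty (AlgSp.Sp S)) :=
  fun {_ _} Yi g hY hYi hcov {_} f hX Xi p q hXi sq => Groth.L23.isLocalOnBase_fpqc_finite Yi g hY hYi
    (Groth.L23.isFpqcCover_of_isFppfCover hY hYi hcov) f hX Xi p q hXi sq

theorem isClosedImmersion_diagonal_of_isAffine {U S : Scheme.{u}} [IsAffine U] (f : U ⟶ S) :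
    IsClosedImmersion (pullback.diagonal f) := by
  have : IsSeparated (f ≫ terminal.from S) := inferInstance
  have : IsSeparated f := IsSeparated.of_comp f (terminal.from S)
  infer_instance

/-- The diagonal is finite as soon as a finite flat chart has a source with finite diagonal. -/
theorem diag_finite_of_chart (h1 : FibCat.IsFibGrpd 𝒳.p) (hd : RepByAlgSp1 (FibCat.diag (FibCat.toSelf 𝒳)))
    {X : Over S} (hX : IsFinite (pullback.diagonal X.hom)) {x : FibCat.overCat X ⥤ᵇ 𝒳}
    (hx₁ : RepByAlgSpWith (AlgSp.LocP @Flat) x)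
    (hx₂ : RepByAlgSpWith (AlgSp.LocP @LocallyOfFinitePresentation) x)
    (hx₃ : RepByAlgSpWith AlgSp.IsSurjectiveMor x) (hx : RepByAlgSpWith AlgSp.IsFiniteMor x) :
    RepByAlgSpWith AlgSp.IsFiniteMor (FibCat.diag (FibCat.toSelf 𝒳)) := by
  have hS : FibCat.IsFibGrpd (FibCat.selfOver (Over S)).p := (L09.Fib.isFibSet_id _).1
  have hW := overCat_isFibGrpd X
  let t := FibCat.toSelf 𝒳
  have hz : ∀ {Q : MorphismProperty Scheme.{u}}, Groth.L23.EtLocal Q →
      RepByAlgSpWith (AlgSp.LocP Q) x → RepByAlgSpWith (AlgSp.LocP Q) (cmpMap x x t) := fun hQ h =>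
    (repWith_congr (cmpMapIso x x t)).1 (fpMap_repWith hasAtlasCovers_atlasCov
      (pBase_locP hQ) (pComp_locP hQ) (isLocalOnBase_locP hQ) hW h1 hW hS h h)
  have hzf := hz Groth.L23.etLocal_flat hx₁
  have hzs : RepByAlgSpWith AlgSp.IsSurjectiveMor (cmpMap x x t) :=
    (repWith_congr (cmpMapIso x x t)).1 (repWith_surjective_of_isSurjective (L09.Fib.fp_isFibGrpd hW hW hS)
      (L09.Fib.fp_isFibGrpd h1 h1 hS) (repWith_rep1 ((repWith_congr (cmpMapIso x x t)).2 hzf))
      (isSurjective_legs h1 hW h1 hW hS x x _ _ (isSurjective_of_repWith hW h1 hx₃)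
        (isSurjective_of_repWith hW h1 hx₃)))
  refine repWith_of_fpFst_cover hasAtlasCovers_fppf pBase_finite
    isLocalOnBase_fppf_finite (fun _ _ _ h => h) h1 (L09.Fib.fp_isFibGrpd h1 h1 hS)
    (L09.Fib.fp_isFibGrpd hW hW hS) hd hzf (hz Groth.L23.etLocal_lfp hx₂) hzs ?_
  have h2 : RepByAlgSpWith AlgSp.IsFiniteMor (fpPost x x t) := by
    refine repWith_of_comp_of pBase_finite
      (Q := (AlgSp.RepWith @IsFinite).diagonal) (fun A B C _ _ _ a b hb hab => ?_)
      (b := FibCat.fpFst (BasedFunctor.comp x t) (BasedFunctor.comp x t))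
      (repWith_fpFst _ (diagonal_repWith_toSelf hX x)) ?_
    · have : MorphismProperty.HasOfPostcompProperty (AlgSp.RepWith (S := S) @IsFinite)
          (AlgSp.RepWith (S := S) @IsFinite).diagonal :=
        MorphismProperty.hasOfPostcompProperty_iff_le_diagonal.2 le_rfl
      exact Groth.L23.isFiniteMor_iff.2 (MorphismProperty.of_postcomp _
        (W' := (AlgSp.RepWith (S := S) @IsFinite).diagonal) a b hb (Groth.L23.isFiniteMor_iff.1 hab))
    · exact repWith_fpFst x hx
  rw [← cmpLift_fst x x t] at h2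
  exact (repWith_precomp (cmpLift_isEquivOver x x t) _).1 h2

/-- A well-nigh affine stack is quasi-compact, quasi-DM and separated. -/
theorem properties_of_wellNighAffine (h𝒳 : IsAlgStack Scheme.fppfPrecoverage 𝒳) (hw : IsWellNighAffine 𝒳) :
    IsQuasiCompact 𝒳 ∧ IsQuasiDMOver 𝒳 ∧ IsSeparatedOver 𝒳 := by
  obtain ⟨U, x, hU, hx⟩ := hw
  have g := h𝒳.isStack.1
  have hxs : RepByAlgSpWith AlgSp.IsSurjectiveMor x := repWith_mono (fun _ _ _ _ h => h.1.1.1) hx
  have hfl : RepByAlgSpWith (AlgSp.LocP @Flat) x := repWith_mono (fun _ _ _ _ h => h.1.1.2) hx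
  have hfin : RepByAlgSpWith AlgSp.IsFiniteMor x := repWith_mono (fun _ _ _ _ h => h.1.2) hx
  have hlfp : RepByAlgSpWith (AlgSp.LocP @LocallyOfFinitePresentation) x := repWith_mono (fun _ _ _ _ h => h.2) hx
  have := isClosedImmersion_diagonal_of_isAffine U.hom
  have hd := diag_finite_of_chart g h𝒳.diag (X := U) (inferInstance : IsFinite (pullback.diagonal U.hom)) hfl hlfp hxs hfin
  refine ⟨isQuasiCompact_of_surjective h𝒳 (continuous_ofChart h𝒳 x) (surjective_ofChart_of_repWith g hxs), ?_, ?_⟩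
  · refine repWith_mono (fun F V hF a ha => ?_) hd
    exact Groth.L23.locP_of_repWith Groth.L23.etLocal_lqfLft (Groth.L23.repWith_mono
      (Q := ((@LocallyQuasiFinite : MorphismProperty Scheme.{u}) ⊓ @LocallyOfFiniteType))
      (fun φ (hφ : IsFinite φ) => have := hφ; ⟨inferInstance, inferInstance⟩) (Groth.L23.isFiniteMor_iff.1 ha))
  · refine repWith_mono (fun F V hF a ha => ?_) hd
    exact Groth.L23.isProperMor_of_repWith (Groth.L23.repWith_mono (Q := (@IsProper : MorphismProperty Scheme.{u}))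
      (fun φ (hφ : IsFinite φ) => have := hφ; inferInstance) (Groth.L23.isFiniteMor_iff.1 ha))

end Groth.L24.St
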