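import Groth.Prelude.Def_AlgSt4
import Groth.Agent.L24.St.Calc
import Groth.Agent.L09.FibBasic

/-!
Points of categories fibred in groupoids over schemes: the relation on field-valued points, points of fibre products.
-/

set_option autoImplicit false
set_option backward.isDefEq.respectTransparency false
set_option backward.isDefEq.respectTransparency.types false

universe v₅ u₅ v₄ u₄ v₃ u₃ v₂ u₂ v u

open CategoryTheory CategoryTheory.Limits AlgebraicGeometry Opposite AlgSt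

namespace Groth.L24.St

section Based

variable {C : Type u} [Category.{v} C] {𝒳 : BasedCategory.{v₂, u₂} C} {𝒴 : BasedCategory.{v₃, u₃} C}
  {𝒮 : BasedCategory.{v₄, u₄} C} {F : 𝒳 ⥤ᵇ 𝒮} {G : 𝒴 ⥤ᵇ 𝒮}

theorem p_map_map (F : 𝒳 ⥤ᵇ 𝒴) {a b : 𝒳.obj} (φ : a ⟶ b) :
    𝒴.p.map (F.map φ) = eqToHom (F.w_obj a) ≫ 𝒳.p.map φ ≫ eqToHom (F.w_obj b).symm := by
  have h := Functor.congr_hom F.w φ
  simp only [Functor.comp_map] at h
  simpa using h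

theorem exists_over (h : FibCat.IsFibGrpd 𝒳.p) {x : 𝒳.obj} {T' T : C} (hx : 𝒳.p.obj x = T) (f : T' ⟶ T) :
    ∃ (x' : 𝒳.obj) (hx' : 𝒳.p.obj x' = T') (φ : x' ⟶ x),
      𝒳.p.map φ = eqToHom hx' ≫ f ≫ eqToHom hx.symm := by
  subst hx
  obtain ⟨x', φ, hφ⟩ := h.exists_lift f
  exact ⟨x', IsHomLift.domain_eq 𝒳.p f φ, φ, by simpa using IsHomLift.fac' 𝒳.p f φ⟩

theorem exists_factor (h : FibCat.IsFibGrpd 𝒳.p) {a b c : 𝒳.obj} (φ : a ⟶ c) (ψ : b ⟶ c)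
    (e : 𝒳.p.obj a ⟶ 𝒳.p.obj b) (he : e ≫ 𝒳.p.map ψ = 𝒳.p.map φ) :
    ∃ χ : a ⟶ b, 𝒳.p.map χ = e ∧ χ ≫ ψ = φ := by
  have := h.isStronglyCartesian ψ
  have hl : 𝒳.p.IsHomLift (e ≫ 𝒳.p.map ψ) φ := by rw [he]; infer_instance
  obtain ⟨χ, ⟨hχ, hc⟩, -⟩ := Functor.IsStronglyCartesian.universal_property 𝒳.p (𝒳.p.map ψ) ψ e
    (e ≫ 𝒳.p.map ψ) rfl φ
  exact ⟨χ, (IsHomLift.eq_of_isHomLift 𝒳.p e χ).symm, hc⟩

theorem ext_of_comp_eq (h : FibCat.IsFibGrpd 𝒳.p) {a b c : 𝒳.obj} {χ χ' : a ⟶ b} (ψ : b ⟶ c)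
    (hp : 𝒳.p.map χ = 𝒳.p.map χ') (hc : χ ≫ ψ = χ' ≫ ψ) : χ = χ' := by
  have := h.isStronglyCartesian ψ
  have : 𝒳.p.IsHomLift (𝒳.p.map χ) χ' := by rw [hp]; infer_instance
  exact Functor.IsStronglyCartesian.ext 𝒳.p (𝒳.p.map ψ) ψ (𝒳.p.map χ) hc

theorem exists_iso_factor (h : FibCat.IsFibGrpd 𝒳.p) {a b c : 𝒳.obj} (φ : a ⟶ c) (ψ : b ⟶ c)
    (e : 𝒳.p.obj a = 𝒳.p.obj b) (he : eqToHom e ≫ 𝒳.p.map ψ = 𝒳.p.map φ) :
    ∃ k : a ≅ b, OverId k.hom ∧ k.hom ≫ ψ = φ := by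
  obtain ⟨χ, hχ, hc⟩ := exists_factor h φ ψ (eqToHom e) he
  have : 𝒳.p.IsHomLift (eqToHom e) χ := by rw [← hχ]; infer_instance
  have := L09.Fib.isIso_of_isFibGrpd _ h (eqToHom e) χ
  exact ⟨asIso χ, OverId.of_eq e hχ, hc⟩

theorem exists_fp_lift_fst (h𝒴 : FibCat.IsFibGrpd 𝒴.p) (h𝒮 : FibCat.IsFibGrpd 𝒮.p)
    (w : (FibCat.fp F G).obj) {r : 𝒳.obj} (α : r ⟶ w.obj.fst) :
    ∃ (y : 𝒴.obj) (k : F.obj r ≅ G.obj y) (hk : OverId k.hom) (m : fpObj r y k hk ⟶ w),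
      m.hom.fst = α := by
  obtain ⟨e, he⟩ := (fp_overId w).eq
  have hy : 𝒴.p.obj w.obj.snd = 𝒳.p.obj w.obj.fst :=
    (G.w_obj _).symm.trans (e.symm.trans (F.w_obj _))
  obtain ⟨y, hy', ψ, hψ⟩ := exists_over h𝒴 hy (𝒳.p.map α)
  obtain ⟨k, hk, hc⟩ := exists_iso_factor h𝒮 (F.map α ≫ w.obj.iso.hom) (G.map ψ)
    ((F.w_obj r).trans (hy'.symm.trans (G.w_obj y).symm)) (by simp [p_map_map, he, hψ])
  exact ⟨y, k, hk, fpHom α ψ hc.symm, rfl⟩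

theorem exists_fp_lift_snd (h𝒳 : FibCat.IsFibGrpd 𝒳.p) (h𝒮 : FibCat.IsFibGrpd 𝒮.p)
    (w : (FibCat.fp F G).obj) {s : 𝒴.obj} (β : s ⟶ w.obj.snd) :
    ∃ (x : 𝒳.obj) (k : F.obj x ≅ G.obj s) (hk : OverId k.hom) (m : fpObj x s k hk ⟶ w),
      m.hom.snd = β := by
  obtain ⟨e, he⟩ := (fp_overId w).eq
  have hx : 𝒳.p.obj w.obj.fst = 𝒴.p.obj w.obj.snd :=
    (F.w_obj _).symm.trans (e.trans (G.w_obj _))
  obtain ⟨x, hx', ψ, hψ⟩ := exists_over h𝒳 hx (𝒴.p.map β)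
  obtain ⟨k, hk, hc⟩ := exists_iso_factor h𝒮 (F.map ψ ≫ w.obj.iso.hom) (G.map β)
    ((F.w_obj x).trans (hx'.trans (G.w_obj s).symm)) (by simp [p_map_map, he, hψ])
  exact ⟨x, k, hk, fpHom ψ β hc.symm, rfl⟩

end Based

variable {S : Scheme.{u}} {𝒳 : BasedCategory.{v₂, u₂} (Over S)} {𝒴 : BasedCategory.{v₃, u₃} (Over S)}
  {𝒵 : BasedCategory.{v₄, u₄} (Over S)}

/-- Two field extensions over a common field spectrum over `S` have a common extension. -/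
theorem exists_field_cospan {K L M : Type u} [Field K] [Field L] [Field M]
    {wK : Spec (CommRingCat.of K) ⟶ S} {wL : Spec (CommRingCat.of L) ⟶ S} {wM : Spec (CommRingCat.of M) ⟶ S}
    (a : Over.mk wL ⟶ Over.mk wK) (b : Over.mk wM ⟶ Over.mk wK) :
    ∃ (Ω : Type u) (_ : Field Ω) (w : Spec (CommRingCat.of Ω) ⟶ S) (d₁ : Over.mk w ⟶ Over.mk wL)
      (d₂ : Over.mk w ⟶ Over.mk wM), d₁ ≫ a = d₂ ≫ b := by
  obtain ⟨Ω, _, i₁, i₂, hi⟩ :=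
    AlgSp.FieldPt.exists_amalgamation (Spec.preimage a.left).hom (Spec.preimage b.left).hom
  have hL : Spec.map (CommRingCat.ofHom i₁) ≫ a.left = Spec.map (CommRingCat.ofHom i₂) ≫ b.left := by
    conv_lhs => rw [← Spec.map_preimage a.left]
    conv_rhs => rw [← Spec.map_preimage b.left]
    rw [← Spec.map_comp, ← Spec.map_comp]
    congr 1
    exact CommRingCat.hom_ext hi
  have e₁ : a.left ≫ wK = wL := Over.w a
  have e₂ : b.left ≫ wK = wM := Over.w b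
  have hw : Spec.map (CommRingCat.ofHom i₂) ≫ wM = Spec.map (CommRingCat.ofHom i₁) ≫ wL := by
    rw [← e₁, ← e₂, ← Category.assoc, ← Category.assoc, hL]
  exact ⟨Ω, inferInstance, Spec.map (CommRingCat.ofHom i₁) ≫ wL,
    Over.homMk (Spec.map (CommRingCat.ofHom i₁)) rfl, Over.homMk (Spec.map (CommRingCat.ofHom i₂)) hw,
    Over.OverMorphism.ext hL⟩

theorem rel_of_hom {p q : FPt 𝒳} (φ : p.obj ⟶ q.obj) : FPt.Rel p q := ⟨p, 𝟙 _, φ, trivial⟩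

theorem rel_trans (h : FibCat.IsFibGrpd 𝒳.p) {p q t : FPt 𝒳} (h₁ : FPt.Rel p q) (h₂ : FPt.Rel q t) :
    FPt.Rel p t := by
  obtain ⟨r, α, β, -⟩ := h₁
  obtain ⟨s, γ, δ, -⟩ := h₂
  obtain ⟨Ω, _, w, d₁, d₂, hd⟩ := exists_field_cospan (S := S)
    (eqToHom r.lies.symm ≫ 𝒳.p.map β ≫ eqToHom q.lies)
    (eqToHom s.lies.symm ≫ 𝒳.p.map γ ≫ eqToHom q.lies)
  obtain ⟨r', hr', ι, hι⟩ := exists_over h r.lies d₁
  obtain ⟨χ, -, -⟩ := exists_factor h (ι ≫ β) γ (eqToHom hr' ≫ d₂ ≫ eqToHom s.lies.symm) (by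
    have h3 := congrArg (fun t => eqToHom hr' ≫ t ≫ eqToHom q.lies.symm) hd
    simp only [Category.assoc, eqToHom_trans, eqToHom_refl, Category.comp_id] at h3
    simp only [Functor.map_comp, hι, Category.assoc]
    exact h3.symm)
  exact ⟨{ K := Ω, str := w, obj := r', lies := hr' }, ι ≫ α, χ ≫ δ, trivial⟩

theorem rel_equivalence (h : FibCat.IsFibGrpd 𝒳.p) : _root_.Equivalence (@FPt.Rel S 𝒳) :=
  ⟨fun p => rel_of_hom (𝟙 p.obj), fun ⟨r, a, b, _⟩ => ⟨r, b, a, trivial⟩, rel_trans h⟩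

theorem mk_eq_mk_iff (h : FibCat.IsFibGrpd 𝒳.p) {p q : FPt 𝒳} :
    Points.mk p = Points.mk q ↔ FPt.Rel p q :=
  (rel_equivalence h).quot_mk_eq_iff p q

theorem mk_eq_of_hom {p q : FPt 𝒳} (φ : p.obj ⟶ q.obj) : Points.mk p = Points.mk q :=
  Points.sound (rel_of_hom φ)

theorem map_comp_apply (f : 𝒳 ⥤ᵇ 𝒴) (g : 𝒴 ⥤ᵇ 𝒵) (x : Points 𝒳) :
    Points.map (BasedFunctor.comp f g) x = Points.map g (Points.map f x) := by
  obtain ⟨p, rfl⟩ := Points.mk_surjective x; rfl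

theorem map_congr {f g : 𝒳 ⥤ᵇ 𝒴} (e : f ≅ g) : Points.map f = Points.map g := by
  funext x
  obtain ⟨p, rfl⟩ := Points.mk_surjective x
  exact mk_eq_of_hom (p := p.map f) (q := p.map g) (e.hom.toNatTrans.app p.obj)

theorem map_id_apply (x : Points 𝒳) : Points.map (BasedFunctor.id 𝒳) x = x := by
  obtain ⟨p, rfl⟩ := Points.mk_surjective x; rfl

theorem bijective_map_of_isEquivOver {f : 𝒳 ⥤ᵇ 𝒴} (hf : FibCat.IsEquivOver f) :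
    Function.Bijective (Points.map f) := by
  obtain ⟨g, -, ⟨a⟩, ⟨b⟩⟩ := exists_inverse hf
  refine Function.bijective_iff_has_inverse.2 ⟨Points.map g, fun x => ?_, fun y => ?_⟩
  · rw [← map_comp_apply, map_congr a, map_id_apply]
  · rw [← map_comp_apply, map_congr b, map_id_apply]

theorem exists_points_fp (h𝒳 : FibCat.IsFibGrpd 𝒳.p) (h𝒴 : FibCat.IsFibGrpd 𝒴.p)
    (h𝒵 : FibCat.IsFibGrpd 𝒵.p) (f : 𝒳 ⥤ᵇ 𝒴) (g : 𝒵 ⥤ᵇ 𝒴)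
    (z : Points 𝒵) (x : Points 𝒳) (h : Points.map g z = Points.map f x) :
    ∃ w : Points (FibCat.fp g f), Points.map (FibCat.fpFst g f) w = z ∧
      Points.map (FibCat.fpSnd g f) w = x := by
  obtain ⟨p, rfl⟩ := Points.mk_surjective z
  obtain ⟨q, rfl⟩ := Points.mk_surjective x
  obtain ⟨r, α, β, -⟩ := (mk_eq_mk_iff h𝒴 (p := p.map g) (q := q.map f)).1 h
  change r.obj ⟶ g.obj p.obj at α
  change r.obj ⟶ f.obj q.obj at β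
  let a : Over.mk r.str ⟶ 𝒵.p.obj p.obj :=
    eqToHom r.lies.symm ≫ 𝒴.p.map α ≫ eqToHom (g.w_obj p.obj)
  let b : Over.mk r.str ⟶ 𝒳.p.obj q.obj :=
    eqToHom r.lies.symm ≫ 𝒴.p.map β ≫ eqToHom (f.w_obj q.obj)
  obtain ⟨z', hz', ι, hι⟩ := exists_over h𝒵 (rfl : 𝒵.p.obj p.obj = _) a
  obtain ⟨x', hx', ψ, hψ⟩ := exists_over h𝒳 (rfl : 𝒳.p.obj q.obj = _) b
  obtain ⟨k₁, hk₁, -⟩ := exists_iso_factor h𝒴 (g.map ι) α ((g.w_obj z').trans (hz'.trans r.lies.symm))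
    (by simp [p_map_map, hι, a])
  obtain ⟨k₂, hk₂, -⟩ := exists_iso_factor h𝒴 (f.map ψ) β ((f.w_obj x').trans (hx'.trans r.lies.symm))
    (by simp [p_map_map, hψ, b])
  let w : FPt (FibCat.fp g f) :=
    { K := r.K, str := r.str
      obj := fpObj z' x' (k₁ ≪≫ k₂.symm) (hk₁.comp hk₂.inv)
      lies := hz' }
  exact ⟨Points.mk w, mk_eq_of_hom (p := w.map (FibCat.fpFst g f)) (q := p) ι,
    mk_eq_of_hom (p := w.map (FibCat.fpSnd g f)) (q := q) ψ⟩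

theorem isSurjective_fpFst (h𝒳 : FibCat.IsFibGrpd 𝒳.p) (h𝒴 : FibCat.IsFibGrpd 𝒴.p)
    (h𝒵 : FibCat.IsFibGrpd 𝒵.p) {f : 𝒳 ⥤ᵇ 𝒴} (g : 𝒵 ⥤ᵇ 𝒴) (hf : IsSurjective f) :
    IsSurjective (FibCat.fpFst g f) := by
  intro z
  obtain ⟨x, hx⟩ := hf (Points.map g z)
  obtain ⟨w, hw, -⟩ := exists_points_fp h𝒳 h𝒴 h𝒵 f g z x hx.symm
  exact ⟨w, hw⟩

theorem injective_map_of_fullFaithful (h𝒳 : FibCat.IsFibGrpd 𝒳.p) (h𝒴 : FibCat.IsFibGrpd 𝒴.p)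
    (f : 𝒳 ⥤ᵇ 𝒴) [f.toFunctor.Full] : Function.Injective (Points.map f) := by
  intro x₁ x₂ h
  obtain ⟨p, rfl⟩ := Points.mk_surjective x₁
  obtain ⟨q, rfl⟩ := Points.mk_surjective x₂
  obtain ⟨r, α, β, -⟩ := (mk_eq_mk_iff h𝒴 (p := p.map f) (q := q.map f)).1 h
  change r.obj ⟶ f.obj p.obj at α
  change r.obj ⟶ f.obj q.obj at β
  obtain ⟨x', hx', ι, hι⟩ := exists_over h𝒳 (rfl : 𝒳.p.obj p.obj = _)
    (eqToHom r.lies.symm ≫ 𝒴.p.map α ≫ eqToHom (f.w_obj p.obj))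
  obtain ⟨k, -, -⟩ := exists_iso_factor h𝒴 (f.map ι) α ((f.w_obj x').trans (hx'.trans r.lies.symm))
    (by simp [p_map_map, hι])
  obtain ⟨γ, -⟩ := f.toFunctor.map_surjective (k.hom ≫ β)
  exact Points.sound ⟨{ K := r.K, str := r.str, obj := x', lies := hx' }, ι, γ, trivial⟩

/-- If the diagonal is surjective on points then every base change is injective on points. -/
theorem injective_fpFst_of_diag (h𝒳 : FibCat.IsFibGrpd 𝒳.p) (h𝒴 : FibCat.IsFibGrpd 𝒴.p)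
    (h𝒵 : FibCat.IsFibGrpd 𝒵.p) {f : 𝒳 ⥤ᵇ 𝒴} (hf : IsSurjective (FibCat.diag f)) (g : 𝒵 ⥤ᵇ 𝒴) :
    Function.Injective (Points.map (FibCat.fpFst g f)) := by
  intro u₁ u₂ h
  obtain ⟨p, rfl⟩ := Points.mk_surjective u₁
  obtain ⟨q, rfl⟩ := Points.mk_surjective u₂
  obtain ⟨r, α, β, -⟩ :=
    (mk_eq_mk_iff h𝒵 (p := p.map (FibCat.fpFst g f)) (q := q.map (FibCat.fpFst g f))).1 h
  obtain ⟨x₁, k₁, hk₁, m₁, -⟩ := exists_fp_lift_fst h𝒳 h𝒴 p.obj α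
  obtain ⟨x₂, k₂, hk₂, m₂, -⟩ := exists_fp_lift_fst h𝒳 h𝒴 q.obj β
  let v₁ : (FibCat.fp g f).obj := fpObj r.obj x₁ k₁ hk₁
  let v₂ : (FibCat.fp g f).obj := fpObj r.obj x₂ k₂ hk₂
  have hv : 𝒳.p.obj x₁ = Over.mk r.str := (L09.Fib.fp_snd_obj v₁).trans r.lies
  let y : FPt (FibCat.fp f f) :=
    { K := r.K, str := r.str
      obj := fpObj x₁ x₂ (k₁.symm ≪≫ k₂) (hk₁.inv.comp hk₂)
      lies := hv }
  obtain ⟨a, ha⟩ := hf (Points.mk y)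
  obtain ⟨a, rfl⟩ := Points.mk_surjective a
  obtain ⟨s, μ, ν, -⟩ := (mk_eq_mk_iff (L09.Fib.fp_isFibGrpd h𝒳 h𝒳 h𝒴) (p := a.map (FibCat.diag f)) (q := y)).1 ha
  change s.obj ⟶ y.obj at ν
  change s.obj ⟶ (FibCat.diag f).obj a.obj at μ
  obtain ⟨eσ, heσ⟩ := (fp_overId s.obj).eq
  let μ₁ : s.obj.obj.fst ⟶ a.obj := μ.hom.fst
  let μ₂ : s.obj.obj.snd ⟶ a.obj := μ.hom.snd
  have hμ : f.map μ₁ = s.obj.obj.iso.hom ≫ f.map μ₂ := by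
    refine Eq.trans ?_ μ.hom.w
    exact (Category.comp_id _).symm
  have hs : 𝒳.p.obj s.obj.obj.fst = 𝒳.p.obj s.obj.obj.snd :=
    (f.w_obj _).symm.trans (eσ.trans (f.w_obj _))
  have hμp : eqToHom hs ≫ 𝒳.p.map μ₂ = 𝒳.p.map μ₁ := by
    have h4 := congrArg 𝒴.p.map hμ
    rw [Functor.map_comp, heσ, p_map_map, p_map_map, eqToHom_trans_assoc, eqToHom_comp_iff] at h4
    rw [← cancel_mono (eqToHom (f.w_obj a.obj).symm), Category.assoc]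
    simpa using h4.symm
  obtain ⟨χ, hχ, hχμ⟩ := exists_iso_factor h𝒳 μ₁ μ₂ hs hμp
  have hfχ : f.map χ.hom = s.obj.obj.iso.hom := by
    refine ext_of_comp_eq h𝒴 (f.map μ₂) ?_ ((f.toFunctor.map_comp _ _).symm.trans
      ((congrArg f.toFunctor.map hχμ).trans hμ))
    obtain ⟨_, h5⟩ := (hχ.map f).eq
    exact h5.trans heσ.symm
  obtain ⟨z, k, hk, n, hn⟩ := exists_fp_lift_snd h𝒵 h𝒴 v₁ (show s.obj.obj.fst ⟶ x₁ from ν.hom.fst)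
  have hw : f.map n.hom.snd ≫ (k₁.symm ≪≫ k₂).hom = s.obj.obj.iso.hom ≫ f.map ν.hom.snd := by
    rw [hn]; exact ν.hom.w
  let n₂ : fpObj z s.obj.obj.fst k hk ⟶ v₂ := fpHom n.hom.fst (χ.hom ≫ ν.hom.snd) (by
    change g.map n.hom.fst ≫ k₂.hom = k.hom ≫ f.map (χ.hom ≫ ν.hom.snd)
    rw [Functor.map_comp, hfχ, ← hw, ← reassoc_of% (show g.map n.hom.fst ≫ k₁.hom = k.hom ≫ f.map n.hom.snd from n.hom.w)]
    simp)
  have hz : 𝒵.p.obj z = Over.mk s.str := by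
    have h6 := L09.Fib.fp_snd_obj (fpObj z s.obj.obj.fst k hk)
    exact h6.symm.trans s.lies
  exact Points.sound ⟨{ K := s.K, str := s.str, obj := fpObj z s.obj.obj.fst k hk, lies := hz },
    n ≫ m₁, n₂ ≫ m₂, trivial⟩

theorem isSurjective_diag_of_injective (f : 𝒳 ⥤ᵇ 𝒴)
    (h : Function.Injective (Points.map (FibCat.fpFst f f))) : IsSurjective (FibCat.diag f) := by
  intro w
  refine ⟨Points.map (FibCat.fpFst f f) w, h ?_⟩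
  obtain ⟨p, rfl⟩ := Points.mk_surjective w
  rfl

end Groth.L24.St
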