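import Groth.Agent.L24.St.DiagLft
import Groth.Agent.L24.St.AffineMor
import Groth.Agent.L24.St.PointsSp
import Groth.Agent.L23.AffineMor
import Groth.Agent.L23.FpqcAffine
import Groth.Agent.L24.Tors.QuotEtale

/-!
The diagonal of a stack with an affine chart from a scheme with affine diagonal is affine.
-/

set_option autoImplicit false
set_option backward.isDefEq.respectTransparency false
set_option backward.isDefEq.respectTransparency.types false

universe u

open CategoryTheory CategoryTheory.Limits AlgebraicGeometry Opposite AlgSt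

noncomputable section

namespace Groth.L24.St

variable {S : Scheme.{u}} {𝒳 : AlgSt.Cat S}

theorem diagonal_repWith_map {R : MorphismProperty Scheme.{u}} [R.IsStableUnderBaseChange]
    {W T : Over S} (i : W ⟶ T) (h : R (pullback.diagonal i.left)) :
    (AlgSp.RepWith R).diagonal ((AlgSp.yon S).map i) := by
  have sq := (IsPullback.of_hasPullback i i).map (AlgSp.yon S)
  have e : pullback.diagonal ((AlgSp.yon S).map i) =
      (AlgSp.yon S).map (pullback.diagonal i) ≫ sq.isoPullback.hom := by
    refine pullback.hom_ext ?_ ?_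
    · rw [pullback.diagonal_fst, Category.assoc, IsPullback.isoPullback_hom_fst, ← Functor.map_comp,
        pullback.diagonal_fst, CategoryTheory.Functor.map_id]
    · rw [pullback.diagonal_snd, Category.assoc, IsPullback.isoPullback_hom_snd, ← Functor.map_comp,
        pullback.diagonal_snd, CategoryTheory.Functor.map_id]
  show AlgSp.RepWith R (pullback.diagonal _)
  have : (AlgSp.RepWith (S := S) R).IsStableUnderBaseChange := inferInstance
  rw [e, (AlgSp.RepWith (S := S) R).cancel_right_of_respectsIso]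
  refine (AlgSp.repWith_yon_map_iff R _).2 ?_
  have sqS := (IsPullback.of_hasPullback i i).map (Over.forget S)
  have e' : (pullback.diagonal i).left ≫ sqS.isoPullback.hom = pullback.diagonal i.left := by
    refine pullback.hom_ext ?_ ?_
    · refine ((Category.assoc _ _ _).trans (congrArg (fun g => (pullback.diagonal i).left ≫ g)
        sqS.isoPullback_hom_fst)).trans ?_
      exact (congrArg (fun g => g.left) (pullback.diagonal_fst i)).trans (pullback.diagonal_fst i.left).symm
    · refine ((Category.assoc _ _ _).trans (congrArg (fun g => (pullback.diagonal i).left ≫ g)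
        sqS.isoPullback_hom_snd)).trans ?_
      exact (congrArg (fun g => g.left) (pullback.diagonal_snd i)).trans (pullback.diagonal_snd i.left).symm
  have hh := h
  rw [← e'] at hh
  exact (R.cancel_right_of_respectsIso _ _).1 hh

/-- A scheme with a property of the diagonal, read on its category over the base. -/
theorem diagonal_repWith_toSelf {R : MorphismProperty Scheme.{u}} [R.IsStableUnderBaseChange] {X : Over S}
    (hX : R (pullback.diagonal X.hom)) {𝒲 : AlgSt.Cat S} (x : FibCat.overCat X ⥤ᵇ 𝒲) :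
    RepByAlgSpWith (AlgSp.RepWith R).diagonal (BasedFunctor.comp x (FibCat.toSelf 𝒲)) := by
  let T : Over S := Over.mk (𝟙 S)
  let h : X ⟶ T := Over.homMk X.hom (Category.comp_id _)
  have i : BasedFunctor.comp x (FibCat.toSelf 𝒲) ≅
      BasedFunctor.comp (overMap h) (FibCat.toSelf (FibCat.overCat T)) :=
    toSelfIso x ≪≫ (toSelfIso (overMap h)).symm
  refine (repWith_congr i).2 ((repWith_postcomp toSelf_isEquivOver_of_terminal _).2 ?_)
  refine repWith_mono (fun F U hF a ha => ?_) (repWith_overMap (R := R.diagonal) (j := h) hX)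
  obtain ⟨W, i', fst, sq, hW⟩ : ∃ (W : Over S) (i' : W ⟶ U) (fst : (AlgSp.yon S).obj W ⟶ F),
      IsPullback fst ((AlgSp.yon S).map i') a (𝟙 _) ∧ R.diagonal i'.left := by
    have := Groth.L23.repWith_snd ha (𝟙 _)
    exact ⟨_, ha.1.snd (𝟙 _), ha.1.fst (𝟙 _), ha.1.isPullback (𝟙 _), this⟩
  have : IsIso fst := sq.isIso_fst_of_isIso
  have e : a = inv fst ≫ (AlgSp.yon S).map i' := by
    rw [IsIso.eq_inv_comp, sq.w, Category.comp_id]
  rw [e]
  exact ((AlgSp.RepWith (S := S) R).diagonal.cancel_left_of_respectsIso _ _).2 (diagonal_repWith_map i' hW)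

/-- The diagonal is affine as soon as an affine flat chart has a source with affine diagonal. -/
theorem diag_affine_of_chart (h1 : FibCat.IsFibGrpd 𝒳.p) (hd : RepByAlgSp1 (FibCat.diag (FibCat.toSelf 𝒳)))
    {X : Over S} (hX : IsAffineHom (pullback.diagonal X.hom)) {x : FibCat.overCat X ⥤ᵇ 𝒳}
    (hx₁ : RepByAlgSpWith (AlgSp.LocP @Flat) x)
    (hx₂ : RepByAlgSpWith (AlgSp.LocP @LocallyOfFinitePresentation) x)
    (hx₃ : RepByAlgSpWith AlgSp.IsSurjectiveMor x) (hx : RepByAlgSpWith AlgSp.IsAffineMor x) :
    RepByAlgSpWith AlgSp.IsAffineMor (FibCat.diag (FibCat.toSelf 𝒳)) := by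
  have hS : FibCat.IsFibGrpd (FibCat.selfOver (Over S)).p := (L09.Fib.isFibSet_id _).1
  have hW := overCat_isFibGrpd X
  let t := FibCat.toSelf 𝒳
  have hz : ∀ {Q : MorphismProperty Scheme.{u}}, Groth.L23.EtLocal Q →
      RepByAlgSpWith (AlgSp.LocP Q) x → RepByAlgSpWith (AlgSp.LocP Q) (cmpMap x x t) := fun hQ h =>
    (repWith_congr (cmpMapIso x x t)).1 (fpMap_repWith hasAtlasCovers_atlasCov
      (pBase_locP hQ) (pComp_locP hQ) (isLocalOnBase_locP hQ) hW h1 hW hS h h)
  have hzf := hz Groth.L23.etLocal_flat hx₁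
  have hzs : RepByAlgSpWith AlgSp.IsSurjectiveMor (cmpMap x x t) :=
    (repWith_congr (cmpMapIso x x t)).1 (repWith_surjective_of_isSurjective (L09.Fib.fp_isFibGrpd hW hW hS)
      (L09.Fib.fp_isFibGrpd h1 h1 hS) (repWith_rep1 ((repWith_congr (cmpMapIso x x t)).2 hzf))
      (isSurjective_legs h1 hW h1 hW hS x x _ _ (isSurjective_of_repWith hW h1 hx₃)
        (isSurjective_of_repWith hW h1 hx₃)))
  refine repWith_of_fpFst_cover hasAtlasCovers_fppf Groth.L24.Tors.pBase_affine
    Groth.L24.Tors.isLocalOnBase_fppf_affine (fun _ _ _ h => h) h1 (L09.Fib.fp_isFibGrpd h1 h1 hS)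
    (L09.Fib.fp_isFibGrpd hW hW hS) hd hzf (hz Groth.L23.etLocal_lfp hx₂) hzs ?_
  have h2 : RepByAlgSpWith AlgSp.IsAffineMor (fpPost x x t) := by
    refine repWith_of_comp_of Groth.L24.Tors.pBase_affine
      (Q := (AlgSp.RepWith @IsAffineHom).diagonal) (fun A B C _ _ _ a b hb hab => ?_)
      (b := FibCat.fpFst (BasedFunctor.comp x t) (BasedFunctor.comp x t))
      (repWith_fpFst _ (diagonal_repWith_toSelf hX x)) ?_
    · have : MorphismProperty.HasOfPostcompProperty (AlgSp.RepWith (S := S) @IsAffineHom)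
          (AlgSp.RepWith (S := S) @IsAffineHom).diagonal :=
        MorphismProperty.hasOfPostcompProperty_iff_le_diagonal.2 le_rfl
      exact Groth.L23.isAffineMor_iff.2 (MorphismProperty.of_postcomp _
        (W' := (AlgSp.RepWith (S := S) @IsAffineHom).diagonal) a b hb (Groth.L23.isAffineMor_iff.1 hab))
    · exact repWith_fpFst x hx
  rw [← cmpLift_fst x x t] at h2
  exact (repWith_precomp (cmpLift_isEquivOver x x t) _).1 h2

end Groth.L24.St
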