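import Groth.Agent.L24.St.QuasiAffineDiag
import Groth.Agent.L24.Tors.QuotEtale

/-!
The diagonal from one chart, and quasi-affine morphisms of spaces to quasi-separated schemes.
-/

set_option autoImplicit false
set_option backward.isDefEq.respectTransparency false
set_option backward.isDefEq.respectTransparency.types false

universe u

open CategoryTheory CategoryTheory.Limits AlgebraicGeometry Opposite AlgSt

noncomputable section

namespace Groth.L24.St

open Groth.L24.LocQ

variable {S : Scheme.{u}}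

open AlgSp in
/-- Quasi-affineness is cancelled against quasi-separated morphisms of schemes. -/
theorem isQuasiAffineMor_of_comp_qs {W T : Over S} (w : W ⟶ T) [QuasiSeparated w.left] {F : Sp S}
    (a : F ⟶ (yon S).obj W) (h : IsQuasiAffineMor (a ≫ (yon S).map w)) : IsQuasiAffineMor a := by
  intro Z hZ k
  obtain ⟨k, rfl⟩ := (yon S).map_surjective k
  obtain ⟨Q, i, fstQ, sq, hQ⟩ := h hZ ((yon S).map (k ≫ w))
  have sqP := IsPullback.of_hasPullback w (k ≫ w)
  obtain ⟨q, hq⟩ := (yon S).map_surjective (fstQ ≫ a)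
  have hw : q ≫ w = i ≫ k ≫ w := (yon S).map_injective (by
    rw [Functor.map_comp, hq, Category.assoc, sq.w, ← Functor.map_comp])
  let l : Q ⟶ pullback w (k ≫ w) := pullback.lift q i hw
  have sql : IsPullback fstQ ((yon S).map l) a ((yon S).map (pullback.fst w (k ≫ w))) := by
    refine IsPullback.of_bot ?_ (by rw [← Functor.map_comp, pullback.lift_fst, hq]) (sqP.map (yon S))
    rw [← Functor.map_comp, pullback.lift_snd]
    exact sq
  let Γ : Z ⟶ pullback w (k ≫ w) := pullback.lift k (𝟙 Z) (Category.id_comp _).symm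
  have : QuasiSeparated (pullback.snd w (k ≫ w)).left :=
    MorphismProperty.of_isPullback (P := @QuasiSeparated) (sqP.map (Over.forget S)) ‹_›
  have hΓ : Γ.left ≫ (pullback.snd w (k ≫ w)).left = 𝟙 _ := by
    rw [← Over.comp_left, pullback.lift_snd, Over.id_left]
  have : IsImmersion Γ.left := by
    have : IsImmersion (Γ.left ≫ (pullback.snd w (k ≫ w)).left) := by rw [hΓ]; infer_instance
    exact IsImmersion.of_comp Γ.left (pullback.snd w (k ≫ w)).left
  have : QuasiCompact Γ.left := by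
    have : QuasiCompact (Γ.left ≫ (pullback.snd w (k ≫ w)).left) := by rw [hΓ]; infer_instance
    exact QuasiCompact.of_comp Γ.left (pullback.snd w (k ≫ w)).left
  have sqE := IsPullback.of_hasPullback l Γ
  have : IsImmersion (pullback.fst l Γ).left :=
    MorphismProperty.of_isPullback (P := @IsImmersion) (sqE.map (Over.forget S)).flip ‹_›
  have : QuasiCompact (pullback.fst l Γ).left :=
    MorphismProperty.of_isPullback (P := @QuasiCompact) (sqE.map (Over.forget S)).flip ‹_›
  have := hQ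
  have : CompactSpace Q.left := hQ.toCompactSpace
  have : CompactSpace (pullback l Γ).left :=
    QuasiCompact.compactSpace_of_compactSpace (pullback.fst l Γ).left
  refine ⟨pullback l Γ, pullback.snd l Γ, (yon S).map (pullback.fst l Γ) ≫ fstQ, ?_,
    Scheme.IsQuasiAffine.of_isImmersion (pullback.fst l Γ).left⟩
  have := (sqE.map (yon S)).paste_horiz sql
  rwa [← Functor.map_comp, pullback.lift_fst] at this

theorem isQuasiAffineMor_of_isAffineMor {F G : AlgSp.Sp S} {f : F ⟶ G} (h : AlgSp.IsAffineMor f) :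
    AlgSp.IsQuasiAffineMor f := fun Z hZ g => by
  obtain ⟨W, i, fst, sq, hW⟩ := h hZ g
  exact ⟨W, i, fst, sq, inferInstance⟩

theorem isLocalOnBase_fppf_quasiAffine :
    AlgSp.IsLocalOnBase AlgSp.IsFppfCover (AlgSp.IsQuasiAffineMor : MorphismProperty (AlgSp.Sp S)) :=
  fun {_ _} Yi g hY hYi hcov {_} f hX Xi p q hXi sq => Groth.L23.isLocalOnBase_fpqc_quasiAffine Yi g hY hYi
    (Groth.L23.isFpqcCover_of_isFppfCover hY hYi hcov) f hX Xi p q hXi sq

variable {𝒳 : AlgSt.Cat S}

/-- A base change of the diagonal to the square of a flat chart decides the property. -/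
theorem diag_of_chart_witness {P : MorphismProperty (AlgSp.Sp S)} (hP : PBase P)
    (hPl : AlgSp.IsLocalOnBase AlgSp.IsFppfCover P) (h1 : FibCat.IsFibGrpd 𝒳.p)
    (hd : RepByAlgSp1 (FibCat.diag (FibCat.toSelf 𝒳))) {U : Over S} {x : FibCat.overCat U ⥤ᵇ 𝒳}
    (hx₁ : RepByAlgSpWith (AlgSp.LocP @Flat) x)
    (hx₂ : RepByAlgSpWith (AlgSp.LocP @LocallyOfFinitePresentation) x)
    (hx₃ : RepByAlgSpWith AlgSp.IsSurjectiveMor x)
    (hw : Wit P (pairMap x x) (FibCat.diag (FibCat.toSelf 𝒳))) :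
    RepByAlgSpWith P (FibCat.diag (FibCat.toSelf 𝒳)) := by
  have hS : FibCat.IsFibGrpd (FibCat.selfOver (Over S)).p := (L09.Fib.isFibSet_id _).1
  have hW := overCat_isFibGrpd U
  let t := FibCat.toSelf 𝒳
  have hz : ∀ {Q : MorphismProperty Scheme.{u}}, Groth.L23.EtLocal Q →
      RepByAlgSpWith (AlgSp.LocP Q) x → RepByAlgSpWith (AlgSp.LocP Q) (cmpMap x x t) := fun hQ h =>
    (repWith_congr (cmpMapIso x x t)).1 (fpMap_repWith hasAtlasCovers_atlasCov
      (pBase_locP hQ) (pComp_locP hQ) (isLocalOnBase_locP hQ) hW h1 hW hS h h)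
  have hzf := hz Groth.L23.etLocal_flat hx₁
  have hzs : RepByAlgSpWith AlgSp.IsSurjectiveMor (cmpMap x x t) :=
    (repWith_congr (cmpMapIso x x t)).1 (repWith_surjective_of_isSurjective (L09.Fib.fp_isFibGrpd hW hW hS)
      (L09.Fib.fp_isFibGrpd h1 h1 hS) (repWith_rep1 ((repWith_congr (cmpMapIso x x t)).2 hzf))
      (isSurjective_legs h1 hW h1 hW hS x x _ _ (isSurjective_of_repWith hW h1 hx₃)
        (isSurjective_of_repWith hW h1 hx₃)))
  have hE := pairFp_isEquivOver x x
  refine repWith_of_fpFst_cover hasAtlasCovers_fppf hP hPl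
    (fun _ _ _ h => h) h1 (L09.Fib.fp_isFibGrpd h1 h1 hS) (overCat_isFibGrpd _) hd
    (z := pairMap x x) ((repWith_precomp hE _).2 hzf) ((repWith_precomp hE _).2 (hz Groth.L23.etLocal_lfp hx₂))
    ((repWith_precomp hE _).2 hzs) ?_
  obtain ⟨F, e, he, ha⟩ := hw
  exact (repWith_precomp he _).1 ((repWith_congr (overFactor _)).2
    ((repWith_postcomp (toOverCat_isEquivOver _) _).2
      (repWith_ofSpMap_of_prop hP F.property (AlgSp.IsAlgSpace.yon_obj _) _ ha)))

end Groth.L24.St

namespace Groth.L24.St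

open MonoidalCategory

variable {S : Scheme.{u}}

/-- An affine point `x` makes the base change of the diagonal to `X × X` affine over the first factor. -/
theorem affine_pair_fst {𝒳 : AlgSt.Cat S} {X : Over S} {x : FibCat.overCat X ⥤ᵇ 𝒳}
    (hx : RepByAlgSpWith AlgSp.IsAffineMor x) {F : AlgSp.Space S}
    {e : ofSp F.obj ⥤ᵇ FibCat.fp (pairMap x x) (FibCat.diag (FibCat.toSelf 𝒳))} (he : FibCat.IsEquivOver e) :
    AlgSp.IsAffineMor (AlgSt.spMapOfOver (BasedFunctor.comp e (FibCat.fpFst _ _)) ≫ (AlgSp.yon S).map (pairP₁ X X)) := by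
  obtain ⟨e', he', h₁, -⟩ := exists_pair_equiv x x he
  rw [← h₁]
  exact Wit.prop_of_equiv (fun A B hA hB i _ b hb =>
    Groth.L24.Tors.pBase_affine.iso_left hA hB (AlgSp.IsAlgSpace.yon_obj _) i hb) (hx X x) F.property e' he'

/-- The diagonal point of `X` in the base change of the diagonal to `X × X`. -/
theorem exists_pair_diag_section {𝒳 : AlgSt.Cat S} {X : Over S} (x : FibCat.overCat X ⥤ᵇ 𝒳) {F : AlgSp.Space S}
    {e : ofSp F.obj ⥤ᵇ FibCat.fp (pairMap x x) (FibCat.diag (FibCat.toSelf 𝒳))} (he : FibCat.IsEquivOver e) :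
    ∃ σ : (AlgSp.yon S).obj X ⟶ F.obj,
      σ ≫ AlgSt.spMapOfOver (BasedFunctor.comp e (FibCat.fpFst _ _)) ≫ (AlgSp.yon S).map (pairP₁ X X) = 𝟙 _ ∧
      σ ≫ AlgSt.spMapOfOver (BasedFunctor.comp e (FibCat.fpFst _ _)) ≫ (AlgSp.yon S).map (pairP₂ X X) = 𝟙 _ := by
  obtain ⟨e', he', h₁, h₂⟩ := exists_pair_equiv x x he
  obtain ⟨c, -, -, ⟨ic⟩⟩ := exists_inverse he'
  let L := FibCat.fpLift (F := x) (G := x) (BasedFunctor.id _) (BasedFunctor.id _) (Iso.refl _)
  let Ψ := BasedFunctor.comp (BasedFunctor.comp (toOverCat X) L) c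
  refine ⟨spMap Ψ, ?_, ?_⟩
  · rw [← h₁, ← spMapOfOver_ofSpMap_comp, ← spMapOfOver_congr (whiskerR (isoOfSpMap Ψ) _),
      show BasedFunctor.comp Ψ (BasedFunctor.comp e' (FibCat.fpFst x x)) =
        BasedFunctor.comp (BasedFunctor.comp (toOverCat X) L) (BasedFunctor.comp (BasedFunctor.comp c e') (FibCat.fpFst x x)) from rfl,
      spMapOfOver_congr (whiskerL (BasedFunctor.comp (toOverCat X) L) (whiskerR ic (FibCat.fpFst x x)))]
    exact spMapOfOver_toOverCat X
  · rw [← h₂, ← spMapOfOver_ofSpMap_comp, ← spMapOfOver_congr (whiskerR (isoOfSpMap Ψ) _),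
      show BasedFunctor.comp Ψ (BasedFunctor.comp e' (FibCat.fpSnd x x)) =
        BasedFunctor.comp (BasedFunctor.comp (toOverCat X) L) (BasedFunctor.comp (BasedFunctor.comp c e') (FibCat.fpSnd x x)) from rfl,
      spMapOfOver_congr (whiskerL (BasedFunctor.comp (toOverCat X) L) (whiskerR ic (FibCat.fpSnd x x)))]
    exact spMapOfOver_toOverCat X

/-- If the diagonal of the stack and an atlas are affine, so is the diagonal of the atlas. -/
theorem isAffineHom_diagonal_of_chart {𝒳 : AlgSt.Cat S} {X : Over S} {x : FibCat.overCat X ⥤ᵇ 𝒳}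
    (hd : RepByAlgSpWith AlgSp.IsAffineMor (FibCat.diag (FibCat.toSelf 𝒳)))
    (hx : RepByAlgSpWith AlgSp.IsAffineMor x) : IsAffineHom (pullback.diagonal X.hom) := by
  obtain ⟨F, e, he, ha⟩ := hd _ (pairMap x x)
  have hb := affine_pair_fst hx he
  obtain ⟨σ, hσ₁, hσ₂⟩ := exists_pair_diag_section x he
  generalize AlgSt.spMapOfOver (BasedFunctor.comp e (FibCat.fpFst _ _)) = a at ha hb hσ₁ hσ₂
  have ha' := Groth.L23.isAffineMor_iff.1 ha
  have hi : IsAffineHom (ha'.1.snd (𝟙 _)).left := Groth.L23.repWith_snd ha' (𝟙 _)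
  have sq := ha'.1.isPullback (𝟙 _)
  have : IsIso (ha'.1.fst (𝟙 _)) := sq.isIso_fst_of_isIso
  obtain ⟨W, i, c, hc, hi, e0⟩ : ∃ (W : Over S) (i : W ⟶ pairSch X X) (c : F.obj ⟶ (AlgSp.yon S).obj W),
      IsIso c ∧ IsAffineHom i.left ∧ a = c ≫ (AlgSp.yon S).map i :=
    ⟨_, ha'.1.snd (𝟙 _), inv (ha'.1.fst (𝟙 _)), inferInstance, hi, by
      rw [IsIso.eq_inv_comp, sq.w, Category.comp_id]⟩
  subst e0
  obtain ⟨s, hs⟩ := (AlgSp.yon S).map_surjective (σ ≫ c)
  have key : ∀ p : pairSch X X ⟶ X, σ ≫ (c ≫ (AlgSp.yon S).map i) ≫ (AlgSp.yon S).map p = 𝟙 _ → s ≫ i ≫ p = 𝟙 _ :=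
    fun p hp => (AlgSp.yon S).map_injective (by
      rw [Functor.map_comp, Functor.map_comp, hs, CategoryTheory.Functor.map_id, ← hp]
      simp only [Category.assoc])
  have h1 := key _ hσ₁
  have h2 := key _ hσ₂
  have : IsAffineHom (i ≫ pairP₁ X X).left := by
    rw [Category.assoc, ← Functor.map_comp] at hb
    exact (AlgSp.repWith_yon_map_iff @IsAffineHom _).1
      (((AlgSp.RepWith (S := S) @IsAffineHom).cancel_left_of_respectsIso _ _).1 (Groth.L23.isAffineMor_iff.1 hb))
  have : IsClosedImmersion s.left := by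
    have h1' : s.left ≫ (i ≫ pairP₁ X X).left = 𝟙 _ := by rw [← Over.comp_left, h1, Over.id_left]
    have : IsClosedImmersion (s.left ≫ (i ≫ pairP₁ X X).left) := by rw [h1']; infer_instance
    exact IsClosedImmersion.of_comp s.left (i ≫ pairP₁ X X).left
  have e : pullback.diagonal X.hom = s.left ≫ i.left := by
    refine pullback.hom_ext ?_ ?_
    · rw [pullback.diagonal_fst, Category.assoc]
      exact (congrArg (fun g => g.left) h1).symm
    · rw [pullback.diagonal_snd, Category.assoc]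
      exact (congrArg (fun g => g.left) h2).symm
  rw [e]
  infer_instance

variable {G : Over S} [GrpObj G] [IsAffineHom G.hom] [Flat G.hom] [LocallyOfFinitePresentation G.hom]
  {X : Over S} (aX : AlgGrp.Action G X)

/-- The quotient map of an affine group is affine. -/
theorem repWith_quotMap_affine : RepByAlgSpWith AlgSp.IsAffineMor
    (BasedFunctor.comp (AlgSt.ofOverCat X) (AlgSt.quotMap Scheme.fppfPrecoverage G aX)) :=
  (Groth.L24.Tors.repWith_quotMap_iff Groth.L24.Tors.isEquivOver_toSpQuot_fppf _).2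
    (Groth.L24.Tors.Quot.repByAlgSpWith_trivMap (Groth.L24.Tors.schAction aX) (AlgSp.IsAlgSpace.yon_obj _)
      (Groth.L24.Tors.isAlgSpace_schSp G) _ Groth.L24.Tors.pBase_affine Groth.L24.Tors.isLocalOnBase_fppf_affine
      (Groth.L23.isAffineMor_iff.2 (Groth.L23.repWith_map (P := @IsAffineHom) (show IsAffineHom G.hom from inferInstance))))

end Groth.L24.St
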