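import Groth.Agent.L24.St.Calc

/-!
Diagonals, graphs and comparison functors as base changes of diagonals.
-/

set_option autoImplicit false
set_option backward.isDefEq.respectTransparency false
set_option backward.isDefEq.respectTransparency.types false

universe v₆ u₆ v₅ u₅ v₄ u₄ v₃ u₃ v₂ u₂ v u

open CategoryTheory CategoryTheory.Limits Category

namespace Groth.L24.St

variable {C : Type u} [Category.{v} C] {𝒳 : BasedCategory.{v₂, u₂} C} {𝒴 : BasedCategory.{v₃, u₃} C}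
  {𝒵 : BasedCategory.{v₄, u₄} C} {𝒯 : BasedCategory.{v₅, u₅} C}

section Comparison

variable (f : 𝒳 ⥤ᵇ 𝒵) (g : 𝒴 ⥤ᵇ 𝒵) (t : 𝒵 ⥤ᵇ 𝒯)

theorem eq_mkIso2 {𝒜 : BasedCategory.{v₆, u₆} C} {F G : 𝒜 ⥤ᵇ 𝒯} (e : F ≅ G) (i : ∀ x, F.obj x ≅ G.obj x) (w h)
    (he : ∀ x, e.hom.toNatTrans.app x = (i x).hom) : e = mkIso2 i w h := by
  apply Iso.ext
  apply BasedNatTrans.homCategory.ext
  ext x
  exact he x

/-- Any comparison functor with the standard 2-isomorphism is the standard one. -/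
theorem fpPost_eq
    (e : BasedFunctor.comp (FibCat.fpFst f g) (BasedFunctor.comp f t) ≅
      BasedFunctor.comp (FibCat.fpSnd f g) (BasedFunctor.comp g t))
    (he : ∀ x, e.hom.toNatTrans.app x = t.map x.obj.iso.hom) :
    FibCat.fpLift (FibCat.fpFst f g) (FibCat.fpSnd f g) e = fpPost f g t := by
  unfold fpPost
  rw [eq_mkIso2 (F := BasedFunctor.comp (FibCat.fpFst f g) (BasedFunctor.comp f t))
    (G := BasedFunctor.comp (FibCat.fpSnd f g) (BasedFunctor.comp g t)) e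
    (fun x => t.toFunctor.mapIso x.obj.iso) _ _ he]

/-- The map to the self product along which the comparison functor is pulled back from the diagonal. -/
def cmpMap : FibCat.fp (BasedFunctor.comp f t) (BasedFunctor.comp g t) ⥤ᵇ FibCat.fp t t :=
  FibCat.fpLift (BasedFunctor.comp (FibCat.fpFst _ _) f) (BasedFunctor.comp (FibCat.fpSnd _ _) g)
    (FibCat.fpIso (BasedFunctor.comp f t) (BasedFunctor.comp g t))

/-- The comparison square. -/
def cmpSquare : BasedFunctor.comp (fpPost f g t) (cmpMap f g t) ≅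
    BasedFunctor.comp (BasedFunctor.comp (FibCat.fpFst f g) f) (FibCat.diag t) :=
  mkIso2 (fun x => fpIsoMk (Iso.refl _) x.obj.iso.symm (by
      show t.map (𝟙 _) ≫ 𝟙 _ = t.map x.obj.iso.hom ≫ t.map x.obj.iso.inv
      rw [← t.toFunctor.map_comp, Iso.hom_inv_id, CategoryTheory.Functor.map_id]
      exact Category.id_comp _))
    (fun x y m => fp_ext (show f.map m.hom.fst ≫ 𝟙 _ = 𝟙 _ ≫ f.map m.hom.fst by simp)
      (show g.map m.hom.snd ≫ y.obj.iso.inv = x.obj.iso.inv ≫ f.map m.hom.fst by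
        rw [Iso.eq_inv_comp, ← Category.assoc, Iso.comp_inv_eq]
        exact m.hom.w.symm))
    (fun x => overId_fp _ (overId_id _))

/-- The comparison functor as a base change of the diagonal. -/
def cmpLift : FibCat.fp f g ⥤ᵇ FibCat.fp (cmpMap f g t) (FibCat.diag t) :=
  FibCat.fpLift (fpPost f g t) (BasedFunctor.comp (FibCat.fpFst f g) f) (cmpSquare f g t)

theorem cmpLift_isEquivOver : FibCat.IsEquivOver (cmpLift f g t) := by
  have : (cmpLift f g t).toFunctor.Faithful := ⟨fun {x y m m'} h =>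
    fp_ext (congrArg (fun k : (cmpLift f g t).obj x ⟶ (cmpLift f g t).obj y => k.hom.fst.hom.fst) h)
      (congrArg (fun k : (cmpLift f g t).obj x ⟶ (cmpLift f g t).obj y => k.hom.fst.hom.snd) h)⟩
  have : (cmpLift f g t).toFunctor.Full := ⟨fun {x y} M => by
    have h1 : f.map M.hom.fst.hom.fst ≫ 𝟙 _ = 𝟙 _ ≫ M.hom.snd :=
      congrArg (fun k : ((cmpMap f g t).obj ((cmpLift f g t).obj x).obj.fst) ⟶
        ((FibCat.diag t).obj ((cmpLift f g t).obj y).obj.snd) => k.hom.fst) M.hom.w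
    have h2 : g.map M.hom.fst.hom.snd ≫ y.obj.iso.inv = x.obj.iso.inv ≫ M.hom.snd :=
      congrArg (fun k : ((cmpMap f g t).obj ((cmpLift f g t).obj x).obj.fst) ⟶
        ((FibCat.diag t).obj ((cmpLift f g t).obj y).obj.snd) => k.hom.snd) M.hom.w
    rw [Category.comp_id, Category.id_comp] at h1
    refine ⟨fpHom M.hom.fst.hom.fst M.hom.fst.hom.snd ?_, fp_ext (fp_ext rfl rfl) h1⟩
    rw [Iso.comp_inv_eq, Category.assoc, Iso.eq_inv_comp] at h2
    rw [h1]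
    exact h2.symm⟩
  refine isEquivOver_of_overId _ fun η => ?_
  let a : f.obj η.obj.fst.obj.fst ≅ η.obj.snd :=
    (FibCat.fpFst t t).toFunctor.mapIso η.obj.iso
  let b : g.obj η.obj.fst.obj.snd ≅ η.obj.snd :=
    (FibCat.fpSnd t t).toFunctor.mapIso η.obj.iso
  have ha : OverId a.hom := (fp_overId η).map (FibCat.fpFst t t)
  have hb : OverId b.hom := (fp_overId η).map (FibCat.fpSnd t t)
  have hw : t.map a.hom ≫ 𝟙 _ = η.obj.fst.obj.iso.hom ≫ t.map b.hom := η.obj.iso.hom.hom.w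
  rw [Category.comp_id] at hw
  refine ⟨fpObj η.obj.fst.obj.fst η.obj.fst.obj.snd (a ≪≫ b.symm) (ha.comp hb.inv),
    fpIsoMk (fpIsoMk (Iso.refl _) (Iso.refl _) ?_) a ?_, overId_fp _ (overId_fp _ (overId_id _))⟩
  · show t.map (f.map (𝟙 _)) ≫ η.obj.fst.obj.iso.hom = t.map (a.hom ≫ b.inv) ≫ t.map (g.map (𝟙 _))
    rw [← Functor.map_comp]
    simp only [CategoryTheory.Functor.map_id, Category.id_comp, Category.comp_id]
    rw [Functor.map_comp, hw]
    refine (?_ : _ = (η.obj.fst.obj.iso.hom ≫ t.map b.hom) ≫ t.map b.inv)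
    rw [Category.assoc, ← Functor.map_comp, Iso.hom_inv_id, CategoryTheory.Functor.map_id]
    exact (Category.comp_id _).symm
  · refine fp_ext ?_ ?_
    · show f.map (𝟙 _) ≫ a.hom = 𝟙 _ ≫ a.hom
      simp
    · show g.map (𝟙 _) ≫ b.hom = (b.hom ≫ a.inv) ≫ a.hom
      simp

theorem cmpLift_fst : BasedFunctor.comp (cmpLift f g t) (FibCat.fpFst _ _) = fpPost f g t := rfl

end Comparison

section Graph

variable {p : 𝒳 ⥤ᵇ 𝒯} {q : 𝒴 ⥤ᵇ 𝒯} (g : 𝒳 ⥤ᵇ 𝒴)
  (e : BasedFunctor.comp (BasedFunctor.id 𝒳) p ≅ BasedFunctor.comp g q)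

/-- The graph. -/
abbrev graphFun : 𝒳 ⥤ᵇ FibCat.fp p q := FibCat.fpLift (BasedFunctor.id 𝒳) g e

/-- The map to the self product along which the graph is pulled back from the diagonal. -/
def graphMap : FibCat.fp p q ⥤ᵇ FibCat.fp q q :=
  fpMap g (BasedFunctor.id 𝒴) (show BasedFunctor.comp g q ≅ p from e.symm) (Iso.refl _)

/-- The graph square. -/
def graphSquare : BasedFunctor.comp (graphFun g e) (graphMap g e) ≅ BasedFunctor.comp g (FibCat.diag q) :=
  mkIso2 (fun x => fpIsoMk (Iso.refl _) (Iso.refl _) (by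
      show q.map (𝟙 _) ≫ 𝟙 _ = ((appIso e x).inv ≫ (appIso e x).hom ≫ 𝟙 _) ≫ q.map (𝟙 _)
      simp [-appIso_hom, -appIso_inv]))
    (fun x y m => fp_ext (show g.map m ≫ 𝟙 _ = 𝟙 _ ≫ g.map m by simp)
      (show g.map m ≫ 𝟙 _ = 𝟙 _ ≫ g.map m by simp))
    (fun x => overId_fp _ (overId_id _))

/-- The graph as a base change of the diagonal. -/
def graphLift : 𝒳 ⥤ᵇ FibCat.fp (graphMap g e) (FibCat.diag q) :=
  FibCat.fpLift (graphFun g e) g (graphSquare g e)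

theorem graphLift_isEquivOver : FibCat.IsEquivOver (graphLift g e) := by
  have : (graphLift g e).toFunctor.Faithful := ⟨fun {x y m m'} h =>
    congrArg (fun k : (graphLift g e).obj x ⟶ (graphLift g e).obj y => k.hom.fst.hom.fst) h⟩
  have : (graphLift g e).toFunctor.Full := ⟨fun {x y} M => by
    have h1 : g.map M.hom.fst.hom.fst ≫ 𝟙 _ = 𝟙 _ ≫ M.hom.snd :=
      congrArg (fun k : ((graphMap g e).obj ((graphLift g e).obj x).obj.fst) ⟶
        ((FibCat.diag q).obj ((graphLift g e).obj y).obj.snd) => k.hom.fst) M.hom.w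
    have h2 : M.hom.fst.hom.snd ≫ 𝟙 _ = 𝟙 _ ≫ M.hom.snd :=
      congrArg (fun k : ((graphMap g e).obj ((graphLift g e).obj x).obj.fst) ⟶
        ((FibCat.diag q).obj ((graphLift g e).obj y).obj.snd) => k.hom.snd) M.hom.w
    rw [Category.comp_id, Category.id_comp] at h1 h2
    exact ⟨M.hom.fst.hom.fst, fp_ext (fp_ext rfl (h1.trans h2.symm)) h1⟩⟩
  refine isEquivOver_of_overId _ fun η => ?_
  let a : g.obj η.obj.fst.obj.fst ≅ η.obj.snd :=
    (FibCat.fpFst q q).toFunctor.mapIso η.obj.iso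
  let b : η.obj.fst.obj.snd ≅ η.obj.snd :=
    (FibCat.fpSnd q q).toFunctor.mapIso η.obj.iso
  have hw : q.map a.hom ≫ 𝟙 _ = ((appIso e η.obj.fst.obj.fst).inv ≫ η.obj.fst.obj.iso.hom ≫ 𝟙 _) ≫
      q.map b.hom := η.obj.iso.hom.hom.w
  refine ⟨η.obj.fst.obj.fst, fpIsoMk (fpIsoMk (Iso.refl _) (a ≪≫ b.symm) ?_) a ?_,
    overId_fp _ (overId_fp _ (overId_id _))⟩
  · show p.map (𝟙 _) ≫ η.obj.fst.obj.iso.hom =
      (appIso e η.obj.fst.obj.fst).hom ≫ q.map (a.hom ≫ b.inv)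
    simp only [Category.comp_id] at hw
    rw [Functor.map_comp, hw]
    simp only [Category.assoc, ← Functor.map_comp, Iso.hom_inv_id]
    simp [-appIso_hom, -appIso_inv]
  · refine fp_ext ?_ ?_
    · show g.map (𝟙 _) ≫ a.hom = 𝟙 _ ≫ a.hom
      simp
    · show (a.hom ≫ b.inv) ≫ b.hom = 𝟙 _ ≫ a.hom
      simp

theorem graphLift_fst : BasedFunctor.comp (graphLift g e) (FibCat.fpFst _ _) = graphFun g e := rfl

end Graph

section BaseChange

variable (g : 𝒵 ⥤ᵇ 𝒴) (f : 𝒳 ⥤ᵇ 𝒴)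

/-- The map to the self product along which the diagonal of a base change is pulled back. -/
def bcMap : FibCat.fp (FibCat.fpFst g f) (FibCat.fpFst g f) ⥤ᵇ FibCat.fp f f :=
  FibCat.fpLift (BasedFunctor.comp (FibCat.fpFst _ _) (FibCat.fpSnd g f))
    (BasedFunctor.comp (FibCat.fpSnd _ _) (FibCat.fpSnd g f))
    (mkIso2 (fun w => w.obj.fst.obj.iso.symm ≪≫ g.toFunctor.mapIso w.obj.iso ≪≫ w.obj.snd.obj.iso)
      (fun w w' m => by
        show f.map m.hom.fst.hom.snd ≫ w'.obj.fst.obj.iso.inv ≫ g.map w'.obj.iso.hom ≫ w'.obj.snd.obj.iso.hom =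
          (w.obj.fst.obj.iso.inv ≫ g.map w.obj.iso.hom ≫ w.obj.snd.obj.iso.hom) ≫ f.map m.hom.snd.hom.snd
        simp only [Category.assoc]
        rw [Iso.eq_inv_comp]
        have e1 := m.hom.fst.hom.w
        have e2 := m.hom.w
        have e3 := m.hom.snd.hom.w
        change g.map m.hom.fst.hom.fst ≫ w'.obj.fst.obj.iso.hom =
          w.obj.fst.obj.iso.hom ≫ f.map m.hom.fst.hom.snd at e1
        change m.hom.fst.hom.fst ≫ w'.obj.iso.hom = w.obj.iso.hom ≫ m.hom.snd.hom.fst at e2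
        change g.map m.hom.snd.hom.fst ≫ w'.obj.snd.obj.iso.hom =
          w.obj.snd.obj.iso.hom ≫ f.map m.hom.snd.hom.snd at e3
        rw [← reassoc_of% e1, Iso.hom_inv_id_assoc, ← Functor.map_comp_assoc, e2, Functor.map_comp_assoc, e3])
      (fun w => (fp_overId w.obj.fst).inv.comp (((fp_overId w).map g).comp (fp_overId w.obj.snd))))

/-- The base change square. -/
def bcSquare : BasedFunctor.comp (FibCat.diag (FibCat.fpFst g f)) (bcMap g f) ≅
    BasedFunctor.comp (FibCat.fpSnd g f) (FibCat.diag f) :=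
  mkIso2 (fun x => fpIsoMk (Iso.refl _) (Iso.refl _) (by
      show f.map (𝟙 _) ≫ 𝟙 _ = (x.obj.iso.inv ≫ g.map (𝟙 _) ≫ x.obj.iso.hom) ≫ f.map (𝟙 _)
      simp))
    (fun x y m => fp_ext (show m.hom.snd ≫ 𝟙 _ = 𝟙 _ ≫ m.hom.snd by simp)
      (show m.hom.snd ≫ 𝟙 _ = 𝟙 _ ≫ m.hom.snd by simp))
    (fun x => overId_fp _ (overId_id _))

/-- The diagonal of a base change as a base change of the diagonal. -/
def bcLift : FibCat.fp g f ⥤ᵇ FibCat.fp (bcMap g f) (FibCat.diag f) :=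
  FibCat.fpLift (FibCat.diag (FibCat.fpFst g f)) (FibCat.fpSnd g f) (bcSquare g f)

theorem bcLift_isEquivOver : FibCat.IsEquivOver (bcLift g f) := by
  have : (bcLift g f).toFunctor.Faithful := ⟨fun {x y m m'} h =>
    congrArg (fun k : (bcLift g f).obj x ⟶ (bcLift g f).obj y => k.hom.fst.hom.fst) h⟩
  have : (bcLift g f).toFunctor.Full := ⟨fun {x y} M => by
    have h1 : M.hom.fst.hom.fst.hom.snd ≫ 𝟙 _ = 𝟙 _ ≫ M.hom.snd :=
      congrArg (fun k : ((bcMap g f).obj ((bcLift g f).obj x).obj.fst) ⟶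
        ((FibCat.diag f).obj ((bcLift g f).obj y).obj.snd) => k.hom.fst) M.hom.w
    have h2 : M.hom.fst.hom.snd.hom.snd ≫ 𝟙 _ = 𝟙 _ ≫ M.hom.snd :=
      congrArg (fun k : ((bcMap g f).obj ((bcLift g f).obj x).obj.fst) ⟶
        ((FibCat.diag f).obj ((bcLift g f).obj y).obj.snd) => k.hom.snd) M.hom.w
    have h3 : M.hom.fst.hom.fst.hom.fst ≫ 𝟙 _ = 𝟙 _ ≫ M.hom.fst.hom.snd.hom.fst := M.hom.fst.hom.w
    rw [Category.comp_id, Category.id_comp] at h1 h2 h3
    exact ⟨M.hom.fst.hom.fst, fp_ext (fp_ext rfl (fp_ext h3 (h1.trans h2.symm))) h1⟩⟩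
  refine isEquivOver_of_overId _ fun η => ?_
  let w := η.obj.fst
  let a : w.obj.fst.obj.snd ≅ η.obj.snd := (FibCat.fpFst f f).toFunctor.mapIso η.obj.iso
  let b : w.obj.snd.obj.snd ≅ η.obj.snd := (FibCat.fpSnd f f).toFunctor.mapIso η.obj.iso
  have hw : f.map a.hom ≫ 𝟙 _ =
      (w.obj.fst.obj.iso.inv ≫ g.map w.obj.iso.hom ≫ w.obj.snd.obj.iso.hom) ≫ f.map b.hom :=
    η.obj.iso.hom.hom.w
  rw [Category.comp_id] at hw
  refine ⟨w.obj.fst,
    fpIsoMk (fpIsoMk (Iso.refl _) (fpIsoMk w.obj.iso (a ≪≫ b.symm) ?_) ?_) a ?_,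
    overId_fp _ (overId_fp _ (overId_id _))⟩
  · show g.map w.obj.iso.hom ≫ w.obj.snd.obj.iso.hom = w.obj.fst.obj.iso.hom ≫ f.map (a.hom ≫ b.inv)
    rw [Functor.map_comp, hw]
    simp only [Category.assoc, ← Functor.map_comp, Iso.hom_inv_id, Iso.hom_inv_id_assoc]
    simp
  · show 𝟙 _ ≫ w.obj.iso.hom = 𝟙 _ ≫ w.obj.iso.hom
    rfl
  · refine fp_ext ?_ ?_
    · show 𝟙 _ ≫ a.hom = 𝟙 _ ≫ a.hom
      rfl
    · show (a.hom ≫ b.inv) ≫ b.hom = 𝟙 _ ≫ a.hom
      simp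

theorem bcLift_fst : BasedFunctor.comp (bcLift g f) (FibCat.fpFst _ _) = FibCat.diag (FibCat.fpFst g f) := rfl

end BaseChange

/-- The diagonal of a composite. -/
def diagCompIso (f : 𝒳 ⥤ᵇ 𝒴) (g : 𝒴 ⥤ᵇ 𝒵) :
    BasedFunctor.comp (FibCat.diag f) (fpPost f f g) ≅ FibCat.diag (BasedFunctor.comp f g) :=
  mkIso2 (fun x => fpIsoMk (Iso.refl _) (Iso.refl _) (by
      show g.map (f.map (𝟙 _)) ≫ 𝟙 _ = g.map (𝟙 _) ≫ g.map (f.map (𝟙 _))
      simp))
    (fun x y m => fp_ext (show m ≫ 𝟙 _ = 𝟙 _ ≫ m by simp) (show m ≫ 𝟙 _ = 𝟙 _ ≫ m by simp))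
    (fun x => overId_fp _ (overId_id _))

end Groth.L24.St
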