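import Groth.Agent.L24.St.AffineDiag
import Groth.Agent.L23.FppfImmersion
import Groth.Agent.L23.Points

/-!
Descent along a flat affine surjective chart without finiteness hypotheses.
-/

set_option autoImplicit false
set_option backward.isDefEq.respectTransparency false
set_option backward.isDefEq.respectTransparency.types false

universe u

open CategoryTheory CategoryTheory.Limits AlgebraicGeometry Opposite AlgSt

noncomputable section

namespace Groth.L24.St

variable {S : Scheme.{u}} {𝒳 𝒴 𝒵 : AlgSt.Cat S}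

/-- A flat, affine, surjective map to a scheme is an fpqc covering. -/
theorem isFpqcCover_of_affine {G : AlgSp.Space S} {U : Over S} {π : G.obj ⟶ (AlgSp.yon S).obj U}
    (hf : AlgSp.LocP @Flat π) (ha : AlgSp.IsAffineMor π) (hs : AlgSp.IsSurjectiveMor π) :
    AlgSp.IsFpqcCover (ι := PUnit.{u + 1}) (fun _ => G.obj) (fun _ => π) := by
  refine ⟨fun _ => hf, fun Z hZ h => ?_⟩
  have ha' := Groth.L23.isAffineMor_iff.1 ha
  have hW : IsAffineHom (ha'.1.snd h).left := Groth.L23.repWith_snd ha' h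
  have hWf : Flat (ha'.1.snd h).left :=
    Groth.L23.repWith_snd (Groth.L23.repWith_of_locP Groth.L23.etLocal_flat (AlgSp.IsAlgSpace.yon_obj U) ha'.1 hf) h
  have hWs : Surjective (ha'.1.snd h).left :=
    Groth.L23.repWith_snd (Groth.L23.repWith_surjective_of_map ha'.1 hs) h
  have : IsAffine Z.left := hZ
  refine ⟨1, fun _ => ha'.1.pullback h, fun _ => ha'.1.snd h, fun _ => isAffine_of_isAffineHom (ha'.1.snd h).left,
    fun _ => hWf, fun z => ⟨0, hWs.surj z⟩, fun _ => ⟨⟨⟩, ha'.1.fst h, ha'.1.w h⟩⟩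

/-- The fpqc cover of a test scheme induced by a flat, affine, surjective functor. -/
theorem exists_cover_affine {z : 𝒵 ⥤ᵇ 𝒴} (hz₁ : RepByAlgSpWith (AlgSp.LocP @Flat) z)
    (hz₂ : RepByAlgSpWith AlgSp.IsAffineMor z)
    (hz₃ : RepByAlgSpWith AlgSp.IsSurjectiveMor z) {U : Over S} (y : FibCat.overCat U ⥤ᵇ 𝒴) :
    ∃ (G : AlgSp.Space S) (π : G.obj ⟶ (AlgSp.yon S).obj U) (ζ : ofSp G.obj ⥤ᵇ 𝒵),
      AlgSp.IsFpqcCover (ι := PUnit.{u + 1}) (fun _ => G.obj) (fun _ => π) ∧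
        Nonempty (BasedFunctor.comp (BasedFunctor.comp (ofSpMap π) (toOverCat U)) y ≅ BasedFunctor.comp ζ z) := by
  obtain ⟨G, e, he, h⟩ := hz₁ U y
  have ha : AlgSp.IsAffineMor (spMapOfOver (BasedFunctor.comp e (FibCat.fpFst y z))) :=
    Wit.prop_of_equiv (fun A B hA hB i _ b hb =>
      Groth.L24.Tors.pBase_affine.iso_left hA hB (AlgSp.IsAlgSpace.yon_obj U) i hb) (hz₂ U y) G.property e he
  have hs : AlgSp.IsSurjectiveMor (spMapOfOver (BasedFunctor.comp e (FibCat.fpFst y z))) :=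
    (surjective_spMapOfOver_iff _).2 (by
      obtain ⟨G', e', he', hs'⟩ := hz₃ U y
      intro t
      obtain ⟨w, hw⟩ := (surjective_spMapOfOver_iff _).1 hs' t
      obtain ⟨w', hw'⟩ := (bijective_map_of_isEquivOver he).surjective (Points.map e' w)
      exact ⟨w', by rw [map_comp_apply, hw', ← map_comp_apply]; exact hw⟩)
  exact ⟨G, _, BasedFunctor.comp e (FibCat.fpSnd y z), isFpqcCover_of_affine h ha hs,
    ⟨whiskerR (overFactor _).symm y ≪≫ whiskerL e (FibCat.fpIso y z)⟩⟩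

/-- Affineness descends along a flat, affine, surjective functor. -/
theorem affine_of_fpFst_affine_cover
    (h𝒳 : FibCat.IsFibGrpd 𝒳.p) (h𝒴 : FibCat.IsFibGrpd 𝒴.p) (h𝒵 : FibCat.IsFibGrpd 𝒵.p)
    {f : 𝒳 ⥤ᵇ 𝒴} (hf : RepByAlgSp1 f) {z : 𝒵 ⥤ᵇ 𝒴} (hz₁ : RepByAlgSpWith (AlgSp.LocP @Flat) z)
    (hz₂ : RepByAlgSpWith AlgSp.IsAffineMor z)
    (hz₃ : RepByAlgSpWith AlgSp.IsSurjectiveMor z) (h : RepByAlgSpWith AlgSp.IsAffineMor (FibCat.fpFst z f)) :
    RepByAlgSpWith AlgSp.IsAffineMor f := by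
  intro U y
  obtain ⟨F, e, he⟩ := hf U y
  refine ⟨F, e, he, ?_⟩
  obtain ⟨G, π, ζ, hπ, ⟨iζ⟩⟩ := exists_cover_affine hz₁ hz₂ hz₃ y
  have sq := IsPullback.of_hasPullback (spMapOfOver (BasedFunctor.comp e (FibCat.fpFst y f))) π
  obtain ⟨hQ, Θ, hΘ, ⟨iΘ⟩⟩ := exists_space_square h𝒳 h𝒴 y e he G.property sq
  obtain ⟨V, a, e', hV, he', ⟨i'⟩, ha⟩ :=
    exists_space_prop hasAtlasCovers_fppf Groth.L24.Tors.pBase_affine Groth.L24.Tors.isLocalOnBase_fppf_affine (L09.Fib.fp_isFibGrpd h𝒵 h𝒳 h𝒴) h𝒵 h G.property ζ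
  let M := fpMap (F := BasedFunctor.comp (BasedFunctor.comp (ofSpMap π) (toOverCat U)) y) (G := f)
    (F' := BasedFunctor.comp ζ z) (G' := f) (BasedFunctor.id _) (BasedFunctor.id _) iζ (Iso.refl _)
  let e₁ := BasedFunctor.comp e' (BasedFunctor.comp (fpPaste ζ z f) M)
  have he₁ : FibCat.IsEquivOver e₁ := isEquivOver_comp he' (isEquivOver_comp (fpPaste_isEquivOver ζ z f)
    (fpMap_isEquivOver (isEquivOver_id _) (isEquivOver_id _) _ _))
  obtain ⟨i, hi, hia⟩ := exists_iso_over he₁ hΘ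
    (show BasedFunctor.comp e₁ (FibCat.fpFst _ f) ≅ ofSpMap a from i') iΘ
  refine (Groth.L23.isLocalOnBase_fpqc_affine (fun _ : PUnit => G.obj) (fun _ => π) (AlgSp.IsAlgSpace.yon_obj U) (fun _ => G.property)
    hπ _ F.property (fun _ => pullback _ π) (fun _ => pullback.snd _ π) (fun _ => pullback.fst _ π)
    (fun _ => hQ) (fun _ => sq)).2 fun _ => ?_
  rw [← hia]
  exact Groth.L24.Tors.pBase_affine.iso_left hV hQ G.property i ha

/-- The diagonal is affine if a flat, affine, surjective chart has affine diagonal. -/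
theorem diag_affine_of_affine_chart (h1 : FibCat.IsFibGrpd 𝒳.p) (hd : RepByAlgSp1 (FibCat.diag (FibCat.toSelf 𝒳)))
    {X : Over S} (hX : IsAffineHom (pullback.diagonal X.hom)) {x : FibCat.overCat X ⥤ᵇ 𝒳}
    (hx₁ : RepByAlgSpWith (AlgSp.LocP @Flat) x)
    (hx₃ : RepByAlgSpWith AlgSp.IsSurjectiveMor x) (hx : RepByAlgSpWith AlgSp.IsAffineMor x) :
    RepByAlgSpWith AlgSp.IsAffineMor (FibCat.diag (FibCat.toSelf 𝒳)) := by
  have hS : FibCat.IsFibGrpd (FibCat.selfOver (Over S)).p := (L09.Fib.isFibSet_id _).1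
  have hW := overCat_isFibGrpd X
  let t := FibCat.toSelf 𝒳
  have hz : ∀ {Q : MorphismProperty Scheme.{u}}, Groth.L23.EtLocal Q →
      RepByAlgSpWith (AlgSp.LocP Q) x → RepByAlgSpWith (AlgSp.LocP Q) (cmpMap x x t) := fun hQ h =>
    (repWith_congr (cmpMapIso x x t)).1 (fpMap_repWith hasAtlasCovers_atlasCov
      (pBase_locP hQ) (pComp_locP hQ) (isLocalOnBase_locP hQ) hW h1 hW hS h h)
  have hzf := hz Groth.L23.etLocal_flat hx₁
  have hzs : RepByAlgSpWith AlgSp.IsSurjectiveMor (cmpMap x x t) :=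
    (repWith_congr (cmpMapIso x x t)).1 (repWith_surjective_of_isSurjective (L09.Fib.fp_isFibGrpd hW hW hS)
      (L09.Fib.fp_isFibGrpd h1 h1 hS) (repWith_rep1 ((repWith_congr (cmpMapIso x x t)).2 hzf))
      (isSurjective_legs h1 hW h1 hW hS x x _ _ (isSurjective_of_repWith hW h1 hx₃)
        (isSurjective_of_repWith hW h1 hx₃)))
  have hza : RepByAlgSpWith AlgSp.IsAffineMor (cmpMap x x t) :=
    (repWith_congr (cmpMapIso x x t)).1 (fpMap_repWith hasAtlasCovers_fppf Groth.L24.Tors.pBase_affine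
      (fun _ _ _ _ _ _ a b ha hb => Groth.L23.isAffineMor_iff.2
        (Groth.L23.repWith_comp (Groth.L23.isAffineMor_iff.1 ha) (Groth.L23.isAffineMor_iff.1 hb)))
      Groth.L24.Tors.isLocalOnBase_fppf_affine hW h1 hW hS hx hx)
  refine affine_of_fpFst_affine_cover h1 (L09.Fib.fp_isFibGrpd h1 h1 hS)
    (L09.Fib.fp_isFibGrpd hW hW hS) hd hzf hza hzs ?_
  have h2 : RepByAlgSpWith AlgSp.IsAffineMor (fpPost x x t) := by
    refine repWith_of_comp_of Groth.L24.Tors.pBase_affine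
      (Q := (AlgSp.RepWith @IsAffineHom).diagonal) (fun A B C _ _ _ a b hb hab => ?_)
      (b := FibCat.fpFst (BasedFunctor.comp x t) (BasedFunctor.comp x t))
      (repWith_fpFst _ (diagonal_repWith_toSelf hX x)) ?_
    · have : MorphismProperty.HasOfPostcompProperty (AlgSp.RepWith (S := S) @IsAffineHom)
          (AlgSp.RepWith (S := S) @IsAffineHom).diagonal :=
        MorphismProperty.hasOfPostcompProperty_iff_le_diagonal.2 le_rfl
      exact Groth.L23.isAffineMor_iff.2 (MorphismProperty.of_postcomp _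
        (W' := (AlgSp.RepWith (S := S) @IsAffineHom).diagonal) a b hb (Groth.L23.isAffineMor_iff.1 hab))
    · exact repWith_fpFst x hx
  rw [← cmpLift_fst x x t] at h2
  exact (repWith_precomp (cmpLift_isEquivOver x x t) _).1 h2

end Groth.L24.St
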