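import Groth.Agent.L09.Gerbe.Aut
import Groth.Agent.L24.St.Rep

/-!
The automorphism group scheme of a point is the base change of the absolute diagonal.
-/

set_option autoImplicit false
set_option backward.isDefEq.respectTransparency false
set_option backward.isDefEq.respectTransparency.types false

universe u

open CategoryTheory CategoryTheory.Limits AlgebraicGeometry Opposite AlgSt

noncomputable section

namespace Groth.L24.St.AutRepDiag

open Groth.L24.St Groth.L24.LocQ Groth.L09.Gerbe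

variable {S : Scheme.{u}} {U : Over S} {𝒳 : AlgSt.Cat S} {G : Over U.left} [GrpObj G]
  {x : FibCat.overCat U ⥤ᵇ 𝒳} (r : Gerb.AutRep x (Gerb.ptsGrp U G))

/-- The point paired with itself. -/
abbrev pairPt (x : FibCat.overCat U ⥤ᵇ 𝒳) :
    FibCat.overCat U ⥤ᵇ FibCat.fp (FibCat.toSelf 𝒳) (FibCat.toSelf 𝒳) :=
  FibCat.fpLift x x (Iso.refl _)

/-- The tautological square. -/
def pairSquare : BasedFunctor.comp (overMap (grpProj G)) (pairPt x) ≅
    BasedFunctor.comp (BasedFunctor.comp (overMap (grpProj G)) x) (FibCat.diag (FibCat.toSelf 𝒳)) :=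
  mkIso2 (fun a => fpIsoMk (Functor.Fiber.fiberInclusion.mapIso (r.iso _ (grpPt G a))) (Iso.refl _) (by
      show (FibCat.toSelf 𝒳).map (r.iso _ (grpPt G a)).hom.1 ≫ 𝟙 _ = 𝟙 _ ≫ (FibCat.toSelf 𝒳).map (𝟙 _)
      rw [Category.comp_id, Category.id_comp]
      obtain ⟨_, h⟩ := OverId.eq (r.iso _ (grpPt G a)).hom.2
      refine h.trans ?_
      exact (eqToHom_refl _ rfl).trans (𝒳.p.map_id _).symm))
    (fun a b m => fp_ext (by
        have h := r.natural ((AlgSt.overMap (grpProj G)).map m) (grpPt G b)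
        have e : (Gerb.ptsGrp U G).map ((AlgSt.overMap (grpProj G)).map m).op (grpPt G b) = grpPt G a := by
          apply Over.OverMorphism.ext
          exact (congrArg (fun q : a.left ⟶ grpTot G => q.left) (Over.w m) :)
        rw [e] at h
        exact h.symm) (by
        show x.map _ ≫ 𝟙 _ = 𝟙 _ ≫ x.map _
        rw [Category.comp_id, Category.id_comp]))
    (fun a => overId_fp _ (r.iso _ (grpPt G a)).hom.2)

/-- The group scheme mapped to the base change of the diagonal. -/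
abbrev grpFun : FibCat.overCat (grpTot G) ⥤ᵇ FibCat.fp (pairPt x) (FibCat.diag (FibCat.toSelf 𝒳)) :=
  FibCat.fpLift (overMap (grpProj G)) (BasedFunctor.comp (overMap (grpProj G)) x) (pairSquare r)

theorem grpFun_isEquivOver (h𝒳 : FibCat.IsFibGrpd 𝒳.p) : FibCat.IsEquivOver (grpFun r) := by
  have : (grpFun r).toFunctor.Faithful := ⟨fun {a b m m'} h => by
    have h' : ((AlgSt.overMap (grpProj G)).map m) = ((AlgSt.overMap (grpProj G)).map m') :=
      congrArg (fun t => t.hom.fst) h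
    exact Over.OverMorphism.ext (congrArg (fun t => t.left) h')⟩
  have : (grpFun r).toFunctor.Full := ⟨fun {a b} M => by
    let μ : (AlgSt.overMap (grpProj G)).obj a ⟶ (AlgSt.overMap (grpProj G)).obj b := M.hom.fst
    have hs : x.map μ = M.hom.snd := by
      have := congrArg (fun k => k.hom.snd) M.hom.w
      change x.map μ ≫ 𝟙 _ = 𝟙 _ ≫ M.hom.snd at this
      rwa [Category.comp_id, Category.id_comp] at this
    have sq : x.map μ ≫ (r.iso _ (grpPt G b)).hom.1 = (r.iso _ (grpPt G a)).hom.1 ≫ x.map μ := by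
      have := congrArg (fun k => k.hom.fst) M.hom.w
      change x.map μ ≫ (r.iso _ (grpPt G b)).hom.1 = (r.iso _ (grpPt G a)).hom.1 ≫ M.hom.snd at this
      rwa [← hs] at this
    have hn := r.natural μ (grpPt G b)
    rw [sq] at hn
    obtain ⟨_, h1⟩ := OverId.eq (r.iso _ ((Gerb.ptsGrp U G).map μ.op (grpPt G b))).hom.2
    obtain ⟨_, h2⟩ := OverId.eq (r.iso _ (grpPt G a)).hom.2
    have h3 := ext_of_comp_eq h𝒳 (x.map μ) (h1.trans h2.symm) hn
    have h4 : (Gerb.ptsGrp U G).map μ.op (grpPt G b) = grpPt G a :=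
      (r.iso _).injective (Iso.ext (Functor.Fiber.hom_ext h3))
    have h5 : μ.left.left ≫ b.hom.left = a.hom.left := congrArg CommaMorphism.left h4
    refine ⟨Over.homMk μ.left (Over.OverMorphism.ext h5), fp_ext (Over.OverMorphism.ext rfl) ?_⟩
    refine Eq.trans ?_ hs
    exact congrArg x.map (Over.OverMorphism.ext rfl)⟩
  refine isEquivOver_of_overId _ fun η => ?_
  let T₁ : Over U := η.obj.fst
  let k₁ : x.obj T₁ ≅ η.obj.snd :=
    (FibCat.fpFst (FibCat.toSelf 𝒳) (FibCat.toSelf 𝒳)).toFunctor.mapIso η.obj.iso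
  let k₂ : x.obj T₁ ≅ η.obj.snd :=
    (FibCat.fpSnd (FibCat.toSelf 𝒳) (FibCat.toSelf 𝒳)).toFunctor.mapIso η.obj.iso
  have hk₁ : OverId k₁.hom := (fp_overId η).map (FibCat.fpFst _ _)
  have hk₂ : OverId k₂.hom := (fp_overId η).map (FibCat.fpSnd _ _)
  let α : Gerb.AutO (x.obj T₁) :=
    { hom := ⟨k₁.hom ≫ k₂.inv, hk₁.comp (OverId.inv hk₂)⟩
      inv := ⟨k₂.hom ≫ k₁.inv, hk₂.comp (OverId.inv hk₁)⟩
      hom_inv_id := Functor.Fiber.hom_ext (show (k₁.hom ≫ k₂.inv) ≫ k₂.hom ≫ k₁.inv = 𝟙 _ by simp)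
      inv_hom_id := Functor.Fiber.hom_ext (show (k₂.hom ≫ k₁.inv) ≫ k₁.hom ≫ k₂.inv = 𝟙 _ by simp) }
  let γ : (Over.iteratedSliceForward U).obj T₁ ⟶ G := (r.iso T₁).symm α
  have hγ : γ.left ≫ G.hom = T₁.hom.left := Over.w γ
  let a : Over (grpTot G) := Over.mk (Over.homMk (U := T₁.left) γ.left (by
    show γ.left ≫ G.hom ≫ U.hom = T₁.left.hom
    rw [← Category.assoc, hγ, Over.w]) : T₁.left ⟶ grpTot G)
  let ι : (AlgSt.overMap (grpProj G)).obj a ≅ T₁ :=
    Over.isoMk (Iso.refl T₁.left) (Over.OverMorphism.ext ((Category.id_comp _).trans hγ.symm))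
  have hι : OverId (𝒳 := FibCat.overCat U) ι.hom := OverId.of_eq rfl (by rfl)
  have hn := r.natural ι.hom ((r.iso T₁).symm α)
  rw [(r.iso T₁).apply_symm_apply] at hn
  have he : (Gerb.ptsGrp U G).map ι.hom.op ((r.iso T₁).symm α) = grpPt G a :=
    Over.OverMorphism.ext (Category.id_comp _)
  rw [he] at hn
  refine ⟨a, fpIsoMk ι (x.toFunctor.mapIso ι ≪≫ k₂) (fp_ext ?_ ?_), overId_fp _ hι⟩
  · show x.map ι.hom ≫ k₁.hom = (r.iso _ (grpPt G a)).hom.1 ≫ x.map ι.hom ≫ k₂.hom
    have := congrArg (· ≫ k₂.hom) hn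
    simp only [Category.assoc, α, Iso.inv_hom_id, Category.comp_id] at this
    exact this.symm
  · show x.map ι.hom ≫ k₂.hom = 𝟙 _ ≫ x.map ι.hom ≫ k₂.hom
    rw [Category.id_comp]

end Groth.L24.St.AutRepDiag
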