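import Groth.Agent.L24.St.FpAlg

/-!
Charts of a self-product over the base by products of schemes.
-/

set_option autoImplicit false
set_option backward.isDefEq.respectTransparency false
set_option backward.isDefEq.respectTransparency.types false

universe u

open CategoryTheory CategoryTheory.Limits AlgebraicGeometry Opposite AlgSt

noncomputable section

namespace Groth.L24.St

variable {S : Scheme.{u}}

/-- A functor to a product over the base is determined by the two components. -/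
def pairExt {ℬ 𝒳 𝒴 : AlgSt.Cat S} {v w : ℬ ⥤ᵇ FibCat.fp (FibCat.toSelf 𝒳) (FibCat.toSelf 𝒴)}
    (i : BasedFunctor.comp v (FibCat.fpFst _ _) ≅ BasedFunctor.comp w (FibCat.fpFst _ _))
    (j : BasedFunctor.comp v (FibCat.fpSnd _ _) ≅ BasedFunctor.comp w (FibCat.fpSnd _ _)) : v ≅ w :=
  mkIso2 (fun x => fpIsoMk (appIso i x) (appIso j x) (by
      obtain ⟨h1, h1'⟩ := (((overId_app i.hom x).map (FibCat.toSelf 𝒳)).comp (fp_overId (w.obj x))).eq
      obtain ⟨h2, h2'⟩ := ((fp_overId (v.obj x)).comp ((overId_app j.hom x).map (FibCat.toSelf 𝒴))).eq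
      exact h1'.trans h2'.symm))
    (fun x y m => fp_ext (appIso_naturality i m) (appIso_naturality j m))
    (fun x => overId_fp _ (overId_app i.hom x))

/-- The identification of the two structure functors of a product of schemes. -/
def prodPairIso {U V : Over S} {W : Over S} (p₁ : W ⟶ U) (p₂ : W ⟶ V) :
    BasedFunctor.comp (overMap p₁) (FibCat.toSelf (FibCat.overCat U)) ≅
      BasedFunctor.comp (overMap p₂) (FibCat.toSelf (FibCat.overCat V)) :=
  mkIso2 (fun _ => Iso.refl _) (fun _ _ m => by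
      show m.left ≫ 𝟙 _ = 𝟙 _ ≫ m.left
      simp)
    (fun x => OverId.of_eq rfl rfl)

theorem prodPair_isEquivOver {U V W : Over S} {p₁ : W ⟶ U} {p₂ : W ⟶ V}
    (sq : IsPullback p₁.left p₂.left U.hom V.hom) :
    FibCat.IsEquivOver (FibCat.fpLift (overMap p₁) (overMap p₂) (prodPairIso p₁ p₂)) := by
  let Λ := FibCat.fpLift (overMap p₁) (overMap p₂) (prodPairIso p₁ p₂)
  show FibCat.IsEquivOver Λ
  have hext : ∀ {A : Over S} (a b : A ⟶ W), a ≫ p₁ = b ≫ p₁ → a ≫ p₂ = b ≫ p₂ → a = b := fun a b h₁ h₂ =>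
    Over.OverMorphism.ext (sq.hom_ext (congrArg CommaMorphism.left h₁) (congrArg CommaMorphism.left h₂))
  have : Λ.toFunctor.Faithful := ⟨fun {x y m m'} h =>
    Over.OverMorphism.ext (congrArg (fun k : Λ.obj x ⟶ Λ.obj y => k.hom.fst.left) h)⟩
  have : Λ.toFunctor.Full := ⟨fun {x y} M => by
    have hw : M.hom.fst.left ≫ 𝟙 _ = 𝟙 _ ≫ M.hom.snd.left := M.hom.w
    rw [Category.comp_id, Category.id_comp] at hw
    have e : M.hom.fst.left ≫ y.hom = x.hom := by
      refine hext _ _ ?_ ?_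
      · rw [Category.assoc]; exact Over.w M.hom.fst
      · rw [hw, Category.assoc]; exact Over.w M.hom.snd
    exact ⟨Over.homMk M.hom.fst.left e, fp_ext (Over.OverMorphism.ext rfl) (Over.OverMorphism.ext hw)⟩⟩
  refine isEquivOver_of_overId _ fun η => ?_
  let a := η.obj.fst
  let b := η.obj.snd
  let k : a.left ≅ b.left := η.obj.iso
  have hk : OverId (𝒳 := FibCat.selfOver (Over S)) k.hom := fp_overId η
  obtain ⟨hk₁, hk₂⟩ := hk.eq
  let l := sq.lift a.hom.left (k.hom.left ≫ b.hom.left) (by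
    rw [Category.assoc, Over.w a.hom, Over.w b.hom, Over.w k.hom])
  let c : a.left ⟶ W := Over.homMk l (by
    show l ≫ W.hom = _
    rw [← Over.w p₁, ← Category.assoc, sq.lift_fst, Over.w])
  have hc₁ : c ≫ p₁ = a.hom := Over.OverMorphism.ext (sq.lift_fst _ _ _)
  have hc₂ : c ≫ p₂ = k.hom ≫ b.hom := Over.OverMorphism.ext (sq.lift_snd _ _ _)
  refine ⟨Over.mk c, fpIsoMk (Over.isoMk (Iso.refl _) (by show 𝟙 _ ≫ a.hom = c ≫ p₁; simp [hc₁]))
    (Over.isoMk k (by show k.hom ≫ b.hom = c ≫ p₂; rw [hc₂])) ?_, overId_fp _ ?_⟩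
  · show 𝟙 _ ≫ k.hom = 𝟙 _ ≫ k.hom
    rfl
  · exact OverId.of_eq rfl rfl

end Groth.L24.St
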