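import Groth.Agent.L24.St.GenericQc
import Groth.Agent.L24.St.PairChart
import Groth.Agent.L24.St.MonoQcStack

/-!
Quasi-compactness of the diagonal from quasi-compact automorphism spaces and generic isomorphisms.
-/

set_option autoImplicit false
set_option backward.isDefEq.respectTransparency false
set_option backward.isDefEq.respectTransparency.types false

universe u

open CategoryTheory CategoryTheory.Limits AlgebraicGeometry Opposite AlgSt TopologicalSpace

noncomputable section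

namespace Groth.L24.St

variable {S : Scheme.{u}} {𝒳 : AlgSt.Cat S}

local notation "t𝒳" => FibCat.toSelf 𝒳
local notation "Δ𝒳" => FibCat.diag (FibCat.toSelf 𝒳)

/-- Restriction of a restricted object. -/
def restrObjIso' {T T' U₀ : Over S} {ℬ : AlgSt.Cat S} (j : T' ⟶ T) (t : T ⟶ U₀) (z : FibCat.overCat U₀ ⥤ᵇ ℬ) :
    BasedFunctor.comp (overMap (j ≫ t)) z ≅ BasedFunctor.comp (overMap j) (BasedFunctor.comp (overMap t) z) :=
  whiskerR (overMapCompIso j t) z

/-- A point of the space of isomorphisms gives an isomorphism of the pulled back objects. -/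
theorem iso_of_section {W : Over S} {z : FibCat.overCat W ⥤ᵇ FibCat.fp t𝒳 t𝒳} {F : AlgSp.Sp S}
    (e : ofSp F ⥤ᵇ FibCat.fp z Δ𝒳) {T : Over S} (φ : T ⟶ W) (σ : (AlgSp.yon S).obj T ⟶ F)
    (hσ : σ ≫ spMapOfOver (BasedFunctor.comp e (FibCat.fpFst z Δ𝒳)) = (AlgSp.yon S).map φ) :
    Nonempty (BasedFunctor.comp (overMap φ) (BasedFunctor.comp z (FibCat.fpFst t𝒳 t𝒳)) ≅
      BasedFunctor.comp (overMap φ) (BasedFunctor.comp z (FibCat.fpSnd t𝒳 t𝒳))) := by
  obtain ⟨y, ⟨i⟩⟩ := exists_lift_of_section e φ σ hσ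
  exact ⟨(show BasedFunctor.comp (overMap φ) (BasedFunctor.comp z (FibCat.fpFst t𝒳 t𝒳)) ≅ y from
      (whiskerR i (FibCat.fpFst t𝒳 t𝒳)).symm) ≪≫
    (show y ≅ BasedFunctor.comp (overMap φ) (BasedFunctor.comp z (FibCat.fpSnd t𝒳 t𝒳)) from
      whiskerR i (FibCat.fpSnd t𝒳 t𝒳))⟩

/-- Quasi-compactness of the space of isomorphisms over a part where the objects are isomorphic. -/
theorem compactSpace_pullback_of_iso (h𝒳 : FibCat.IsFibGrpd 𝒳.p) {W V : Over S} [CompactSpace V.left]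
    (j : V ⟶ W) (z : FibCat.overCat W ⥤ᵇ FibCat.fp t𝒳 t𝒳) {F : AlgSp.Space S}
    {e : ofSp F.obj ⥤ᵇ FibCat.fp z Δ𝒳} (he : FibCat.IsEquivOver e)
    (β : BasedFunctor.comp (overMap j) (BasedFunctor.comp z (FibCat.fpFst t𝒳 t𝒳)) ≅
      BasedFunctor.comp (overMap j) (BasedFunctor.comp z (FibCat.fpSnd t𝒳 t𝒳)))
    (haut : ∀ x : FibCat.overCat V ⥤ᵇ 𝒳,
      ∃ (F' : AlgSp.Space S) (e' : ofSp F'.obj ⥤ᵇ FibCat.fp (FibCat.fpLift x x (Iso.refl _)) Δ𝒳),
        FibCat.IsEquivOver e' ∧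
          AlgSp.IsQuasiCompactMor (spMapOfOver (BasedFunctor.comp e' (FibCat.fpFst _ _)))) :
    CompactSpace (AlgSp.Points (pullback (spMapOfOver (BasedFunctor.comp e (FibCat.fpFst z Δ𝒳))) ((AlgSp.yon S).map j))) := by
  let x := BasedFunctor.comp (overMap j) (BasedFunctor.comp z (FibCat.fpFst t𝒳 t𝒳))
  obtain ⟨F', e', he', hqc⟩ := haut x
  have hF' : AlgSp.IsQuasiCompactSp F'.obj :=
    hqc (AlgSp.IsAlgSpace.yon_obj V) Groth.L23.isQuasiCompactSp_of_compactSpace (𝟙 _) (𝟙 _) _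
      (IsPullback.of_horiz_isIso ⟨(Category.id_comp _).trans (Category.comp_id _).symm⟩)
  have : CompactSpace (AlgSp.Points F'.obj) := Groth.L23.compactSpace_of_qcSp hF'
  let zj := BasedFunctor.comp (overMap j) z
  let κ : FibCat.fpLift x x (Iso.refl _) ≅ zj :=
    pairExt (show BasedFunctor.comp (FibCat.fpLift x x (Iso.refl _)) (FibCat.fpFst t𝒳 t𝒳) ≅
        BasedFunctor.comp zj (FibCat.fpFst t𝒳 t𝒳) from Iso.refl x)
      (show BasedFunctor.comp (FibCat.fpLift x x (Iso.refl _)) (FibCat.fpSnd t𝒳 t𝒳) ≅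
        BasedFunctor.comp zj (FibCat.fpSnd t𝒳 t𝒳) from β)
  let Θ₁ : FibCat.fp zj Δ𝒳 ⥤ᵇ FibCat.fp (FibCat.fpLift x x (Iso.refl _)) Δ𝒳 :=
    fpMap (BasedFunctor.id _) (BasedFunctor.id _)
      (show BasedFunctor.comp (BasedFunctor.id _) (FibCat.fpLift x x (Iso.refl _)) ≅ zj from κ) (Iso.refl _)
  have hΘ₁ : FibCat.IsEquivOver Θ₁ := fpMap_isEquivOver (isEquivOver_id _) (isEquivOver_id _) _ _
  have hS : FibCat.IsFibGrpd (FibCat.selfOver (Over S)).p := (L09.Fib.isFibSet_id _).1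
  have hP : FibCat.IsFibGrpd (FibCat.fp t𝒳 t𝒳).p := L09.Fib.fp_isFibGrpd h𝒳 h𝒳 hS
  have sq := IsPullback.of_hasPullback (spMapOfOver (BasedFunctor.comp e (FibCat.fpFst z Δ𝒳))) ((AlgSp.yon S).map j)
  obtain ⟨-, Θ, hΘ, -⟩ := exists_space_square h𝒳 hP z e he (AlgSp.IsAlgSpace.yon_obj V) sq
  let Θ₂ : FibCat.fp (BasedFunctor.comp (BasedFunctor.comp (ofSpMap ((AlgSp.yon S).map j)) (toOverCat W)) z) Δ𝒳 ⥤ᵇ
      FibCat.fp zj Δ𝒳 :=
    fpMap (toOverCat V) (BasedFunctor.id _) (Iso.refl _) (Iso.refl _)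
  have hΘ₂ : FibCat.IsEquivOver Θ₂ := fpMap_isEquivOver (toOverCat_isEquivOver V) (isEquivOver_id _) _ _
  obtain ⟨c, hc, -, -⟩ := exists_inverse he'
  have hiso := isIso_spMap (isEquivOver_comp hΘ (isEquivOver_comp hΘ₂ (isEquivOver_comp hΘ₁ hc)))
  let i := spMap (BasedFunctor.comp Θ (BasedFunctor.comp Θ₂ (BasedFunctor.comp Θ₁ c)))
  have : IsIso i := hiso
  have hs : Function.Surjective (AlgSp.Points.map (inv i)) := fun p =>
    ⟨AlgSp.Points.map i p, by rw [← AlgSp.Points.map_comp, IsIso.hom_inv_id, AlgSp.Points.map_id]⟩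
  exact hs.compactSpace (AlgSp.Points.continuous_map _)

theorem diag_qcMor_of_generic_isom [IsLocallyNoetherian S] (h𝒳 : AlgSt.IsAlgStack Scheme.fppfPrecoverage 𝒳)
    (hlfp : ∀ (U : Over S) (x : FibCat.overCat U ⥤ᵇ 𝒳),
      AlgSt.RepByAlgSpWith (AlgSp.LocP @Smooth) x → LocallyOfFinitePresentation U.hom)
    (hi : ∀ (U : Over S), IsAffine U.left → ∀ (x : FibCat.overCat U ⥤ᵇ 𝒳),
      ∃ (F : AlgSp.Space S) (e : AlgSt.ofSp F.obj ⥤ᵇ FibCat.fp (FibCat.fpLift x x (Iso.refl _)) (FibCat.diag (FibCat.toSelf 𝒳))),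
        FibCat.IsEquivOver e ∧
          AlgSp.IsQuasiCompactMor (AlgSt.spMapOfOver (BasedFunctor.comp e (FibCat.fpFst _ _))))
    (hii : ∀ (U : Over S), IsAffine U.left → IsIntegral U.left → ∀ (x y : FibCat.overCat U ⥤ᵇ 𝒳)
      (D : Set ↥U.left), Dense D →
      (∀ t ∈ D, ∃ (L : Type u) (_ : Field L) (g : Spec (CommRingCat.of L) ⟶ U.left), Set.range g.base = {t} ∧
        Nonempty (BasedFunctor.comp (AlgSt.overMap (Over.homMk g rfl : Over.mk (g ≫ U.hom) ⟶ U)) x ≅
          BasedFunctor.comp (AlgSt.overMap (Over.homMk g rfl : Over.mk (g ≫ U.hom) ⟶ U)) y)) →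
      ∃ V : U.left.Opens, Dense (V : Set ↥U.left) ∧
        Nonempty (BasedFunctor.comp (AlgSt.overMap (Over.homMk V.ι rfl : Over.mk (V.ι ≫ U.hom) ⟶ U)) x ≅
          BasedFunctor.comp (AlgSt.overMap (Over.homMk V.ι rfl : Over.mk (V.ι ≫ U.hom) ⟶ U)) y)) :
    AlgSt.RepByAlgSpWith AlgSp.IsQuasiCompactMor (FibCat.diag (FibCat.toSelf 𝒳)) := by
  obtain ⟨U₁, x, hx, hxs⟩ := h𝒳.atlas
  have : LocallyOfFinitePresentation U₁.hom := hlfp U₁ x hx
  have : IsLocallyNoetherian U₁.left := LocallyOfFiniteType.isLocallyNoetherian U₁.hom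
  let W : Over S := Over.mk (pullback.fst U₁.hom U₁.hom ≫ U₁.hom)
  let p₁ : W ⟶ U₁ := Over.homMk (pullback.fst U₁.hom U₁.hom) rfl
  let p₂ : W ⟶ U₁ := Over.homMk (pullback.snd U₁.hom U₁.hom) pullback.condition.symm
  have : IsLocallyNoetherian W.left := LocallyOfFiniteType.isLocallyNoetherian (pullback.fst U₁.hom U₁.hom)
  let Λ := FibCat.fpLift (overMap p₁) (overMap p₂) (prodPairIso p₁ p₂)
  have hΛ : FibCat.IsEquivOver Λ := prodPair_isEquivOver (IsPullback.of_hasPullback U₁.hom U₁.hom)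
  let T := fpMap (F := t𝒳) (G := t𝒳) x x (toSelfIso x) (toSelfIso x)
  have hS : FibCat.IsFibGrpd (FibCat.selfOver (Over S)).p := (L09.Fib.isFibSet_id _).1
  have hX := h𝒳.isStack.1
  have hP : FibCat.IsFibGrpd (FibCat.fp t𝒳 t𝒳).p := L09.Fib.fp_isFibGrpd hX hX hS
  have hU : FibCat.IsFibGrpd (FibCat.overCat U₁).p := overCat_isFibGrpd U₁
  have hT : RepByAlgSpWith (AlgSp.LocP @Smooth) T :=
    fpMap_repWith hasAtlasCovers_atlasCov (pBase_locP Groth.L23.etLocal_smooth) (pComp_locP Groth.L23.etLocal_smooth)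
      (isLocalOnBase_locP Groth.L23.etLocal_smooth) hU hX hU hS hx hx
  have hTs : IsSurjective T := isSurjective_legs hX hU hX hU hS x x _ _
    (isSurjective_of_repWith hU hX hxs) (isSurjective_of_repWith hU hX hxs)
  let z := BasedFunctor.comp Λ T
  have hz : RepByAlgSpWith (AlgSp.LocP @Smooth) z := (repWith_precomp hΛ T).2 hT
  have hzs : RepByAlgSpWith AlgSp.IsSurjectiveMor z :=
    repWith_surjective_of_isSurjective (overCat_isFibGrpd W) hP (repWith_rep1 hz)
      (isSurjective_comp (isSurjective_of_isEquivOver hΛ) hTs)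
  have hz₁ : RepByAlgSpWith (AlgSp.LocP @Flat) z := repWith_mono (fun F U _ a h => fun U' V α b k hα hb w => by
    have := h α b k hα hb w; infer_instance) hz
  have hz₂ : RepByAlgSpWith (AlgSp.LocP @LocallyOfFinitePresentation) z := repWith_mono (fun F U _ a h => fun U' V α b k hα hb w => by
    have := h α b k hα hb w; infer_instance) hz
  have hB : PBase (AlgSp.IsQuasiCompactMor : MorphismProperty (AlgSp.Sp S)) :=
    fun _ _ _ _ _ _ _ _ _ _ _ _ sq h => Groth.L23.qcMor_of_isPullback sq h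
  refine (repWith_iff_fpFst_cover hB Groth.L24.Alg.isLocalOnBase_fppf_qcMor hX hP
    (overCat_isFibGrpd W) h𝒳.diag hz₁ hz₂ hzs).2 ?_
  obtain ⟨F, e, he⟩ := h𝒳.diag W z
  let a := spMapOfOver (BasedFunctor.comp e (FibCat.fpFst z Δ𝒳))
  have hqc : AlgSp.IsQuasiCompactMor a := by
    refine isQuasiCompactMor_of_generic a fun A _ _ g hD => ?_
    let UA : Over S := Over.mk (g ≫ W.hom)
    let gA : UA ⟶ W := Over.homMk g rfl
    obtain ⟨T₀, p, hpe, hps⟩ := F.property.atlas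
    obtain ⟨h, hh⟩ := (AlgSp.yon S).map_surjective (p ≫ a)
    have : IsAffine UA.left := inferInstanceAs (IsAffine (Spec (CommRingCat.of A)))
    have : IsIntegral UA.left := inferInstanceAs (IsIntegral (Spec (CommRingCat.of A)))
    obtain ⟨V, hV, ⟨β⟩⟩ := hii UA inferInstance inferInstance
      (BasedFunctor.comp (overMap gA) (BasedFunctor.comp z (FibCat.fpFst t𝒳 t𝒳)))
      (BasedFunctor.comp (overMap gA) (BasedFunctor.comp z (FibCat.fpSnd t𝒳 t𝒳))) _ hD fun q hq => by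
        obtain ⟨y, hy⟩ := hq
        obtain ⟨t, rfl⟩ := Groth.L23.surjective_ofPt hps y
        have ht : h.left t = g q := by
          apply (AlgSp.Points.schemeEquiv W).injective
          show AlgSp.Points.ofScheme W _ = AlgSp.Points.ofScheme W _
          rw [← map_ofPt_eq_ofScheme hh]; exact hy
        obtain ⟨w, hw₁, hw₂⟩ := Scheme.Pullback.exists_preimage_pullback (f := h.left) (g := g) t q ht
        let gL : Spec (CommRingCat.of ((pullback h.left g).residueField w)) ⟶ UA.left :=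
          (pullback h.left g).fromSpecResidueField w ≫ pullback.snd h.left g
        refine ⟨(pullback h.left g).residueField w, inferInstance, gL, ?_, ?_⟩
        · show Set.range (⇑(pullback.snd h.left g) ∘ ⇑((pullback h.left g).fromSpecResidueField w)) = _
          rw [Set.range_comp, Scheme.range_fromSpecResidueField, Set.image_singleton]
          exact congrArg _ hw₂
        · let jL : Over.mk (gL ≫ UA.hom) ⟶ UA := Over.homMk gL rfl
          let lT : Over.mk (gL ≫ UA.hom) ⟶ T₀ := Over.homMk ((pullback h.left g).fromSpecResidueField w ≫ pullback.fst h.left g) (by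
            show _ = gL ≫ g ≫ W.hom
            rw [← Over.w h]
            simp only [gL, Category.assoc, pullback.condition_assoc])
          obtain ⟨i⟩ := iso_of_section e (jL ≫ gA) ((AlgSp.yon S).map lT ≫ p) (by
            refine (Category.assoc _ _ _).trans ?_
            show _ ≫ p ≫ a = _
            rw [← hh, ← Functor.map_comp]
            refine congrArg _ (Over.OverMorphism.ext ?_)
            show (_ ≫ _) ≫ h.left = gL ≫ g
            simp only [gL, Category.assoc, pullback.condition])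
          exact ⟨(restrObjIso' jL gA _).symm ≪≫ i ≪≫ restrObjIso' jL gA _⟩
    have hVne : (V : Set ↥UA.left).Nonempty := hV.nonempty
    obtain ⟨v, hv⟩ := hVne
    obtain ⟨_, ⟨(O : UA.left.Opens), hO, rfl⟩, hvO, hOV⟩ :=
      UA.left.isBasis_affineOpens.exists_subset_of_mem_open hv V.2
    let VV : Over S := Over.mk (V.ι ≫ UA.hom)
    let jV : VV ⟶ UA := Over.homMk V.ι rfl
    let V₀ : Over S := Over.mk (O.ι ≫ UA.hom)
    let k : V₀ ⟶ VV := Over.homMk (UA.left.homOfLE hOV) (by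
      show UA.left.homOfLE hOV ≫ V.ι ≫ UA.hom = O.ι ≫ UA.hom
      rw [Scheme.homOfLE_ι_assoc])
    have : IsAffine V₀.left := hO
    refine ⟨V₀, k ≫ jV ≫ gA, O, ⟨v, hvO⟩, ?_, ?_⟩
    · show Set.range ⇑(UA.left.homOfLE hOV ≫ V.ι ≫ g) = _
      rw [Scheme.homOfLE_ι_assoc]
      show Set.range (⇑g ∘ ⇑O.ι) = _
      rw [Set.range_comp, Scheme.Opens.range_ι]
    · refine compactSpace_pullback_of_iso hX _ z he ?_ (hi V₀ inferInstance)
      exact restrObjIso' k (jV ≫ gA) _ ≪≫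
        whiskerL (overMap k) (restrObjIso' jV gA _ ≪≫ β ≪≫ (restrObjIso' jV gA _).symm) ≪≫
        (restrObjIso' k (jV ≫ gA) _).symm
  exact (repWith_precomp he _).1 ((repWith_congr (overFactor _)).2
    ((repWith_postcomp (toOverCat_isEquivOver W) _).2 (repWith_ofSpMap_of_prop hB F.property (AlgSp.IsAlgSpace.yon_obj W) a hqc)))

end Groth.L24.St
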