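import Groth.Agent.L24.St.MonoQc

/-!
Quasi-compactness of a morphism to a locally noetherian scheme from quasi-compactness over generic parts.
-/

set_option autoImplicit false
set_option backward.isDefEq.respectTransparency false
set_option backward.isDefEq.respectTransparency.types false

universe u

open CategoryTheory CategoryTheory.Limits AlgebraicGeometry Opposite AlgSp TopologicalSpace

noncomputable section

namespace Groth.L24.St

variable {S : Scheme.{u}}

/-- The image of a morphism to a scheme, as a set of points of the scheme. -/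
def ptsImage {W : Over S} {F : Sp S} (a : F ⟶ (yon S).obj W) : Set ↥W.left :=
  {w | Points.ofScheme W w ∈ Set.range (Points.map a)}

/-- The points over a part of a noetherian open form a compact set. -/
theorem isCompact_preimage_of_generic {W : Over S} {F : AlgSp.Space S} (a : F.obj ⟶ (yon S).obj W)
    (H : ∀ (A : Type u) [CommRing A] [IsDomain A] (g : Spec (CommRingCat.of A) ⟶ W.left),
      Dense (g ⁻¹' ptsImage a) →
      ∃ (V₀ : Over S) (j : V₀ ⟶ W) (O : (Spec (CommRingCat.of A)).Opens),
        (O : Set ↥(Spec (CommRingCat.of A))).Nonempty ∧ Set.range j.left = g '' (O : Set ↥(Spec (CommRingCat.of A))) ∧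
          CompactSpace (Points (pullback a ((yon S).map j))))
    (U' : W.left.Opens) [NoetherianSpace U'.toScheme] :
    IsCompact (Points.map a ⁻¹' (Points.ofScheme W '' (U' : Set ↥W.left))) := by
  let X := U'.toScheme
  let pre : Set X → Set (Points F.obj) := fun C => Points.map a ⁻¹' (Points.ofScheme W '' (U'.ι '' C))
  suffices key : ∀ C : Closeds X, IsCompact (pre C) by
    have h := key ⊤
    simp only [pre, Closeds.coe_top, Set.image_univ, Scheme.Opens.range_ι] at h
    exact h
  intro C
  refine wellFounded_lt.induction (C := fun C : Closeds X => IsCompact (pre C)) C ?_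
  intro C ih
  let I : Set X := U'.ι ⁻¹' ptsImage a
  rcases eq_or_ne (closure ((C : Set X) ∩ I)) (C : Set X) with hd | hd
  swap
  · have h1 := ih ⟨closure ((C : Set X) ∩ I), isClosed_closure⟩ (lt_of_le_of_ne
      (show closure ((C : Set X) ∩ I) ⊆ C from closure_minimal Set.inter_subset_left C.isClosed)
      (fun e => hd (congrArg (fun Z : Closeds X => (Z : Set X)) e)))
    have e : pre C = pre (closure ((C : Set X) ∩ I)) := by
      refine subset_antisymm ?_ (Set.preimage_mono (Set.image_mono (Set.image_mono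
        (closure_minimal Set.inter_subset_left C.isClosed))))
      rintro z ⟨_, ⟨x, hx, rfl⟩, hz⟩
      exact ⟨_, ⟨x, subset_closure ⟨hx, z, hz.symm⟩, rfl⟩, hz⟩
    rw [e]
    exact h1
  by_cases hirr : IsIrreducible (C : Set X)
  swap
  · rcases Set.eq_empty_or_nonempty (C : Set X) with hemp | hne
    · simp [pre, hemp]
    have hp : ¬ IsPreirreducible (C : Set X) := fun hp => hirr ⟨hne, hp⟩
    rw [isPreirreducible_iff_isClosed_union_isClosed] at hp
    push Not at hp
    obtain ⟨Z₁, Z₂, h₁, h₂, h12, hn1, hn2⟩ := hp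
    have step : ∀ Z : Set X, IsClosed Z → ¬ (C : Set X) ⊆ Z → IsCompact (pre ((C : Set X) ∩ Z)) := fun Z hZ hn =>
      ih ⟨(C : Set X) ∩ Z, C.isClosed.inter hZ⟩ (lt_of_le_of_ne (show (C : Set X) ∩ Z ⊆ C from Set.inter_subset_left)
        (fun e => hn (by
          have := congrArg (fun Y : Closeds X => (Y : Set X)) e
          exact Set.inter_eq_left.1 this)))
    have e : pre C = pre ((C : Set X) ∩ Z₁) ∪ pre ((C : Set X) ∩ Z₂) := by
      simp only [pre, ← Set.preimage_union, ← Set.image_union, ← Set.inter_union_distrib_left,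
        Set.inter_eq_left.2 h12]
    rw [e]
    exact (step Z₁ h₁ hn1).union (step Z₂ h₂ hn2)
  -- the generic point and an integral affine chart
  let η := hirr.genericPoint
  have hη : closure ({η} : Set X) = C := by
    have := hirr.isGenericPoint_genericPoint_closure.def
    rwa [C.isClosed.closure_eq] at this
  obtain ⟨_, ⟨(V : X.Opens), hV, rfl⟩, hηV, -⟩ :=
    X.isBasis_affineOpens.exists_subset_of_mem_open (Set.mem_univ η) isOpen_univ
  let P : PrimeSpectrum Γ(X, V) := hV.primeIdealOf ⟨η, hηV⟩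
  let A : Type u := Γ(X, V) ⧸ P.asIdeal
  let gX : Spec (CommRingCat.of A) ⟶ X :=
    Spec.map (CommRingCat.ofHom (Ideal.Quotient.mk P.asIdeal)) ≫ hV.fromSpec
  have hPη : hV.fromSpec P = η := hV.fromSpec_primeIdealOf ⟨η, hηV⟩
  have hrange : Set.range gX = (V : Set X) ∩ C := by
    have e1 : Set.range (Spec.map (CommRingCat.ofHom (Ideal.Quotient.mk P.asIdeal))) =
        closure ({P} : Set (PrimeSpectrum Γ(X, V))) := by
      rw [PrimeSpectrum.closure_singleton]
      exact (range_comap_of_surjective _ (Ideal.Quotient.mk P.asIdeal) Ideal.Quotient.mk_surjective).trans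
        (by rw [Ideal.mk_ker])
    have hi : Topology.IsEmbedding hV.fromSpec := hV.fromSpec.isOpenEmbedding.isEmbedding
    show Set.range (⇑hV.fromSpec ∘ ⇑(Spec.map (CommRingCat.ofHom (Ideal.Quotient.mk P.asIdeal)))) = _
    rw [Set.range_comp, e1, hi.isInducing.closure_eq_preimage_closure_image, Set.image_preimage_eq_inter_range,
      Set.image_singleton, hPη, hη, hV.range_fromSpec, Set.inter_comm]
  have hemb : Topology.IsEmbedding gX := hV.fromSpec.isOpenEmbedding.isEmbedding.comp
    (PrimeSpectrum.isClosedEmbedding_comap_of_surjective _ (Ideal.Quotient.mk P.asIdeal)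
      Ideal.Quotient.mk_surjective).isEmbedding
  let g : Spec (CommRingCat.of A) ⟶ W.left := gX ≫ U'.ι
  have hD : Dense (gX ⁻¹' I) := by
    rw [hemb.isInducing.dense_iff]
    intro q
    rw [Set.image_preimage_eq_inter_range, hrange]
    have hq : gX q ∈ (V : Set X) ∩ C := hrange ▸ Set.mem_range_self q
    refine closure_mono (fun x hx => ?_) (V.2.inter_closure ⟨hq.1, hd.symm ▸ hq.2⟩)
    exact ⟨hx.2.2, hx.1, hx.2.1⟩
  obtain ⟨V₀, j, O, ⟨w, hw⟩, hj, hc⟩ := H A g hD
  let Z : Set X := (C : Set X) \ gX '' (O : Set ↥(Spec (CommRingCat.of A)))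
  have hZ : IsClosed Z := by
    obtain ⟨V', hV', e⟩ := hemb.isInducing.isOpen_iff.1 O.2
    have : Z = (C : Set X) \ ((V : Set X) ∩ V') := by
      show (C : Set X) \ _ = _
      rw [show (O : Set ↥(Spec (CommRingCat.of A))) = gX ⁻¹' V' from e.symm, Set.image_preimage_eq_inter_range, hrange]
      ext x; simp; tauto
    rw [this]
    exact C.isClosed.sdiff (V.2.inter hV')
  have hOC : gX '' (O : Set ↥(Spec (CommRingCat.of A))) ⊆ (C : Set X) := fun x hx =>
    (hrange ▸ Set.image_subset_range _ _ hx : x ∈ (V : Set X) ∩ C).2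
  have h1 := ih ⟨Z, hZ⟩ (lt_of_le_of_ne (show Z ⊆ (C : Set X) from Set.sdiff_subset) fun e => by
    have hZC : Z = (C : Set X) := congrArg (fun Y : Closeds X => (Y : Set X)) e
    exact (hZC.symm ▸ hOC ⟨w, hw, rfl⟩ : gX w ∈ Z).2 ⟨w, hw, rfl⟩)
  have e : pre C = pre Z ∪ Set.range (Points.map (pullback.fst a ((yon S).map j))) := by
    rw [Groth.L23.range_fst_of_isPullback (IsPullback.of_hasPullback a ((yon S).map j)),
      ← Set.sdiff_union_of_subset hOC]
    have e2 : Set.range (Points.map ((yon S).map j)) =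
        Points.ofScheme W '' (U'.ι '' (gX '' (O : Set ↥(Spec (CommRingCat.of A))))) := by
      rw [← Set.image_comp U'.ι gX, show (U'.ι ∘ gX : _ → ↥W.left) = ⇑g from rfl, ← hj, ← Set.range_comp]
      ext x
      constructor
      · rintro ⟨y, rfl⟩
        obtain ⟨v, rfl⟩ := (Points.schemeEquiv V₀).surjective y
        exact ⟨v, by rw [Function.comp_apply, ← Groth.L23.ofPt_map, Points.ofPt_eq_map_ofScheme]; rfl⟩
      · rintro ⟨v, rfl⟩
        exact ⟨Points.ofScheme V₀ v, by rw [Function.comp_apply, ← Groth.L23.ofPt_map, Points.ofPt_eq_map_ofScheme]⟩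
    rw [e2]
    simp only [pre, Z, Set.image_union, Set.preimage_union]
  rw [e]
  exact h1.union (isCompact_range (Points.continuous_map _))

/-- A morphism to a locally noetherian scheme is quasi-compact if it is so over generic parts of its image. -/
theorem isQuasiCompactMor_of_generic {W : Over S} [IsLocallyNoetherian W.left] {F : AlgSp.Space S}
    (a : F.obj ⟶ (yon S).obj W)
    (H : ∀ (A : Type u) [CommRing A] [IsDomain A] (g : Spec (CommRingCat.of A) ⟶ W.left),
      Dense (g ⁻¹' ptsImage a) →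
      ∃ (V₀ : Over S) (j : V₀ ⟶ W) (O : (Spec (CommRingCat.of A)).Opens),
        (O : Set ↥(Spec (CommRingCat.of A))).Nonempty ∧ Set.range j.left = g '' (O : Set ↥(Spec (CommRingCat.of A))) ∧
          CompactSpace (Points (pullback a ((yon S).map j)))) :
    AlgSp.IsQuasiCompactMor a := by
  obtain ⟨T, p, hpe, hps⟩ := F.property.atlas
  obtain ⟨h, hh⟩ := (yon S).map_surjective (p ≫ a)
  refine Groth.L23.isQuasiCompactMor_of_affine F.property (IsAlgSpace.yon_obj W) fun W' hW' g => ?_
  obtain ⟨ψ, rfl⟩ := (yon S).map_surjective g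
  obtain ⟨s, hs⟩ := (isCompact_range ψ.left.continuous).elim_finite_subcover
    (fun O : W.left.affineOpens => (O.1 : Set ↥W.left)) (fun O => O.1.2) (fun x _ => by
      obtain ⟨O, hO, ht, -⟩ := W.left.isBasis_affineOpens.exists_subset_of_mem_open (Set.mem_univ x) isOpen_univ
      obtain ⟨O', hO', rfl⟩ := hO
      exact Set.mem_iUnion.2 ⟨⟨O', hO'⟩, ht⟩)
  let U' : W.left.Opens := ⟨⋃ i ∈ s, (i.1 : Set ↥W.left), isOpen_biUnion fun i _ => i.1.2⟩
  have : CompactSpace U'.toScheme := isCompact_iff_compactSpace.1 (s.isCompact_biUnion fun i _ => i.2.isCompact)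
  have : IsNoetherian U'.toScheme := { }
  have hK := isCompact_preimage_of_generic a H U'
  obtain ⟨s', hs'⟩ := hK.elim_finite_subcover
    (fun O : T.left.affineOpens => Points.ofPt p '' (O.1 : Set ↥T.left))
    (fun O => Groth.L23.isOpenMap_ofPt hpe _ O.1.2) (fun x _ => by
      obtain ⟨t, rfl⟩ := Groth.L23.surjective_ofPt hps x
      obtain ⟨O, hO, ht, -⟩ := T.left.isBasis_affineOpens.exists_subset_of_mem_open (Set.mem_univ t) isOpen_univ
      obtain ⟨O', hO', rfl⟩ := hO
      exact Set.mem_iUnion.2 ⟨⟨O', hO'⟩, t, ht, rfl⟩)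
  let Oo : T.left.Opens := ⟨⋃ i ∈ s', (i.1 : Set ↥T.left), isOpen_biUnion fun i _ => i.1.2⟩
  let T' : Over S := Over.mk (Oo.ι ≫ T.hom)
  let jT : T' ⟶ T := Over.homMk Oo.ι rfl
  have : CompactSpace T'.left := isCompact_iff_compactSpace.1 (s'.isCompact_biUnion fun i _ => i.2.isCompact)
  let φ : T' ⟶ W := jT ≫ h
  let Q := pullback φ ψ
  have sqQ : IsPullback (pullback.fst φ ψ).left (pullback.snd φ ψ).left φ.left ψ.left :=
    (IsPullback.of_hasPullback φ ψ).map (Over.forget S)
  have : QuasiSeparatedSpace W.left := inferInstance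
  have hqcφ : QuasiCompact φ.left := inferInstance
  have : CompactSpace Q.left := by
    have h1 : QuasiCompact (pullback.snd φ ψ).left :=
      MorphismProperty.of_isPullback sqQ hqcφ
    exact (quasiCompact_iff_compactSpace (pullback.snd φ ψ).left).1 h1
  have sq := IsPullback.of_hasPullback a ((yon S).map ψ)
  have sqY := (IsPullback.of_hasPullback φ ψ).map (yon S)
  have hφ' : (yon S).map φ = ((yon S).map jT ≫ p) ≫ a := by rw [Category.assoc, ← hh, ← Functor.map_comp]
  let m := sq.lift ((yon S).map (pullback.fst φ ψ) ≫ (yon S).map jT ≫ p) ((yon S).map (pullback.snd φ ψ)) (by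
    rw [Category.assoc, ← hφ']
    exact sqY.w)
  have sqm : IsPullback ((yon S).map (pullback.fst φ ψ)) m ((yon S).map jT ≫ p)
      (pullback.fst a ((yon S).map ψ)) :=
    IsPullback.of_bot (by rw [sq.lift_snd, ← hφ']; exact sqY) (sq.lift_fst _ _ _).symm sq
  refine Groth.L23.qcSp_of_surjective
    (Groth.L23.isAlgSpace_of_isPullback (IsAlgSpace.yon_obj W).diag F.property (IsAlgSpace.yon_obj W') sq) m ?_
    Groth.L23.isQuasiCompactSp_of_compactSpace
  intro z
  obtain ⟨w, hw⟩ := (Points.schemeEquiv W').surjective (Points.map (pullback.snd a ((yon S).map ψ)) z)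
  have hx : Points.map (pullback.fst a ((yon S).map ψ)) z ∈
      Points.map a ⁻¹' (Points.ofScheme W '' (U' : Set ↥W.left)) := by
    refine ⟨ψ.left w, hs ⟨w, rfl⟩, ?_⟩
    rw [← Groth.L23.ofPt_map, Points.ofPt_eq_map_ofScheme, ← Points.map_comp, pullback.condition, Points.map_comp]
    exact congrArg _ hw
  obtain ⟨i, hi, t, ht, e⟩ := Set.mem_iUnion₂.1 (hs' hx)
  have htO : t ∈ Oo := Set.mem_iUnion₂.2 ⟨i, hi, ht⟩
  obtain ⟨z', -, hz'⟩ := Groth.L23.exists_of_isPullback sqm (Points.ofScheme T' ⟨t, htO⟩) z (by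
    rw [← e, ← Points.ofPt_eq_map_ofScheme, ← Points.map_ofPt, Groth.L23.ofPt_map, Points.ofPt_eq_map_ofScheme]
    rfl)
  exact ⟨z', hz'⟩

end Groth.L24.St
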