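import Groth.Agent.L24.St.MonoQcStack
import Groth.Agent.L24.Mono.Factor
import Groth.Agent.L19.MonoImmersion
import Groth.Agent.L23.FppfImmersion
import Groth.Agent.L23.FpqcQuasiAffine
import Groth.Agent.S15348

/-!
Monomorphisms of stacks with valuative and dense lifting are quasi-compact immersions.
-/

set_option autoImplicit false
set_option backward.isDefEq.respectTransparency false
set_option backward.isDefEq.respectTransparency.types false

universe u

open CategoryTheory CategoryTheory.Limits AlgebraicGeometry Opposite AlgSt TopologicalSpace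

noncomputable section

namespace Groth.L24.St

variable {S : Scheme.{u}} {𝒳 𝒴 : AlgSt.Cat S}

/-- A monomorphism locally of finite type from a space to a scheme comes from a scheme. -/
theorem exists_scheme_of_mono_lft {U₀ : Over S} {F : AlgSp.Sp S} (hF : AlgSp.IsAlgSpace F)
    (a : F ⟶ (AlgSp.yon S).obj U₀) [Mono a] (hlft : AlgSp.LocP @LocallyOfFiniteType a) :
    ∃ (G : Over S) (θ : (AlgSp.yon S).obj G ⟶ F), IsIso θ := by
  obtain ⟨V, η, hη, hηs⟩ := hF.atlas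
  obtain ⟨hV, hVh⟩ := (AlgSp.yon S).map_surjective (η ≫ a)
  have : LocallyOfFiniteType hV.left :=
    hlft η (𝟙 _) hV hη (Groth.L23.repWith_of_isIso _) (by rw [Category.comp_id, hVh])
  have sqV := IsPullback.of_hasPullback hV hV
  have sqV' := sqV.map (AlgSp.yon S)
  have sqη : IsPullback ((AlgSp.yon S).map (pullback.fst hV hV)) ((AlgSp.yon S).map (pullback.snd hV hV)) η η :=
    IsPullback.of_isLimit (PullbackCone.IsLimit.mk
      (by rw [← cancel_mono a, Category.assoc, Category.assoc, ← hVh]; exact sqV'.w)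
      (fun c => sqV'.lift c.fst c.snd (by rw [hVh, c.condition_assoc]))
      (fun c => sqV'.lift_fst _ _ _) (fun c => sqV'.lift_snd _ _ _)
      (fun c m h₁ h₂ => sqV'.hom_ext (by rw [sqV'.lift_fst]; exact h₁) (by rw [sqV'.lift_snd]; exact h₂)))
  have he : Etale (pullback.fst hV hV).left := Groth.L23.repWith_prop hη sqη.flip
  have : Etale (pullback.fst hV.left hV.left) := by
    show Etale (pullback.fst ((Over.forget S).map hV) ((Over.forget S).map hV))
    rw [← (sqV.map (Over.forget S)).isoPullback_inv_fst]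
    exact (MorphismProperty.cancel_left_of_respectsIso (P := @Etale) _ _).2 he
  have hι : AlgSp.LocP (@LocallyQuasiFinite ⊓ @LocallyOfFiniteType) a :=
    Groth.L23.locP_of_chart Groth.L23.etLocal_lqfLft hη hηs (b := 𝟙 _) (Groth.L23.repWith_of_isIso _)
      (by rw [Category.comp_id, hVh]) ⟨Groth.L24.MonoFac.locallyQuasiFinite_of_etale_fst hV.left, ‹_›⟩
  exact Groth.L23.Lqf.exists_scheme_of_lqf hF a hι (Groth.L24.MonoFac.separated_of_mono a)

/-- Restriction of a restricted object. -/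
def restrObjIso {T T' U₀ : Over S} (j : T' ⟶ T) (t : T ⟶ U₀) (t' : T' ⟶ U₀) (h : j ≫ t = t')
    (z : FibCat.overCat U₀ ⥤ᵇ 𝒳) :
    BasedFunctor.comp (overMap t') z ≅ BasedFunctor.comp (overMap j) (BasedFunctor.comp (overMap t) z) :=
  whiskerR (eqToIso (congrArg overMap h.symm) ≪≫ overMapCompIso j t) z

/-- Lifts through a scheme representing the fibre product are lifts of objects. -/
theorem exists_lift_iff {f : 𝒴 ⥤ᵇ 𝒳} {U₀ : Over S} {z : FibCat.overCat U₀ ⥤ᵇ 𝒳} {F : AlgSp.Sp S}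
    {e : ofSp F ⥤ᵇ FibCat.fp z f} (he : FibCat.IsEquivOver e) {G : Over S} (θ : (AlgSp.yon S).obj G ⟶ F) [IsIso θ]
    (φ : G ⟶ U₀) (hφ : (AlgSp.yon S).map φ = θ ≫ spMapOfOver (BasedFunctor.comp e (FibCat.fpFst z f)))
    {T : Over S} (t : T ⟶ U₀) :
    (∃ l : T.left ⟶ G.left, l ≫ φ.left = t.left) ↔
      ∃ y : FibCat.overCat T ⥤ᵇ 𝒴, Nonempty (BasedFunctor.comp y f ≅ BasedFunctor.comp (overMap t) z) := by
  constructor
  · rintro ⟨l, hl⟩
    have hw : l ≫ G.hom = T.hom := by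
      rw [← Over.w φ, ← Over.w t, ← hl, Category.assoc]
    refine exists_lift_of_section e t ((AlgSp.yon S).map (Over.homMk l hw) ≫ θ) ?_
    rw [Category.assoc, ← hφ, ← Functor.map_comp]
    exact congrArg _ (Over.OverMorphism.ext hl)
  · rintro ⟨y, ⟨α⟩⟩
    obtain ⟨σ, hσ⟩ := exists_section_of_lift he t y α
    obtain ⟨l, hl⟩ := (AlgSp.yon S).map_surjective (σ ≫ inv θ)
    refine ⟨l.left, ?_⟩
    have h1 : l ≫ φ = t := (AlgSp.yon S).map_injective (by
      rw [Functor.map_comp, hl, hφ, Category.assoc, IsIso.inv_hom_id_assoc]; exact hσ)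
    exact congrArg CommaMorphism.left h1

/-- Lifts through the scheme after restriction. -/
theorem exists_lift_restr_iff {f : 𝒴 ⥤ᵇ 𝒳} {U₀ : Over S} {z : FibCat.overCat U₀ ⥤ᵇ 𝒳} {F : AlgSp.Sp S}
    {e : ofSp F ⥤ᵇ FibCat.fp z f} (he : FibCat.IsEquivOver e) {G : Over S} (θ : (AlgSp.yon S).obj G ⟶ F) [IsIso θ]
    (φ : G ⟶ U₀) (hφ : (AlgSp.yon S).map φ = θ ≫ spMapOfOver (BasedFunctor.comp e (FibCat.fpFst z f)))
    {T T' : Over S} (j : T' ⟶ T) (t : T ⟶ U₀) :
    (∃ l : T'.left ⟶ G.left, l ≫ φ.left = j.left ≫ t.left) ↔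
      ∃ y : FibCat.overCat T' ⥤ᵇ 𝒴, Nonempty (BasedFunctor.comp y f ≅
        BasedFunctor.comp (overMap j) (BasedFunctor.comp (overMap t) z)) := by
  refine (exists_lift_iff he θ φ hφ (j ≫ t)).trans (exists_congr fun y => ?_)
  exact ⟨fun ⟨i⟩ => ⟨i ≪≫ restrObjIso j t _ rfl z⟩, fun ⟨i⟩ => ⟨i ≪≫ (restrObjIso j t _ rfl z).symm⟩⟩

theorem repWith_qcImmersion_of_lifts (h𝒳 : AlgSt.IsAlgStack Scheme.fppfPrecoverage 𝒳)
    (h𝒴 : AlgSt.IsAlgStack Scheme.fppfPrecoverage 𝒴)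
    (hnoeth : AlgSt.SmoothLocally (fun X => IsLocallyNoetherian X) 𝒳) (f : 𝒴 ⥤ᵇ 𝒳)
    (hrep : AlgSt.RepByAlgSp1 f) (hlfp : AlgSt.RepByAlgSpWith (AlgSp.LocP @LocallyOfFinitePresentation) f)
    (ha : AlgSt.IsMono f)
    (hb : ∀ (A : Type u) [CommRing A] [IsDomain A] [IsDiscreteValuationRing A] (K : Type u) [Field K] [Algebra A K]
      [IsFractionRing A K] (sA : Spec (CommRingCat.of A) ⟶ S) (a : FibCat.overCat (Over.mk sA) ⥤ᵇ 𝒳),
      (∃ yK : FibCat.overCat (Over.mk (Spec.map (CommRingCat.ofHom (algebraMap A K)) ≫ sA)) ⥤ᵇ 𝒴,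
          Nonempty (BasedFunctor.comp yK f ≅ BasedFunctor.comp (AlgSt.overMap (Over.homMk (Spec.map (CommRingCat.ofHom (algebraMap A K))) rfl : Over.mk ((Spec.map (CommRingCat.ofHom (algebraMap A K))) ≫ sA) ⟶ Over.mk sA)) a)) →
      (∃ yk : FibCat.overCat (Over.mk (Spec.map (CommRingCat.ofHom (IsLocalRing.residue A)) ≫ sA)) ⥤ᵇ 𝒴,
          Nonempty (BasedFunctor.comp yk f ≅ BasedFunctor.comp (AlgSt.overMap (Over.homMk (Spec.map (CommRingCat.ofHom (IsLocalRing.residue A))) rfl : Over.mk ((Spec.map (CommRingCat.ofHom (IsLocalRing.residue A))) ≫ sA) ⟶ Over.mk sA)) a)) →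
      ∃ y : FibCat.overCat (Over.mk sA) ⥤ᵇ 𝒴, Nonempty (BasedFunctor.comp y f ≅ a))
    (hc : ∀ (A : Type u) [CommRing A] [IsDomain A] (sA : Spec (CommRingCat.of A) ⟶ S)
      (a : FibCat.overCat (Over.mk sA) ⥤ᵇ 𝒳) (D : Set ↥(Spec (CommRingCat.of A))), Dense D →
      (∀ p ∈ D, ∃ yp : FibCat.overCat (Over.mk ((Spec (CommRingCat.of A)).fromSpecResidueField p ≫ sA)) ⥤ᵇ 𝒴,
          Nonempty (BasedFunctor.comp yp f ≅ BasedFunctor.comp (AlgSt.overMap (Over.homMk ((Spec (CommRingCat.of A)).fromSpecResidueField p) rfl : Over.mk (((Spec (CommRingCat.of A)).fromSpecResidueField p) ≫ sA) ⟶ Over.mk sA)) a)) →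
      ∃ U : (Spec (CommRingCat.of A)).Opens, (U : Set ↥(Spec (CommRingCat.of A))).Nonempty ∧
        ∃ yU : FibCat.overCat (Over.mk (U.ι ≫ sA)) ⥤ᵇ 𝒴,
          Nonempty (BasedFunctor.comp yU f ≅ BasedFunctor.comp (AlgSt.overMap (Over.homMk (U.ι) rfl : Over.mk ((U.ι) ≫ sA) ⟶ Over.mk sA)) a)) :
    AlgSt.RepByAlgSpWith (AlgSp.RepWith (@IsImmersion ⊓ @QuasiCompact)) f := by
  obtain ⟨U₀, z, hz, hzs⟩ := h𝒳.atlas
  have : IsLocallyNoetherian U₀.left := hnoeth U₀ z hz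
  have hz₁ : RepByAlgSpWith (AlgSp.LocP @Flat) z := repWith_mono (fun F U _ a h => fun U' V α b k hα hb w => by
    have := h α b k hα hb w; infer_instance) hz
  have hz₂ : RepByAlgSpWith (AlgSp.LocP @LocallyOfFinitePresentation) z := repWith_mono (fun F U _ a h => fun U' V α b k hα hb w => by
    have := h α b k hα hb w; infer_instance) hz
  have hB : PBase (AlgSp.RepWith (@IsImmersion ⊓ @QuasiCompact) : MorphismProperty (AlgSp.Sp S)) :=
    fun _ _ _ _ _ _ _ _ _ _ _ _ sq h => Groth.L23.repWith_of_isPullback sq h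
  have hL : AlgSp.IsLocalOnBase (S := S) AlgSp.IsFppfCover (AlgSp.RepWith (@IsImmersion ⊓ @QuasiCompact)) :=
    fun ι Y Yi g hY hYi hcov X f hX Xi p q hXi sq => Groth.L23.isLocalOnBase_fpqc_qcImmersion Yi g hY hYi
      (Groth.L23.isFpqcCover_of_isFppfCover hY hYi hcov) f hX Xi p q hXi sq
  refine (repWith_iff_fpFst_cover hB hL h𝒴.isStack.1 h𝒳.isStack.1
    (overCat_isFibGrpd U₀) hrep hz₁ hz₂ hzs).2 ?_
  obtain ⟨F, e, he, hp⟩ := hlfp U₀ z
  let a := spMapOfOver (BasedFunctor.comp e (FibCat.fpFst z f))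
  have : Mono a := Wit.prop_of_equiv (P := MorphismProperty.monomorphisms (AlgSp.Sp S))
    (fun F F' _ _ i _ a (h : Mono a) => show Mono (i ≫ a) from mono_comp i a)
    (ha U₀ z) F.property e he
  have hlft : AlgSp.LocP @LocallyOfFiniteType a := fun U' V α b k hα hb w => by
    have := hp α b k hα hb w; infer_instance
  obtain ⟨G, θ, hθ⟩ := exists_scheme_of_mono_lft F.property a hlft
  obtain ⟨φ, hφ⟩ := (AlgSp.yon S).map_surjective (θ ≫ a)
  have : Mono φ := (AlgSp.yon S).mono_of_mono_map (show Mono ((AlgSp.yon S).map φ) by rw [hφ]; infer_instance)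
  have : Mono φ.left := inferInstance
  have : LocallyOfFinitePresentation φ.left :=
    hp θ (𝟙 _) φ (Groth.L23.repWith_of_isIso _) (Groth.L23.repWith_of_isIso _) (by rw [Category.comp_id, hφ])
  have hφ' : (AlgSp.yon S).map φ = θ ≫ spMapOfOver (BasedFunctor.comp e (FibCat.fpFst z f)) := hφ
  have hc' : ∀ (A : Type u) [CommRing A] [IsDomain A] (s : Spec (CommRingCat.of A) ⟶ U₀.left)
      (D : Set ↥(Spec (CommRingCat.of A))), Dense D →
      (∀ p ∈ D, ∃ l : Spec ((Spec (CommRingCat.of A)).residueField p) ⟶ G.left,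
          l ≫ φ.left = (Spec (CommRingCat.of A)).fromSpecResidueField p ≫ s) →
        ∃ U : (Spec (CommRingCat.of A)).Opens, (U : Set ↥(Spec (CommRingCat.of A))).Nonempty ∧
          ∃ l : (U : Scheme.{u}) ⟶ G.left, l ≫ φ.left = U.ι ≫ s := by
    intro A _ _ s D hD hl
    let t : Over.mk (s ≫ U₀.hom) ⟶ U₀ := Over.homMk s rfl
    obtain ⟨V, hV, hyV⟩ := hc A (s ≫ U₀.hom) (BasedFunctor.comp (overMap t) z) D hD fun q hq =>
      (exists_lift_restr_iff he θ φ hφ' (Over.homMk ((Spec (CommRingCat.of A)).fromSpecResidueField q) rfl :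
        Over.mk ((Spec (CommRingCat.of A)).fromSpecResidueField q ≫ s ≫ U₀.hom) ⟶ Over.mk (s ≫ U₀.hom)) t).1 (hl q hq)
    exact ⟨V, hV, (exists_lift_restr_iff he θ φ hφ'
      (Over.homMk V.ι rfl : Over.mk (V.ι ≫ s ≫ U₀.hom) ⟶ Over.mk (s ≫ U₀.hom)) t).2 hyV⟩
  have hb' : ∀ S' : ValuativeCommSq φ.left, IsDiscreteValuationRing S'.R →
      (∃ l₀ : Spec (CommRingCat.of (IsLocalRing.ResidueField S'.R)) ⟶ G.left,
          l₀ ≫ φ.left = Spec.map (CommRingCat.ofHom (IsLocalRing.residue S'.R)) ≫ S'.i₂) →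
        S'.commSq.HasLift := by
    intro S' hS' hl₀
    haveI := hS'
    let t : Over.mk (S'.i₂ ≫ U₀.hom) ⟶ U₀ := Over.homMk S'.i₂ rfl
    obtain ⟨l, hl⟩ := (exists_lift_iff he θ φ hφ' t).2 (hb S'.R S'.K (S'.i₂ ≫ U₀.hom)
      (BasedFunctor.comp (overMap t) z)
      ((exists_lift_restr_iff he θ φ hφ' (Over.homMk (Spec.map (CommRingCat.ofHom (algebraMap S'.R S'.K))) rfl :
        Over.mk (Spec.map (CommRingCat.ofHom (algebraMap S'.R S'.K)) ≫ S'.i₂ ≫ U₀.hom) ⟶ Over.mk (S'.i₂ ≫ U₀.hom)) t).1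
        ⟨S'.i₁, S'.commSq.w⟩)
      ((exists_lift_restr_iff he θ φ hφ' (Over.homMk (Spec.map (CommRingCat.ofHom (IsLocalRing.residue S'.R))) rfl :
        Over.mk (Spec.map (CommRingCat.ofHom (IsLocalRing.residue S'.R)) ≫ S'.i₂ ≫ U₀.hom) ⟶ Over.mk (S'.i₂ ≫ U₀.hom)) t).1 hl₀))
    have hl' : l ≫ φ.left = S'.i₂ := hl
    refine ⟨⟨{ l := l, fac_left := ?_, fac_right := hl' }⟩⟩
    rw [← cancel_mono φ.left, Category.assoc, hl', S'.commSq.w]
  have himm : IsImmersion φ.left := Groth.Agent.S15348.result φ.left hb' hc'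
  have hqc : QuasiCompact φ.left := Groth.L19.quasiCompact_of_denseLift φ.left hc'
  have hrw : AlgSp.RepWith (@IsImmersion ⊓ @QuasiCompact) a := by
    have h1 : AlgSp.RepWith (@IsImmersion ⊓ @QuasiCompact) ((AlgSp.yon S).map φ) :=
      Groth.L23.repWith_map (S := S) ⟨himm, hqc⟩
    have h2 : a = inv θ ≫ (AlgSp.yon S).map φ := by rw [hφ, IsIso.inv_hom_id_assoc]
    rw [h2]
    exact Groth.L23.repWith_comp (Groth.L23.repWith_of_isIso _) h1
  exact (repWith_precomp he _).1 ((repWith_congr (overFactor _)).2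
    ((repWith_postcomp (toOverCat_isEquivOver U₀) _).2 (repWith_ofSpMap_of_prop hB F.property (AlgSp.IsAlgSpace.yon_obj U₀) a hrw)))

end Groth.L24.St
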