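import Groth.Agent.L24.St.FlatCover
import Groth.Agent.L24.St.LocPRep
import Groth.Agent.L23.MonoField
import Groth.Agent.L23.MorCalc

/-!
Quasi-compactness of monomorphisms to locally noetherian schemes with constructible image.
-/

set_option autoImplicit false
set_option backward.isDefEq.respectTransparency false
set_option backward.isDefEq.respectTransparency.types false

universe u

open CategoryTheory CategoryTheory.Limits AlgebraicGeometry Opposite AlgSp TopologicalSpace

noncomputable section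

namespace Groth.L24.St

variable {S : Scheme.{u}}

theorem injective_points_map_of_mono {F G : Sp S} (a : F ⟶ G) [Mono a] : Function.Injective (Points.map a) := by
  intro x y e
  obtain ⟨p, hp₁, hp₂⟩ := Groth.L23.exists_of_isPullback (IsKernelPair.id_of_mono a) x y e
  exact hp₁.symm.trans hp₂

theorem map_ofPt_eq_ofScheme {F : Sp S} {T U₀ : Over S} {a : F ⟶ (yon S).obj U₀} {p : (yon S).obj T ⟶ F}
    {h : T ⟶ U₀} (hh : (yon S).map h = p ≫ a) (t : ↥T.left) :
    Points.map a (Points.ofPt p t) = Points.ofScheme U₀ (h.left t) := by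
  rw [Points.map_ofPt, ← hh, Groth.L23.ofPt_map]

/-- The image of an atlas of a monomorphism with the dense lifting property is covered by a compact open. -/
theorem exists_compact_covering {U₀ : Over S} {F : AlgSp.Space S} (a : F.obj ⟶ (yon S).obj U₀) [Mono a]
    (hc : ∀ (A : Type u) [CommRing A] [IsDomain A] (g : Spec (CommRingCat.of A) ⟶ U₀.left)
      (D : Set ↥(Spec (CommRingCat.of A))), Dense D →
      (∀ q ∈ D, ∃ σ : (yon S).obj (Over.mk ((Spec (CommRingCat.of A)).fromSpecResidueField q ≫ g ≫ U₀.hom)) ⟶ F.obj,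
        σ ≫ a = (yon S).map (Over.homMk ((Spec (CommRingCat.of A)).fromSpecResidueField q ≫ g) (by simp))) →
      ∃ V : (Spec (CommRingCat.of A)).Opens, (V : Set ↥(Spec (CommRingCat.of A))).Nonempty ∧
        ∃ σ : (yon S).obj (Over.mk (V.ι ≫ g ≫ U₀.hom)) ⟶ F.obj,
          σ ≫ a = (yon S).map (Over.homMk (V.ι ≫ g) (by simp)))
    {T : Over S} {p : (yon S).obj T ⟶ F.obj} (hpe : RepWith @Etale p) (hps : RepWith @Surjective p)
    {h : T ⟶ U₀} (hh : (yon S).map h = p ≫ a)
    (U' : U₀.left.Opens) [NoetherianSpace U'.toScheme] :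
    ∃ O : Set ↥T.left, IsOpen O ∧ IsCompact O ∧ ∀ t, h.left t ∈ U' → h.left t ∈ h.left '' O := by
  let X := U'.toScheme
  let I : Set X := U'.ι ⁻¹' Set.range h.left
  suffices key : ∀ C : Closeds X, ∃ O : Set ↥T.left, IsOpen O ∧ IsCompact O ∧
      ∀ x ∈ C, x ∈ I → U'.ι x ∈ h.left '' O by
    obtain ⟨O, hO, hOc, hO'⟩ := key ⊤
    exact ⟨O, hO, hOc, fun t ht => hO' ⟨h.left t, ht⟩ trivial ⟨t, rfl⟩⟩
  intro C
  refine wellFounded_lt.induction (C := fun C : Closeds X => ∃ O : Set ↥T.left, IsOpen O ∧ IsCompact O ∧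
    ∀ x ∈ C, x ∈ I → U'.ι x ∈ h.left '' O) C ?_
  intro C ih
  rcases eq_or_ne (closure ((C : Set X) ∩ I)) (C : Set X) with hd | hd
  swap
  · obtain ⟨O, hO, hOc, hO'⟩ := ih ⟨closure ((C : Set X) ∩ I), isClosed_closure⟩ (lt_of_le_of_ne
      (show closure ((C : Set X) ∩ I) ⊆ C from closure_minimal Set.inter_subset_left C.isClosed)
      (fun e => hd (congrArg (fun Z : Closeds X => (Z : Set X)) e)))
    exact ⟨O, hO, hOc, fun x hx hI => hO' x (subset_closure ⟨hx, hI⟩) hI⟩
  by_cases hirr : IsIrreducible (C : Set X)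
  swap
  · rcases Set.eq_empty_or_nonempty (C : Set X) with hemp | hne
    · exact ⟨∅, isOpen_empty, isCompact_empty, fun x hx => absurd hx (by simp [← SetLike.mem_coe, hemp])⟩
    have hp : ¬ IsPreirreducible (C : Set X) := fun hp => hirr ⟨hne, hp⟩
    rw [isPreirreducible_iff_isClosed_union_isClosed] at hp
    push Not at hp
    obtain ⟨Z₁, Z₂, h₁, h₂, h12, hn1, hn2⟩ := hp
    have step : ∀ Z : Set X, IsClosed Z → ¬ (C : Set X) ⊆ Z → ∃ O : Set ↥T.left, IsOpen O ∧ IsCompact O ∧
        ∀ x ∈ (C : Set X) ∩ Z, x ∈ I → U'.ι x ∈ h.left '' O := fun Z hZ hn =>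
      ih ⟨(C : Set X) ∩ Z, C.isClosed.inter hZ⟩ (lt_of_le_of_ne (show (C : Set X) ∩ Z ⊆ C from Set.inter_subset_left)
        (fun e => hn (by
          have := congrArg (fun Y : Closeds X => (Y : Set X)) e
          exact Set.inter_eq_left.1 this)))
    obtain ⟨O₁, hO₁, hc₁, hO₁'⟩ := step Z₁ h₁ hn1
    obtain ⟨O₂, hO₂, hc₂, hO₂'⟩ := step Z₂ h₂ hn2
    refine ⟨O₁ ∪ O₂, hO₁.union hO₂, hc₁.union hc₂, fun x hx hI => ?_⟩
    rcases h12 hx with h' | h'
    · exact Set.image_mono Set.subset_union_left (hO₁' x ⟨hx, h'⟩ hI)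
    · exact Set.image_mono Set.subset_union_right (hO₂' x ⟨hx, h'⟩ hI)
  -- the generic point and an integral affine chart
  let η := hirr.genericPoint
  have hη : closure ({η} : Set X) = C := by
    have := hirr.isGenericPoint_genericPoint_closure.def
    rwa [C.isClosed.closure_eq] at this
  obtain ⟨_, ⟨(V : X.Opens), hV, rfl⟩, hηV, -⟩ :=
    X.isBasis_affineOpens.exists_subset_of_mem_open (Set.mem_univ η) isOpen_univ
  let P : PrimeSpectrum Γ(X, V) := hV.primeIdealOf ⟨η, hηV⟩
  let A : Type u := Γ(X, V) ⧸ P.asIdeal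
  let gX : Spec (CommRingCat.of A) ⟶ X :=
    Spec.map (CommRingCat.ofHom (Ideal.Quotient.mk P.asIdeal)) ≫ hV.fromSpec
  have hPη : hV.fromSpec P = η := hV.fromSpec_primeIdealOf ⟨η, hηV⟩
  have hrange : Set.range gX = (V : Set X) ∩ C := by
    have e1 : Set.range (Spec.map (CommRingCat.ofHom (Ideal.Quotient.mk P.asIdeal))) =
        closure ({P} : Set (PrimeSpectrum Γ(X, V))) := by
      rw [PrimeSpectrum.closure_singleton]
      exact (range_comap_of_surjective _ (Ideal.Quotient.mk P.asIdeal) Ideal.Quotient.mk_surjective).trans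
        (by rw [Ideal.mk_ker])
    have hi : Topology.IsEmbedding hV.fromSpec := hV.fromSpec.isOpenEmbedding.isEmbedding
    show Set.range (⇑hV.fromSpec ∘ ⇑(Spec.map (CommRingCat.ofHom (Ideal.Quotient.mk P.asIdeal)))) = _
    rw [Set.range_comp, e1, hi.isInducing.closure_eq_preimage_closure_image, Set.image_preimage_eq_inter_range,
      Set.image_singleton, hPη, hη, hV.range_fromSpec, Set.inter_comm]
  have hemb : Topology.IsEmbedding gX := hV.fromSpec.isOpenEmbedding.isEmbedding.comp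
    (PrimeSpectrum.isClosedEmbedding_comap_of_surjective _ (Ideal.Quotient.mk P.asIdeal)
      Ideal.Quotient.mk_surjective).isEmbedding
  let g : Spec (CommRingCat.of A) ⟶ U₀.left := gX ≫ U'.ι
  let D : Set ↥(Spec (CommRingCat.of A)) := gX ⁻¹' I
  have hD : Dense D := by
    rw [hemb.isInducing.dense_iff]
    intro q
    rw [Set.image_preimage_eq_inter_range, hrange]
    have hq : gX q ∈ (V : Set X) ∩ C := hrange ▸ Set.mem_range_self q
    refine closure_mono (fun x hx => ?_) (V.2.inter_closure ⟨hq.1, hd.symm ▸ hq.2⟩)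
    exact ⟨hx.2.2, hx.1, hx.2.1⟩
  obtain ⟨W, ⟨w, hw⟩, σ, hσ⟩ := hc A g D hD (by
    rintro q ⟨t, ht⟩
    let Q : Over S := Over.mk ((Spec (CommRingCat.of A)).fromSpecResidueField q ≫ g ≫ U₀.hom)
    let gQ : Q ⟶ U₀ := Over.homMk ((Spec (CommRingCat.of A)).fromSpecResidueField q ≫ g) (by simp [Q])
    let c : ↥Q.left := IsLocalRing.closedPoint ((Spec (CommRingCat.of A)).residueField q)
    have hc' : gQ.left c = h.left t := by
      rw [ht]
      show g ((Spec (CommRingCat.of A)).fromSpecResidueField q c) = _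
      rw [Scheme.fromSpecResidueField_apply]
      rfl
    have sq := IsPullback.of_hasPullback a ((yon S).map gQ)
    obtain ⟨z, -, -⟩ := Groth.L23.exists_of_isPullback sq (Points.ofPt p t) (Points.ofScheme Q c) (by
      rw [map_ofPt_eq_ofScheme hh, ← hc', ← Groth.L23.ofPt_map, Points.ofPt_eq_map_ofScheme])
    rcases Groth.L23.isEmpty_or_isIso_of_mono_to_field _
      (Groth.L23.isAlgSpace_of_isPullback (IsAlgSpace.yon_obj U₀).diag F.property (IsAlgSpace.yon_obj Q) sq)
      (pullback.snd a ((yon S).map gQ)) with he | hiso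
    · exact (he.false z).elim
    · exact ⟨inv (pullback.snd a ((yon S).map gQ)) ≫ pullback.fst _ _, by
        exact (Category.assoc _ _ _).trans ((_ ≫= pullback.condition).trans (IsIso.inv_hom_id_assoc _ _))⟩)
  obtain ⟨_, ⟨(W₁ : (Spec (CommRingCat.of A)).Opens), hW₁, rfl⟩, hwW₁, hW₁W⟩ :=
    (Spec (CommRingCat.of A)).isBasis_affineOpens.exists_subset_of_mem_open hw W.2
  -- finitely many affines of the atlas above the lifted part
  let WV : Over S := Over.mk (W.ι ≫ g ≫ U₀.hom)
  let gW : WV ⟶ U₀ := Over.homMk (W.ι ≫ g) (by simp [WV])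
  let τ : ↥WV.left → Points F.obj := fun v => Points.ofPt σ v
  have hτ : Continuous τ := by
    have : τ = Points.map σ ∘ Points.schemeHomeo WV := funext fun v => Points.ofPt_eq_map_ofScheme σ v
    rw [this]
    exact (Points.continuous_map σ).comp (Points.schemeHomeo WV).continuous
  let K : Set ↥WV.left := W.ι ⁻¹' W₁
  have hK : IsCompact K := by
    refine W.ι.isOpenEmbedding.isInducing.isCompact_preimage' hW₁.isCompact ?_
    rw [Scheme.Opens.range_ι]; exact hW₁W
  obtain ⟨s, hs⟩ := (hK.image hτ).elim_finite_subcover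
    (fun O : T.left.affineOpens => Points.ofPt p '' (O.1 : Set ↥T.left))
    (fun O => Groth.L23.isOpenMap_ofPt hpe _ O.1.2) (fun x _ => by
      obtain ⟨t, rfl⟩ := Groth.L23.surjective_ofPt hps x
      obtain ⟨O, hO, ht, -⟩ := T.left.isBasis_affineOpens.exists_subset_of_mem_open (Set.mem_univ t) isOpen_univ
      obtain ⟨O', hO', rfl⟩ := hO
      exact Set.mem_iUnion.2 ⟨⟨O', hO'⟩, t, ht, rfl⟩)
  let Z : Set X := (C : Set X) \ gX '' (W₁ : Set ↥(Spec (CommRingCat.of A)))
  have hZ : IsClosed Z := by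
    obtain ⟨V', hV', e⟩ := hemb.isInducing.isOpen_iff.1 W₁.2
    have : Z = (C : Set X) \ ((V : Set X) ∩ V') := by
      show (C : Set X) \ _ = _
      rw [show (W₁ : Set ↥(Spec (CommRingCat.of A))) = gX ⁻¹' V' from e.symm, Set.image_preimage_eq_inter_range, hrange]
      ext x; simp; tauto
    rw [this]
    exact C.isClosed.sdiff (V.2.inter hV')
  obtain ⟨O, hO, hOc, hO'⟩ := ih ⟨Z, hZ⟩ (lt_of_le_of_ne (show Z ⊆ (C : Set X) from Set.sdiff_subset) fun e => by
    have hwC : gX w ∈ (C : Set X) := ((hrange ▸ Set.mem_range_self w : gX w ∈ (V : Set X) ∩ C)).2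
    have hZC : Z = (C : Set X) := congrArg (fun Y : Closeds X => (Y : Set X)) e
    exact (hZC.symm ▸ hwC : gX w ∈ Z).2 ⟨w, hwW₁, rfl⟩)
  refine ⟨O ∪ ⋃ i ∈ s, (i.1 : Set ↥T.left), hO.union (isOpen_biUnion fun i _ => i.1.2),
    hOc.union (s.isCompact_biUnion fun i _ => i.2.isCompact), fun x hx hI => ?_⟩
  by_cases hxZ : x ∈ Z
  · exact Set.image_mono Set.subset_union_left (hO' x hxZ hI)
  obtain ⟨v, hv, rfl⟩ : x ∈ gX '' (W₁ : Set ↥(Spec (CommRingCat.of A))) := by
    by_contra h'
    exact hxZ ⟨hx, h'⟩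
  obtain ⟨i, hi, t, ht, e⟩ := Set.mem_iUnion₂.1 (hs ⟨(⟨v, hW₁W hv⟩ : ↥W.toScheme), hv, rfl⟩)
  refine ⟨t, Or.inr (Set.mem_iUnion₂.2 ⟨i, hi, ht⟩), ?_⟩
  apply (Points.schemeEquiv U₀).injective
  show Points.ofScheme U₀ (h.left t) = Points.ofScheme U₀ _
  rw [← map_ofPt_eq_ofScheme hh, e, Points.map_ofPt, hσ, Groth.L23.ofPt_map]
  rfl

/-- A monomorphism to a locally noetherian scheme with the dense lifting property is quasi-compact. -/
theorem isQuasiCompactMor_of_dense_lift {U₀ : Over S} [IsLocallyNoetherian U₀.left] {F : AlgSp.Space S}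
    (a : F.obj ⟶ (yon S).obj U₀) [Mono a]
    (hc : ∀ (A : Type u) [CommRing A] [IsDomain A] (g : Spec (CommRingCat.of A) ⟶ U₀.left)
      (D : Set ↥(Spec (CommRingCat.of A))), Dense D →
      (∀ q ∈ D, ∃ σ : (yon S).obj (Over.mk ((Spec (CommRingCat.of A)).fromSpecResidueField q ≫ g ≫ U₀.hom)) ⟶ F.obj,
        σ ≫ a = (yon S).map (Over.homMk ((Spec (CommRingCat.of A)).fromSpecResidueField q ≫ g) (by simp))) →
      ∃ V : (Spec (CommRingCat.of A)).Opens, (V : Set ↥(Spec (CommRingCat.of A))).Nonempty ∧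
        ∃ σ : (yon S).obj (Over.mk (V.ι ≫ g ≫ U₀.hom)) ⟶ F.obj,
          σ ≫ a = (yon S).map (Over.homMk (V.ι ≫ g) (by simp))) :
    AlgSp.IsQuasiCompactMor a := by
  obtain ⟨T, p, hpe, hps⟩ := F.property.atlas
  obtain ⟨h, hh⟩ := (yon S).map_surjective (p ≫ a)
  refine Groth.L23.isQuasiCompactMor_of_affine F.property (IsAlgSpace.yon_obj U₀) fun W hW g => ?_
  obtain ⟨ψ, rfl⟩ := (yon S).map_surjective g
  -- a compact open containing the image of `W`
  obtain ⟨s, hs⟩ := (isCompact_range ψ.left.continuous).elim_finite_subcover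
    (fun O : U₀.left.affineOpens => (O.1 : Set ↥U₀.left)) (fun O => O.1.2) (fun x _ => by
      obtain ⟨O, hO, ht, -⟩ := U₀.left.isBasis_affineOpens.exists_subset_of_mem_open (Set.mem_univ x) isOpen_univ
      obtain ⟨O', hO', rfl⟩ := hO
      exact Set.mem_iUnion.2 ⟨⟨O', hO'⟩, ht⟩)
  let U' : U₀.left.Opens := ⟨⋃ i ∈ s, (i.1 : Set ↥U₀.left), isOpen_biUnion fun i _ => i.1.2⟩
  have : CompactSpace U'.toScheme := isCompact_iff_compactSpace.1 (s.isCompact_biUnion fun i _ => i.2.isCompact)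
  have : IsNoetherian U'.toScheme := { }
  obtain ⟨O, hO, hOc, hO'⟩ := exists_compact_covering a hc hpe hps hh U'
  let Oo : T.left.Opens := ⟨O, hO⟩
  let T' : Over S := Over.mk (Oo.ι ≫ T.hom)
  let jT : T' ⟶ T := Over.homMk Oo.ι rfl
  have : CompactSpace T'.left := isCompact_iff_compactSpace.1 hOc
  let φ : T' ⟶ U₀ := jT ≫ h
  let Q := pullback φ ψ
  have sqQ : IsPullback (pullback.fst φ ψ).left (pullback.snd φ ψ).left φ.left ψ.left :=
    (IsPullback.of_hasPullback φ ψ).map (Over.forget S)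
  have : QuasiSeparatedSpace U₀.left := inferInstance
  have hqcφ : QuasiCompact φ.left := inferInstance
  have : CompactSpace Q.left := by
    have h1 : QuasiCompact (pullback.snd φ ψ).left :=
      MorphismProperty.of_isPullback sqQ hqcφ
    exact (quasiCompact_iff_compactSpace (pullback.snd φ ψ).left).1 h1
  have sq := IsPullback.of_hasPullback a ((yon S).map ψ)
  let m := sq.lift ((yon S).map (pullback.fst φ ψ ≫ jT) ≫ p) ((yon S).map (pullback.snd φ ψ)) (by
    rw [Category.assoc, ← hh, ← Functor.map_comp, ← Functor.map_comp, Category.assoc]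
    exact congrArg (yon S).map pullback.condition)
  refine Groth.L23.qcSp_of_surjective
    (Groth.L23.isAlgSpace_of_isPullback (IsAlgSpace.yon_obj U₀).diag F.property (IsAlgSpace.yon_obj W) sq) m ?_
    Groth.L23.isQuasiCompactSp_of_compactSpace
  intro z
  obtain ⟨w, hw⟩ := (Points.schemeEquiv W).surjective (Points.map (pullback.snd a ((yon S).map ψ)) z)
  obtain ⟨t, ht⟩ := Groth.L23.surjective_ofPt hps (Points.map (pullback.fst a ((yon S).map ψ)) z)
  have e1 : h.left t = ψ.left w := by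
    apply (Points.schemeEquiv U₀).injective
    show Points.ofScheme U₀ _ = Points.ofScheme U₀ _
    rw [← map_ofPt_eq_ofScheme hh, ht, ← Groth.L23.ofPt_map, Points.ofPt_eq_map_ofScheme, ← Points.map_comp,
      pullback.condition, Points.map_comp]
    exact congrArg _ hw.symm
  obtain ⟨t', ht', e'⟩ := hO' t (e1 ▸ hs ⟨w, rfl⟩)
  obtain ⟨z', hz₁, hz₂⟩ := Groth.L23.exists_of_isPullback ((IsPullback.of_hasPullback φ ψ).map (yon S))
    (Points.ofScheme T' ⟨t', ht'⟩) (Points.ofScheme W w) (by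
      rw [← Points.ofPt_eq_map_ofScheme, ← Points.ofPt_eq_map_ofScheme, Groth.L23.ofPt_map, Groth.L23.ofPt_map]
      exact congrArg _ (e'.trans e1))
  refine ⟨z', ?_⟩
  have hsnd : Points.map (pullback.snd a ((yon S).map ψ)) (Points.map m z') =
      Points.map (pullback.snd a ((yon S).map ψ)) z := by
    rw [← Points.map_comp, sq.lift_snd, hz₂]
    exact hw
  have : Mono (pullback.snd a ((yon S).map ψ)) := inferInstance
  exact injective_points_map_of_mono _ hsnd

end Groth.L24.St
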