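import Groth.Agent.L24.St.PshRep
import Groth.Agent.L24.St.Classes
import Groth.Agent.L24.St.Fibrewise
import Groth.Agent.L24.St.AtlasCover
import Groth.Agent.L23.RepBySp
import Groth.Agent.L09.FibFp

/-!
Base change of representable functors to algebraic spaces.
-/

set_option autoImplicit false
set_option backward.isDefEq.respectTransparency false
set_option backward.isDefEq.respectTransparency.types false

universe w₂ w₃ u

open CategoryTheory CategoryTheory.Limits AlgebraicGeometry Opposite AlgSp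

namespace Groth.L24.St

variable {S : Scheme.{u}} {P : MorphismProperty (Sp S)}

/-- Stable under base change between algebraic spaces. -/
def PBase (P : MorphismProperty (Sp S)) : Prop :=
  ∀ ⦃X₁ Y₁ X₂ Y₂ : Sp S⦄, IsAlgSpace X₁ → IsAlgSpace Y₁ → IsAlgSpace X₂ → IsAlgSpace Y₂ →
    ∀ (a : X₁ ⟶ Y₁) (b : Y₂ ⟶ Y₁) (a' : X₂ ⟶ Y₂) (b' : X₂ ⟶ X₁),
      IsPullback b' a' a b → P a → P a'

/-- Stable under composition between algebraic spaces. -/
def PComp (P : MorphismProperty (Sp S)) : Prop :=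
  ∀ ⦃X Y Z : Sp S⦄, IsAlgSpace X → IsAlgSpace Y → IsAlgSpace Z →
    ∀ (a : X ⟶ Y) (b : Y ⟶ Z), P a → P b → P (a ≫ b)

theorem pBase_of_stable [P.IsStableUnderBaseChange] : PBase P :=
  fun _ _ _ _ _ _ _ _ _ _ _ _ sq h => P.of_isPullback sq h

theorem pComp_of_stable [P.IsStableUnderComposition] : PComp P :=
  fun _ _ _ _ _ _ a b ha hb => P.comp_mem a b ha hb

theorem PBase.iso_left (h : PBase P) {X X' Y : Sp S} (hX : IsAlgSpace X) (hX' : IsAlgSpace X')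
    (hY : IsAlgSpace Y) (i : X' ⟶ X) [IsIso i] {a : X ⟶ Y} (ha : P a) : P (i ≫ a) :=
  h hX hY hX' hY a (𝟙 Y) (i ≫ a) i (IsPullback.of_horiz_isIso ⟨by simp⟩) ha

section

variable {𝒳 : BasedCategory.{u, u + 1} (Over S)} {𝒴 : BasedCategory.{u, u + 1} (Over S)}

theorem fp_isFibSetoid (h𝒳 : FibCat.IsFibGrpd 𝒳.p) (h𝒴 : FibCat.IsFibGrpd 𝒴.p) {f : 𝒳 ⥤ᵇ 𝒴}
    (hf : AlgSt.RepByAlgSp1 f) {𝒵 : BasedCategory.{u, u + 1} (Over S)} (h𝒵 : FibCat.IsFibSetoid 𝒵.p)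
    (z : 𝒵 ⥤ᵇ 𝒴) : FibCat.IsFibSetoid (FibCat.fp z f).p := by
  refine ⟨L09.Fib.fp_isFibGrpd h𝒵.1 h𝒳 h𝒴, fun U a b => ⟨fun φ ψ => Functor.Fiber.hom_ext ?_⟩⟩
  have := faithful_of_rep1 h𝒳 h𝒴 f hf
  have h1 : φ.1.hom.fst = ψ.1.hom.fst := by
    have := (L09.Fib.fp_isHomLift_iff _ _).1 φ.2
    have := (L09.Fib.fp_isHomLift_iff _ _).1 ψ.2
    exact L09.Fib.setoid_ext h𝒵 (𝟙 U)
  refine fp_ext h1 (f.toFunctor.map_injective ?_)
  have e1 := φ.1.hom.w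
  have e2 := ψ.1.hom.w
  rw [h1] at e1
  exact (cancel_epi a.1.obj.iso.hom).1 (e1.symm.trans e2)

/-- The base change of a representable functor to an algebraic space is representable by an algebraic space. -/
theorem exists_space (h𝒳 : FibCat.IsFibGrpd 𝒳.p) (h𝒴 : FibCat.IsFibGrpd 𝒴.p) {f : 𝒳 ⥤ᵇ 𝒴}
    (hf : AlgSt.RepByAlgSpWith P f) {G : Sp S} (hG : IsAlgSpace G) (z : AlgSt.ofSp G ⥤ᵇ 𝒴) :
    ∃ (V : Sp S) (a : V ⟶ G) (e : AlgSt.ofSp V ⥤ᵇ FibCat.fp z f),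
      IsAlgSpace V ∧ FibCat.IsEquivOver e ∧
        Nonempty (BasedFunctor.comp e (FibCat.fpFst z f) ≅ AlgSt.ofSpMap a) ∧
          AlgSt.RepByAlgSpWith P (AlgSt.ofSpMap a) := by
  have hs := fp_isFibSetoid h𝒳 h𝒴 (repWith_rep1 hf) (ofSp_isFibSetoid G) z
  obtain ⟨e, he, -, -⟩ := exists_inverse (toClassPsh_isEquivOver hs.1 hs)
  let a := pshMapOf (G := G.obj) (BasedFunctor.comp e (FibCat.fpFst z f))
  have ha : AlgSt.RepByAlgSpWith P (Stk.ofPshMap a) :=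
    (repWith_congr (isoOfPshMapOf (G := G.obj) (BasedFunctor.comp e (FibCat.fpFst z f)))).1
      ((repWith_precomp he _).2 (repWith_fpFst z hf))
  obtain ⟨hV, hV'⟩ := Groth.L23.isAlgSpaceP_of_repBySp
    ((repBySp_iff a).2 (repWith_rep1 ha)) ((isAlgSpaceP_obj_iff G).2 hG)
  exact ⟨⟨_, hV⟩, ObjectProperty.homMk a, e, hV', he,
    ⟨isoOfPshMapOf (G := G.obj) (BasedFunctor.comp e (FibCat.fpFst z f))⟩, ha⟩

end

/-- A representation-level property of a map of algebraic spaces descends along atlases. -/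
theorem prop_of_repWith {τ : CovNotion S} (hτ : HasAtlasCovers τ) (hB : PBase P)
    (hL : IsLocalOnBase τ P) {V G : Sp S} (hV : IsAlgSpace V) (hG : IsAlgSpace G) (a : V ⟶ G)
    (ha : AlgSt.RepByAlgSpWith P (AlgSt.ofSpMap a)) : P a := by
  obtain ⟨U, p, hp, hp'⟩ := hG.atlas
  have sq := IsPullback.of_hasPullback a p
  have sq' := sq.map (sheafToPresheaf (J S) (Type (u + 1)))
  have hW : IsAlgSpace (pullback a p) :=
    (isAlgSpaceP_obj_iff _).1 ((repBySp_iff a.hom).2 (repWith_rep1 ha) p.hom _ _ sq')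
  refine (hL (fun _ : PUnit => (yon S).obj U) (fun _ => p) hG (fun _ => IsAlgSpace.yon_obj U)
    (hτ p hp hp') a hV (fun _ => pullback a p) (fun _ => pullback.snd a p) (fun _ => pullback.fst a p)
    (fun _ => hW) (fun _ => sq)).2 fun _ => ?_
  have sq'' : IsPullback (pullback.fst a p).hom (pullback.snd a p).hom a.hom (pointOf (funOf p.hom)) := by
    rw [pointOf_funOf]; exact sq'
  have hw := Wit.prop_of_equiv (fun F F' hF hF' i hi b hb => hB.iso_left hF hF' (IsAlgSpace.yon_obj U) i hb)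
    (ha U (funOf p.hom)) hW (baseFp a.hom _ sq'') (baseFp_isEquivOver a.hom _ sq'')
  erw [baseFp_spMap a.hom _ sq'' (pullback a p).property] at hw
  exact hw

/-- Base change to algebraic spaces keeps a property that is local on the base. -/
theorem exists_space_prop {τ : CovNotion S} (hτ : HasAtlasCovers τ) (hB : PBase P)
    (hL : IsLocalOnBase τ P) {𝒳 : BasedCategory.{u, u + 1} (Over S)} {𝒴 : BasedCategory.{u, u + 1} (Over S)}
    (h𝒳 : FibCat.IsFibGrpd 𝒳.p) (h𝒴 : FibCat.IsFibGrpd 𝒴.p) {f : 𝒳 ⥤ᵇ 𝒴}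
    (hf : AlgSt.RepByAlgSpWith P f) {G : Sp S} (hG : IsAlgSpace G) (z : AlgSt.ofSp G ⥤ᵇ 𝒴) :
    ∃ (V : Sp S) (a : V ⟶ G) (e : AlgSt.ofSp V ⥤ᵇ FibCat.fp z f),
      IsAlgSpace V ∧ FibCat.IsEquivOver e ∧
        Nonempty (BasedFunctor.comp e (FibCat.fpFst z f) ≅ AlgSt.ofSpMap a) ∧ P a := by
  obtain ⟨V, a, e, hV, he, hi, ha⟩ := exists_space h𝒳 h𝒴 hf hG z
  exact ⟨V, a, e, hV, he, hi, prop_of_repWith hτ hB hL hV hG a ha⟩

section Comp

variable {𝒳 : BasedCategory.{u, u + 1} (Over S)} {𝒴 : BasedCategory.{u, u + 1} (Over S)}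
  {𝒵 : BasedCategory.{u, u + 1} (Over S)}

/-- Composites, given the extension of the property to base changes along spaces. -/
theorem repWith_comp_of (hC : PComp P) {f : 𝒳 ⥤ᵇ 𝒴} {g : 𝒴 ⥤ᵇ 𝒵}
    (hX : ∀ ⦃G : Sp S⦄, IsAlgSpace G → ∀ z : AlgSt.ofSp G ⥤ᵇ 𝒴,
      ∃ (V : Sp S) (a : V ⟶ G) (e : AlgSt.ofSp V ⥤ᵇ FibCat.fp z f),
        IsAlgSpace V ∧ FibCat.IsEquivOver e ∧
          Nonempty (BasedFunctor.comp e (FibCat.fpFst z f) ≅ AlgSt.ofSpMap a) ∧ P a)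
    (hg : AlgSt.RepByAlgSpWith P g) : AlgSt.RepByAlgSpWith P (BasedFunctor.comp f g) := by
  intro U y
  obtain ⟨G, e, he, hb⟩ := hg U y
  obtain ⟨V, a, e', hV, he', ⟨i⟩, ha⟩ := hX G.property (BasedFunctor.comp e (FibCat.fpSnd y g))
  let Θ : FibCat.fp (BasedFunctor.comp e (FibCat.fpSnd y g)) f ⥤ᵇ FibCat.fp (FibCat.fpSnd y g) f :=
    fpMap e (BasedFunctor.id _) (Iso.refl _) (Iso.refl _)
  refine ⟨⟨V, hV⟩, BasedFunctor.comp e' (BasedFunctor.comp Θ (fpComp y f g)),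
    isEquivOver_comp he' (isEquivOver_comp (fpMap_isEquivOver he (isEquivOver_id _) _ _)
      (fpComp_isEquivOver y f g)), ?_⟩
  have key : AlgSt.spMapOfOver (BasedFunctor.comp (BasedFunctor.comp e' (BasedFunctor.comp Θ (fpComp y f g)))
      (FibCat.fpFst y (BasedFunctor.comp f g))) =
      a ≫ AlgSt.spMapOfOver (BasedFunctor.comp e (FibCat.fpFst y g)) := by
    rw [← spMapOfOver_ofSpMap_comp]
    exact spMapOfOver_congr (whiskerR i (BasedFunctor.comp e (FibCat.fpFst y g)))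
  rw [key]
  exact hC hV G.property (IsAlgSpace.yon_obj U) _ _ ha hb

/-- Composites of representable functors with a property local on the base. -/
theorem repWith_comp {τ : CovNotion S} (hτ : HasAtlasCovers τ) (hB : PBase P) (hC : PComp P)
    (hL : IsLocalOnBase τ P) (h𝒳 : FibCat.IsFibGrpd 𝒳.p) (h𝒴 : FibCat.IsFibGrpd 𝒴.p) {f : 𝒳 ⥤ᵇ 𝒴}
    {g : 𝒴 ⥤ᵇ 𝒵} (hf : AlgSt.RepByAlgSpWith P f) (hg : AlgSt.RepByAlgSpWith P g) :
    AlgSt.RepByAlgSpWith P (BasedFunctor.comp f g) :=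
  repWith_comp_of hC (fun _ hG z => exists_space_prop hτ hB hL h𝒳 h𝒴 hf hG z) hg

/-- Composites of functors representable by algebraic spaces. -/
theorem rep1_comp (h𝒳 : FibCat.IsFibGrpd 𝒳.p) (h𝒴 : FibCat.IsFibGrpd 𝒴.p) {f : 𝒳 ⥤ᵇ 𝒴}
    {g : 𝒴 ⥤ᵇ 𝒵} (hf : AlgSt.RepByAlgSp1 f) (hg : AlgSt.RepByAlgSp1 g) :
    AlgSt.RepByAlgSp1 (BasedFunctor.comp f g) := by
  rw [rep1_iff]
  refine repWith_comp_of (fun _ _ _ _ _ _ _ _ _ _ => trivial) (fun G hG z => ?_) ((rep1_iff g).1 hg)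
  obtain ⟨V, a, e, hV, he, hi, -⟩ := exists_space h𝒳 h𝒴 ((rep1_iff f).1 hf) hG z
  exact ⟨V, a, e, hV, he, hi, trivial⟩

end Comp

end Groth.L24.St
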