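import Groth.Agent.L24.St.PairChart
import Groth.Agent.L24.St.DiagRep
import Groth.Agent.L24.St.DiagLft

/-!
The fibre product of two points of a stack as the base change of the absolute diagonal to the product
of their sources.
-/

set_option autoImplicit false
set_option backward.isDefEq.respectTransparency false
set_option backward.isDefEq.respectTransparency.types false

universe u

open CategoryTheory CategoryTheory.Limits AlgebraicGeometry Opposite AlgSt

noncomputable section

namespace Groth.L24.St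

variable {S : Scheme.{u}} {𝒳 : AlgSt.Cat S}

/-- The product over the base of two schemes over it. -/
abbrev pairSch (V T : Over S) : Over S := Over.mk (pullback.fst V.hom T.hom ≫ V.hom)

/-- The first projection. -/
abbrev pairP₁ (V T : Over S) : pairSch V T ⟶ V := Over.homMk (pullback.fst V.hom T.hom) rfl

/-- The second projection. -/
abbrev pairP₂ (V T : Over S) : pairSch V T ⟶ T := Over.homMk (pullback.snd V.hom T.hom) pullback.condition.symm

variable {V T : Over S} (x : FibCat.overCat V ⥤ᵇ 𝒳) (y : FibCat.overCat T ⥤ᵇ 𝒳)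

/-- The product of two schemes as the fibre product of two points over the base. -/
def pairFp : FibCat.overCat (pairSch V T) ⥤ᵇ
    FibCat.fp (BasedFunctor.comp x (FibCat.toSelf 𝒳)) (BasedFunctor.comp y (FibCat.toSelf 𝒳)) :=
  BasedFunctor.comp (FibCat.fpLift (overMap (pairP₁ V T)) (overMap (pairP₂ V T)) (prodPairIso _ _))
    (fpMap (BasedFunctor.id _) (BasedFunctor.id _)
      (show BasedFunctor.comp (BasedFunctor.id _) (BasedFunctor.comp x (FibCat.toSelf 𝒳)) ≅
        FibCat.toSelf (FibCat.overCat V) from toSelfIso x)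
      (show BasedFunctor.comp (BasedFunctor.id _) (BasedFunctor.comp y (FibCat.toSelf 𝒳)) ≅
        FibCat.toSelf (FibCat.overCat T) from toSelfIso y))

theorem pairFp_isEquivOver : FibCat.IsEquivOver (pairFp x y) :=
  isEquivOver_comp (prodPair_isEquivOver (IsPullback.of_hasPullback V.hom T.hom))
    (fpMap_isEquivOver (isEquivOver_id _) (isEquivOver_id _) _ _)

/-- The pair of two points, on the product of their sources. -/
def pairMap : FibCat.overCat (pairSch V T) ⥤ᵇ FibCat.fp (FibCat.toSelf 𝒳) (FibCat.toSelf 𝒳) :=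
  BasedFunctor.comp (pairFp x y) (cmpMap x y (FibCat.toSelf 𝒳))

theorem pairMap_fst : BasedFunctor.comp (pairMap x y) (FibCat.fpFst _ _) =
    BasedFunctor.comp (overMap (pairP₁ V T)) x := rfl

theorem pairMap_snd : BasedFunctor.comp (pairMap x y) (FibCat.fpSnd _ _) =
    BasedFunctor.comp (overMap (pairP₂ V T)) y := rfl

/-- A witness of the base change of the diagonal to the product is the fibre product of the points. -/
theorem exists_pair_equiv {F : AlgSp.Space S}
    {e : ofSp F.obj ⥤ᵇ FibCat.fp (pairMap x y) (FibCat.diag (FibCat.toSelf 𝒳))} (he : FibCat.IsEquivOver e) :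
    ∃ e' : ofSp F.obj ⥤ᵇ FibCat.fp x y, FibCat.IsEquivOver e' ∧
      AlgSt.spMapOfOver (BasedFunctor.comp e' (FibCat.fpFst x y)) =
        AlgSt.spMapOfOver (BasedFunctor.comp e (FibCat.fpFst _ _)) ≫ (AlgSp.yon S).map (pairP₁ V T) ∧
      AlgSt.spMapOfOver (BasedFunctor.comp e' (FibCat.fpSnd x y)) =
        AlgSt.spMapOfOver (BasedFunctor.comp e (FibCat.fpFst _ _)) ≫ (AlgSp.yon S).map (pairP₂ V T) := by
  let t := FibCat.toSelf 𝒳
  let E := pairFp x y
  obtain ⟨c, hc, -, ⟨ic⟩⟩ := exists_inverse (fpPaste_isEquivOver E (cmpMap x y t) (FibCat.diag t))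
  obtain ⟨d, hd, -, ⟨id'⟩⟩ := exists_inverse (cmpLift_isEquivOver x y t)
  have hsnd : FibCat.IsEquivOver (FibCat.fpSnd E (FibCat.fpFst (cmpMap x y t) (FibCat.diag t))) :=
    isEquivOver_comp (fpSwap_isEquivOver (F := E) (G := FibCat.fpFst (cmpMap x y t) (FibCat.diag t)))
      (fpFst_isEquivOver (pairFp_isEquivOver x y))
  let e1 := BasedFunctor.comp e c
  let e' := BasedFunctor.comp (BasedFunctor.comp e1
    (FibCat.fpSnd E (FibCat.fpFst (cmpMap x y t) (FibCat.diag t)))) d
  have i₁ : BasedFunctor.comp e1 (FibCat.fpFst E (FibCat.fpFst (cmpMap x y t) (FibCat.diag t))) ≅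
      BasedFunctor.comp e (FibCat.fpFst (pairMap x y) (FibCat.diag t)) :=
    whiskerR (whiskerL e ic) (FibCat.fpFst (BasedFunctor.comp E (cmpMap x y t)) (FibCat.diag t))
  have key : BasedFunctor.comp e' (fpPost x y t) ≅
      BasedFunctor.comp (BasedFunctor.comp e (FibCat.fpFst (pairMap x y) (FibCat.diag t))) E :=
    whiskerR (whiskerL (BasedFunctor.comp e1
      (FibCat.fpSnd E (FibCat.fpFst (cmpMap x y t) (FibCat.diag t)))) id')
        (FibCat.fpFst (cmpMap x y t) (FibCat.diag t)) ≪≫
      (whiskerL e1 (FibCat.fpIso E (FibCat.fpFst (cmpMap x y t) (FibCat.diag t)))).symm ≪≫ whiskerR i₁ E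
  refine ⟨e', isEquivOver_comp (isEquivOver_comp (isEquivOver_comp he hc) hsnd) hd, ?_, ?_⟩
  · rw [← spMapOfOver_overMap]
    exact spMapOfOver_congr (whiskerR key (FibCat.fpFst _ _))
  · rw [← spMapOfOver_overMap]
    exact spMapOfOver_congr (whiskerR key (FibCat.fpSnd _ _))

end Groth.L24.St
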