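import Groth.Agent.L23.FpqcQuasiAffine
import Groth.Agent.L24.St.LocPStack
import Groth.Agent.L23.FppfImmersion
import Mathlib.AlgebraicGeometry.Morphisms.ClosedImmersion

/-!
Quasi-affine morphisms of algebraic spaces to schemes: composition and cancellation with affine and
separated morphisms of schemes.
-/

set_option autoImplicit false
set_option backward.isDefEq.respectTransparency.types false

universe u

open CategoryTheory CategoryTheory.Limits AlgebraicGeometry AlgSp

noncomputable section

namespace Groth.L24.St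

variable {S : Scheme.{u}}

/-- A quasi-affine morphism followed by an affine morphism of schemes is quasi-affine. -/
theorem isQuasiAffineMor_comp_affine {W T : Over S} (w : W ⟶ T) [IsAffineHom w.left] {F : Sp S}
    (a : F ⟶ (yon S).obj W) (h : IsQuasiAffineMor a) : IsQuasiAffineMor (a ≫ (yon S).map w) := by
  intro Z hZ g
  obtain ⟨g, rfl⟩ := (yon S).map_surjective g
  have sqL := IsPullback.of_hasPullback w g
  have : IsAffine Z.left := hZ
  have : IsAffineHom (pullback.snd w g).left :=
    MorphismProperty.of_isPullback (P := @IsAffineHom) (sqL.map (Over.forget S)) ‹_›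
  have : IsAffine (pullback w g).left := isAffine_of_isAffineHom (pullback.snd w g).left
  obtain ⟨Q, i, fst, sq, hQ⟩ := h this ((yon S).map (pullback.fst w g))
  refine ⟨Q, i ≫ pullback.snd w g, fst, ?_, hQ⟩
  rw [Functor.map_comp]
  exact (sq.flip.paste_horiz (sqL.map (yon S)).flip).flip

/-- Quasi-affineness is cancelled against separated morphisms of schemes. -/
theorem isQuasiAffineMor_of_comp_separated {W T : Over S} (w : W ⟶ T) [IsSeparated w.left] {F : Sp S}
    (a : F ⟶ (yon S).obj W) (h : IsQuasiAffineMor (a ≫ (yon S).map w)) : IsQuasiAffineMor a := by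
  intro Z hZ k
  obtain ⟨k, rfl⟩ := (yon S).map_surjective k
  obtain ⟨Q, i, fstQ, sq, hQ⟩ := h hZ ((yon S).map (k ≫ w))
  have sqP := IsPullback.of_hasPullback w (k ≫ w)
  obtain ⟨q, hq⟩ := (yon S).map_surjective (fstQ ≫ a)
  have hw : q ≫ w = i ≫ k ≫ w := (yon S).map_injective (by
    rw [Functor.map_comp, hq, Category.assoc, sq.w, ← Functor.map_comp])
  let l : Q ⟶ pullback w (k ≫ w) := pullback.lift q i hw
  have sql : IsPullback fstQ ((yon S).map l) a ((yon S).map (pullback.fst w (k ≫ w))) := by
    refine IsPullback.of_bot ?_ (by rw [← Functor.map_comp, pullback.lift_fst, hq]) (sqP.map (yon S))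
    rw [← Functor.map_comp, pullback.lift_snd]
    exact sq
  let Γ : Z ⟶ pullback w (k ≫ w) := pullback.lift k (𝟙 Z) (Category.id_comp _).symm
  have : IsSeparated (pullback.snd w (k ≫ w)).left :=
    MorphismProperty.of_isPullback (P := @IsSeparated) (sqP.map (Over.forget S)) ‹_›
  have : IsClosedImmersion Γ.left := by
    have : IsClosedImmersion (Γ.left ≫ (pullback.snd w (k ≫ w)).left) := by
      rw [← Over.comp_left, pullback.lift_snd, Over.id_left]
      infer_instance
    exact IsClosedImmersion.of_comp Γ.left (pullback.snd w (k ≫ w)).left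
  have sqE := IsPullback.of_hasPullback l Γ
  have : IsClosedImmersion (pullback.fst l Γ).left :=
    MorphismProperty.of_isPullback (P := @IsClosedImmersion) (sqE.map (Over.forget S)).flip ‹_›
  have := hQ
  have : CompactSpace Q.left := hQ.toCompactSpace
  have : CompactSpace (pullback l Γ).left :=
    QuasiCompact.compactSpace_of_compactSpace (pullback.fst l Γ).left
  refine ⟨pullback l Γ, pullback.snd l Γ, (yon S).map (pullback.fst l Γ) ≫ fstQ, ?_,
    Scheme.IsQuasiAffine.of_isImmersion (pullback.fst l Γ).left⟩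
  have := (sqE.map (yon S)).paste_horiz sql
  rwa [← Functor.map_comp, pullback.lift_fst] at this

/-- Quasi-affineness is Zariski local on a target scheme. -/
theorem isQuasiAffineMor_of_open_cover {W : Over S} {F : Sp S} (hF : IsAlgSpace F) (a : F ⟶ (yon S).obj W)
    {ι : Type u} {Wk : ι → Over S} (j : ∀ k, Wk k ⟶ W) [∀ k, IsOpenImmersion (j k).left]
    (hj : ∀ x : W.left, ∃ k y, (j k).left y = x) (Fk : ι → Sp S) (hFk : ∀ k, IsAlgSpace (Fk k))
    (p : ∀ k, Fk k ⟶ (yon S).obj (Wk k)) (q : ∀ k, Fk k ⟶ F)
    (sq : ∀ k, IsPullback (q k) (p k) a ((yon S).map (j k))) (h : ∀ k, IsQuasiAffineMor (p k)) :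
    IsQuasiAffineMor a := by
  have hWk : ∀ k, IsAlgSpace ((yon S).obj (Wk k)) := fun k => IsAlgSpace.yon_obj _
  have hcov : IsFppfCover (fun k => (yon S).obj (Wk k)) (fun k => (yon S).map (j k)) := by
    refine ⟨fun k => ⟨Groth.L23.locP_of_repWith Groth.L23.etLocal_flat
        (Groth.L23.repWith_map (show Flat (j k).left from inferInstance)),
      Groth.L23.locP_of_repWith Groth.L23.etLocal_lfp
        (Groth.L23.repWith_map (show LocallyOfFinitePresentation (j k).left from inferInstance))⟩, fun x => ?_⟩
    obtain ⟨t, rfl⟩ := (AlgSp.Points.schemeEquiv W).surjective x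
    obtain ⟨k, y, hy⟩ := hj t
    refine ⟨k, AlgSp.Points.ofScheme (Wk k) y, (AlgSp.Points.schemeEquiv W).symm.injective ?_⟩
    rw [Equiv.symm_apply_apply, ← AlgSp.Points.ofPt_eq_map_ofScheme]
    exact (AlgSp.Points.toScheme_ofPt (j k) y).trans hy
  exact (Groth.L23.isLocalOnBase_fpqc_quasiAffine (fun k => (yon S).obj (Wk k)) (fun k => (yon S).map (j k))
    (IsAlgSpace.yon_obj W) hWk (Groth.L23.isFpqcCover_of_isFppfCover (IsAlgSpace.yon_obj W) hWk hcov)
    a hF Fk p q hFk sq).2 h

end Groth.L24.St
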