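import Groth.Agent.L24.St.PairWitness
import Groth.Agent.L24.St.QuasiAffineSp
import Groth.Agent.L24.LocQ.Engine
import Groth.Agent.L24.LocQ.Calculus

/-!
Stacks with quasi-affine diagonal over an affine base.
-/

set_option autoImplicit false
set_option backward.isDefEq.respectTransparency false
set_option backward.isDefEq.respectTransparency.types false

universe u

open CategoryTheory CategoryTheory.Limits AlgebraicGeometry Opposite AlgSt

noncomputable section

namespace Groth.L24.St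

open Groth.L24.LocQ

variable {S : Scheme.{u}} {𝒳 : AlgSt.Cat S}

theorem pBase_quasiAffine : PBase (AlgSp.IsQuasiAffineMor : MorphismProperty (AlgSp.Sp S)) :=
  fun _ _ _ _ _ _ _ _ _ _ _ _ sq h => Groth.L23.isQuasiAffineMor_of_isPullback sq h

variable [IsAffine S]

/-- If the diagonal is quasi-affine, points with affine source are quasi-affine. -/
theorem quasiAffine_point_of_diag
    (hd : RepByAlgSpWith AlgSp.IsQuasiAffineMor (FibCat.diag (FibCat.toSelf 𝒳))) {V : Over S}
    [IsAffine V.left] (x : FibCat.overCat V ⥤ᵇ 𝒳) : RepByAlgSpWith AlgSp.IsQuasiAffineMor x := by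
  intro T y
  obtain ⟨F, e, he, ha⟩ := hd _ (pairMap x y)
  obtain ⟨e', he', -, h₂⟩ := exists_pair_equiv x y he
  refine ⟨F, BasedFunctor.comp e' fpSwap, isEquivOver_comp he' fpSwap_isEquivOver, ?_⟩
  show AlgSp.IsQuasiAffineMor (AlgSt.spMapOfOver (BasedFunctor.comp e' (FibCat.fpSnd x y)))
  rw [h₂]
  have : IsAffineHom V.hom := isAffineHom_of_isAffine V.hom
  have : IsAffineHom (pairP₂ V T).left :=
    MorphismProperty.of_isPullback (P := @IsAffineHom) (IsPullback.of_hasPullback V.hom T.hom) ‹_›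
  exact isQuasiAffineMor_comp_affine _ _ ha

/-- The diagonal is quasi-affine if a flat chart is so on affine opens. -/
theorem diag_quasiAffine_of_chart (h1 : FibCat.IsFibGrpd 𝒳.p)
    (hd : RepByAlgSp1 (FibCat.diag (FibCat.toSelf 𝒳))) {U : Over S} {x : FibCat.overCat U ⥤ᵇ 𝒳}
    (hx₁ : RepByAlgSpWith (AlgSp.LocP @Flat) x)
    (hx₂ : RepByAlgSpWith (AlgSp.LocP @LocallyOfFinitePresentation) x)
    (hx₃ : RepByAlgSpWith AlgSp.IsSurjectiveMor x)
    (hx : ∀ (V : U.left.Opens), IsAffineOpen V → RepByAlgSpWith AlgSp.IsQuasiAffineMor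
      (BasedFunctor.comp (AlgSt.overMap (Over.homMk V.ι rfl : Over.mk (V.ι ≫ U.hom) ⟶ U)) x)) :
    RepByAlgSpWith AlgSp.IsQuasiAffineMor (FibCat.diag (FibCat.toSelf 𝒳)) := by
  have hS : FibCat.IsFibGrpd (FibCat.selfOver (Over S)).p := (L09.Fib.isFibSet_id _).1
  have hW := overCat_isFibGrpd U
  let t := FibCat.toSelf 𝒳
  have hz : ∀ {Q : MorphismProperty Scheme.{u}}, Groth.L23.EtLocal Q →
      RepByAlgSpWith (AlgSp.LocP Q) x → RepByAlgSpWith (AlgSp.LocP Q) (cmpMap x x t) := fun hQ h =>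
    (repWith_congr (cmpMapIso x x t)).1 (fpMap_repWith hasAtlasCovers_atlasCov
      (pBase_locP hQ) (pComp_locP hQ) (isLocalOnBase_locP hQ) hW h1 hW hS h h)
  have hzf := hz Groth.L23.etLocal_flat hx₁
  have hzs : RepByAlgSpWith AlgSp.IsSurjectiveMor (cmpMap x x t) :=
    (repWith_congr (cmpMapIso x x t)).1 (repWith_surjective_of_isSurjective (L09.Fib.fp_isFibGrpd hW hW hS)
      (L09.Fib.fp_isFibGrpd h1 h1 hS) (repWith_rep1 ((repWith_congr (cmpMapIso x x t)).2 hzf))
      (isSurjective_legs h1 hW h1 hW hS x x _ _ (isSurjective_of_repWith hW h1 hx₃)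
        (isSurjective_of_repWith hW h1 hx₃)))
  have hE := pairFp_isEquivOver x x
  refine repWith_of_fpFst_cover hasAtlasCovers_fppf pBase_quasiAffine
    (fun {_ _} Yi g hY hYi hcov {_} f hX Xi p q hXi sq => Groth.L23.isLocalOnBase_fpqc_quasiAffine Yi g hY hYi
      (Groth.L23.isFpqcCover_of_isFppfCover hY hYi hcov) f hX Xi p q hXi sq)
    (fun _ _ _ h => h) h1 (L09.Fib.fp_isFibGrpd h1 h1 hS) (overCat_isFibGrpd _) hd
    (z := pairMap x x) ((repWith_precomp hE _).2 hzf) ((repWith_precomp hE _).2 (hz Groth.L23.etLocal_lfp hx₂))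
    ((repWith_precomp hE _).2 hzs) ?_
  obtain ⟨F, e, he⟩ := hd _ (pairMap x x)
  let a := AlgSt.spMapOfOver (BasedFunctor.comp e (FibCat.fpFst (pairMap x x) (FibCat.diag t)))
  suffices ha : AlgSp.IsQuasiAffineMor a from
    (repWith_precomp he _).1 ((repWith_congr (overFactor _)).2
      ((repWith_postcomp (toOverCat_isEquivOver _) _).2
        (repWith_ofSpMap_of_prop pBase_quasiAffine F.property (AlgSp.IsAlgSpace.yon_obj _) a ha)))
  let V : U.left.affineOpens → Over S := fun k => Over.mk ((k : U.left.Opens).ι ≫ U.hom)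
  let ι : ∀ k, V k ⟶ U := fun k => Over.homMk (k : U.left.Opens).ι rfl
  let j : ∀ k, pairSch (V k) U ⟶ pairSch U U := fun k =>
    Over.homMk (pullback.map (V k).hom U.hom U.hom U.hom (ι k).left (𝟙 _) (𝟙 _)
      (by rw [Category.comp_id, Over.w]) (by simp)) (by
        show _ ≫ pullback.fst _ _ ≫ U.hom = pullback.fst _ _ ≫ (V k).hom
        rw [pullback.lift_fst_assoc, Category.assoc, Over.w])
  have hj₁ : ∀ k, j k ≫ pairP₁ U U = pairP₁ (V k) U ≫ ι k := fun k =>
    Over.OverMorphism.ext (pullback.lift_fst _ _ _)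
  have hj₂ : ∀ k, j k ≫ pairP₂ U U = pairP₂ (V k) U := fun k =>
    Over.OverMorphism.ext ((pullback.lift_snd _ _ _).trans (Category.comp_id _))
  have hjo : ∀ k, IsOpenImmersion (j k).left := fun k => by
    have sq : IsPullback (j k).left (pullback.fst (V k).hom U.hom) (pullback.fst U.hom U.hom) (ι k).left := by
      refine IsPullback.of_right ?_ (pullback.lift_fst _ _ _) (IsPullback.of_hasPullback U.hom U.hom).flip
      show IsPullback (pullback.map (V k).hom U.hom U.hom U.hom (ι k).left (𝟙 _) (𝟙 _)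
        (by rw [Category.comp_id, Over.w]) (by simp) ≫ pullback.snd U.hom U.hom) _ _ _
      rw [pullback.lift_snd, Category.comp_id, Over.w]
      exact (IsPullback.of_hasPullback (V k).hom U.hom).flip
    exact MorphismProperty.of_isPullback (P := @IsOpenImmersion) sq.flip
      (inferInstanceAs (IsOpenImmersion (k : U.left.Opens).ι))
  have hcov : ∀ w : (pairSch U U).left, ∃ k y, (j k).left y = w := fun w => by
    obtain ⟨_, ⟨O, hO, rfl⟩, hw, -⟩ := U.left.isBasis_affineOpens.exists_subset_of_mem_open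
      (Set.mem_univ ((pairP₁ U U).left w)) isOpen_univ
    have h : w ∈ Set.range (j ⟨O, hO⟩).left := by
      show w ∈ Set.range (pullback.map (V ⟨O, hO⟩).hom U.hom U.hom U.hom (ι ⟨O, hO⟩).left (𝟙 _) (𝟙 _)
        (by rw [Category.comp_id, Over.w]) (by simp))
      rw [Scheme.Pullback.range_map]
      refine ⟨?_, ⟨_, rfl⟩⟩
      show (pairP₁ U U).left w ∈ Set.range (Scheme.Opens.ι O)
      rw [Scheme.Opens.range_ι]
      exact hw
    obtain ⟨y, hy⟩ := h
    exact ⟨_, y, hy⟩
  have sq := fun k => IsPullback.of_hasPullback a ((AlgSp.yon S).map (j k))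
  have hΘ := fun k => exists_space_square' (pairMap x x) e he
    (AlgSp.IsAlgSpace.yon_obj (pairSch (V k) U)) (sq k)
  refine isQuasiAffineMor_of_open_cover F.property a j hcov _ (fun k => (hΘ k).1) _ _ sq fun k => ?_
  obtain ⟨hP, Θ, hΘe, ⟨iΘ⟩, -⟩ := hΘ k
  haveI : IsAffine (V k).left := k.2
  let xk := BasedFunctor.comp (overMap (ι k)) x
  let yk := BasedFunctor.comp (overMap (j k)) (pairMap x x)
  -- the piece as a base change to the smaller product
  have iy : yk ≅ pairMap xk x := pairExt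
    (whiskerR ((exists_overMap_comp (j k) (pairP₁ U U)).some ≪≫ eqToIso (congrArg overMap (hj₁ k)) ≪≫
      (exists_overMap_comp (pairP₁ (V k) U) (ι k)).some.symm) x)
    (whiskerR ((exists_overMap_comp (j k) (pairP₂ U U)).some ≪≫ eqToIso (congrArg overMap (hj₂ k))) x)
  obtain ⟨F', e'', he''⟩ := hd _ (pairMap xk x)
  obtain ⟨e', he', -, h₂⟩ := exists_pair_equiv xk x he''
  have hW' : Wit AlgSp.IsQuasiAffineMor (pairMap xk x) (FibCat.diag t) := by
    refine ⟨F', e'', he'', ?_⟩
    have h3 := Wit.prop_of_equiv (fun A B hA hB i _ b hb =>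
      pBase_quasiAffine.iso_left hA hB (AlgSp.IsAlgSpace.yon_obj U) i hb) (hx k.1 k.2 U x) F'.property
      (BasedFunctor.comp e' fpSwap) (isEquivOver_comp he' fpSwap_isEquivOver)
    change AlgSp.IsQuasiAffineMor (AlgSt.spMapOfOver (BasedFunctor.comp e' (FibCat.fpSnd xk x))) at h3
    rw [h₂] at h3
    haveI : IsAffineHom (V k).hom := isAffineHom_of_isAffine _
    haveI : IsAffineHom (pairP₂ (V k) U).left :=
      MorphismProperty.of_isPullback (P := @IsAffineHom) (IsPullback.of_hasPullback (V k).hom U.hom) ‹_›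
    exact isQuasiAffineMor_of_comp_separated _ _ h3
  have hW : Wit AlgSp.IsQuasiAffineMor yk (FibCat.diag t) := (wit_congr iy (Iso.refl _)).2 hW'
  let Φ := BasedFunctor.comp (toOverCat (pairSch (V k) U)) (overMap (j k))
  have hΦ : AlgSt.spMapOfOver Φ = (AlgSp.yon S).map (j k) := by
    simp only [Φ, spMapOfOver_overMap, spMapOfOver_toOverCat, Category.id_comp]
  let iM : BasedFunctor.comp (toOverCat (pairSch (V k) U)) yk ≅
      BasedFunctor.comp (BasedFunctor.comp (ofSpMap ((AlgSp.yon S).map (j k))) (toOverCat (pairSch U U)))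
        (pairMap x x) :=
    whiskerR (overFactor Φ ≪≫ eqToIso (by rw [hΦ])) (pairMap x x)
  let M := fpMap (F := yk) (G := FibCat.diag t) (toOverCat (pairSch (V k) U)) (BasedFunctor.id _) iM
    (show BasedFunctor.comp (BasedFunctor.id _) (FibCat.diag t) ≅ FibCat.diag t from Iso.refl _)
  let Θ' := BasedFunctor.comp Θ M
  have hΘ' : FibCat.IsEquivOver Θ' :=
    isEquivOver_comp hΘe (fpMap_isEquivOver (toOverCat_isEquivOver _) (isEquivOver_id _) _ _)
  have hp := Wit.prop_of_equiv (fun A B hA hB i _ b hb =>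
    pBase_quasiAffine.iso_left hA hB (AlgSp.IsAlgSpace.yon_obj _) i hb) hW hP Θ' hΘ'
  have hsp : AlgSt.spMapOfOver (BasedFunctor.comp Θ' (FibCat.fpFst yk (FibCat.diag t))) =
      pullback.snd a ((AlgSp.yon S).map (j k)) := by
    refine (spMapOfOver_congr (whiskerR iΘ (toOverCat (pairSch (V k) U)))).trans ?_
    rw [spMapOfOver_ofSpMap_comp, spMapOfOver_toOverCat, Category.comp_id]
  rwa [hsp] at hp

end Groth.L24.St
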