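import Groth.Agent.L24.St.QcSep
import Groth.Agent.L24.St.DiagSep
import Groth.Agent.L24.St.DiagSurj
import Groth.Agent.L24.Sub.SmoothPre
import Groth.Agent.L24.Tors.QuotProps
import Groth.Agent.L23.ProperImage

/-!
Separatedness passes from the source of an fppf functor with universally closed, surjective diagonal.
-/

set_option autoImplicit false
set_option backward.isDefEq.respectTransparency false
set_option backward.isDefEq.respectTransparency.types false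

universe u

open CategoryTheory CategoryTheory.Limits AlgebraicGeometry Opposite AlgSt AlgSp

noncomputable section

namespace Groth.L24.St

open Groth.L24.LocQ Groth.L24.Sub

variable {S : Scheme.{u}} {𝒳 𝒴 𝒵 : AlgSt.Cat S}

/-- A functor locally of finite type is proper if it becomes so after a universally closed surjection. -/
theorem repWith_proper_of_comp (h𝒳 : FibCat.IsFibGrpd 𝒳.p) (h𝒴 : FibCat.IsFibGrpd 𝒴.p) {a : 𝒳 ⥤ᵇ 𝒴}
    {b : 𝒴 ⥤ᵇ 𝒵} (hau : RepByAlgSpWith IsUnivClosedMor a) (has : RepByAlgSpWith IsSurjectiveMor a)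
    (hb : RepByAlgSpWith (LocP @LocallyOfFiniteType) b)
    (hab : RepByAlgSpWith IsProperMor (BasedFunctor.comp a b)) : RepByAlgSpWith IsProperMor b := by
  intro U y
  obtain ⟨G, e, he, hlft⟩ := hb U y
  let z := BasedFunctor.comp e (FibCat.fpSnd y b)
  obtain ⟨V, a', e', hV, he', ⟨i⟩, hu⟩ := exists_space_prop hasAtlasCovers_fppf pBase_univClosed
    Groth.L24.Alg.isLocalOnBase_fppf_univClosed h𝒳 h𝒴 hau G.property z
  have hs : IsSurjectiveMor a' := prop_of_repWith hasAtlasCovers_fppf Groth.L24.Tors.pBase_surj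
    Groth.L24.Tors.isLocalOnBase_fppf_surj hV G.property a'
    ((repWith_congr i).1 ((repWith_precomp he' _).2 (repWith_fpFst z has)))
  let Θ : FibCat.fp z a ⥤ᵇ FibCat.fp (FibCat.fpSnd y b) a :=
    fpMap e (BasedFunctor.id _) (Iso.refl _) (Iso.refl _)
  let E := BasedFunctor.comp e' (BasedFunctor.comp Θ (fpComp y a b))
  have hE : FibCat.IsEquivOver E := isEquivOver_comp he' (isEquivOver_comp
    (fpMap_isEquivOver he (isEquivOver_id _) _ _) (fpComp_isEquivOver y a b))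
  have key : AlgSt.spMapOfOver (BasedFunctor.comp E (FibCat.fpFst y (BasedFunctor.comp a b))) =
      a' ≫ AlgSt.spMapOfOver (BasedFunctor.comp e (FibCat.fpFst y b)) := by
    rw [← spMapOfOver_ofSpMap_comp]
    exact spMapOfOver_congr (whiskerR i (BasedFunctor.comp e (FibCat.fpFst y b)))
  have hp : IsProperMor (a' ≫ AlgSt.spMapOfOver (BasedFunctor.comp e (FibCat.fpFst y b))) :=
    key ▸ Wit.prop_of_equiv
      (fun F F' hF hF' j hj c hc => pBase_proper.iso_left hF hF' (IsAlgSpace.yon_obj U) j hc) (hab U y) hV E hE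
  exact ⟨G, e, he, Groth.L23.ProperImage.isProperMor_of_jointly_surjective (ι := PUnit.{1}) G.property
    (IsAlgSpace.yon_obj U) (fun _ => hV) (fun _ => a')
    (fun y => let ⟨x, hx⟩ := hs y; ⟨⟨⟩, x, hx⟩) (fun _ => hu) hlft (fun _ => hp)⟩

/-- The functor of self products of an fppf functor has the property on charts. -/
theorem locQ_cmpMap {Q : MorphismProperty Scheme.{u}} (hQ : Groth.L23.EtLocal Q)
    (hP : IsSmoothLocalST (LocP Q : MorphismProperty (Sp S)))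
    (h𝒳 : IsAlgStack Scheme.fppfPrecoverage 𝒳) (h𝒴 : IsAlgStack Scheme.fppfPrecoverage 𝒴)
    (h𝒵 : IsAlgStack Scheme.fppfPrecoverage 𝒵) (f : 𝒳 ⥤ᵇ 𝒴) (g : 𝒴 ⥤ᵇ 𝒵) (hf : AlgSt.LocQ (LocP Q) f) :
    AlgSt.LocQ (LocP Q) (cmpMap f f g) := by
  have hfg := isAlgStack_fp h𝒳 h𝒳 h𝒵 (BasedFunctor.comp f g) (BasedFunctor.comp f g)
  have hmid := isAlgStack_fp h𝒳 h𝒴 h𝒵 (BasedFunctor.comp f g) g
  have hend := isAlgStack_fp h𝒴 h𝒴 h𝒵 g g
  refine locQ_congr (legsIso f f (Iso.refl (BasedFunctor.comp f g)) (Iso.refl (BasedFunctor.comp f g)) ≪≫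
    cmpMapIso f f g) ?_
  exact locQ_comp hP (fun _ _ _ hX hY hZ _ _ ha hb => Groth.L23.locP_comp hQ hX hY hZ ha hb) hfg hmid hend
    (locQ_precomp_equiv (legRLift_isEquivOver (F := BasedFunctor.comp f g) f _)
      (locQ_fpFst hP (pBase_locP hQ) h𝒳 h𝒴 hmid (FibCat.fpSnd (BasedFunctor.comp f g) g) hf))
    (locQ_precomp_equiv (legLLift_isEquivOver (G := g) f _)
      (locQ_fpFst hP (pBase_locP hQ) h𝒳 h𝒴 hend (FibCat.fpFst g g) hf))

/-- If an fppf functor has universally closed surjective diagonal and its composite with `g` is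
separated, so is `g`. -/
theorem isSeparatedMor_of_comp_fppf (h𝒳 : IsAlgStack Scheme.fppfPrecoverage 𝒳)
    (h𝒴 : IsAlgStack Scheme.fppfPrecoverage 𝒴) (h𝒵 : IsAlgStack Scheme.fppfPrecoverage 𝒵)
    (f : 𝒳 ⥤ᵇ 𝒴) (g : 𝒴 ⥤ᵇ 𝒵) (hf₁ : AlgSt.IsSurjective f) (hf₂ : AlgSt.LocQ (LocP @Flat) f)
    (hf₃ : AlgSt.LocQ (LocP @LocallyOfFinitePresentation) f) (hΔs : AlgSt.IsSurjective (FibCat.diag f))
    (hΔu : RepByAlgSpWith IsUnivClosedMor (FibCat.diag f))
    (hh : AlgSt.IsSeparatedMor (BasedFunctor.comp f g)) : AlgSt.IsSeparatedMor g := by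
  have hff := L09.Fib.fp_isFibGrpd h𝒳.isStack.1 h𝒳.isStack.1 h𝒴.isStack.1 (F := f) (G := f)
  have hpost : RepByAlgSpWith IsProperMor (fpPost f f g) := repWith_proper_of_comp h𝒳.isStack.1 hff hΔu
    (repWith_surjective_of_isSurjective h𝒳.isStack.1 hff (repWith_rep1 hΔu) hΔs)
    (cmp_repWith f f g (diag_lft h𝒴 h𝒵 g)) ((repWith_congr (diagCompIso f g)).2 hh)
  refine repWith_of_fpFst_locQ pBase_proper Groth.L24.Alg.isLocalOnBase_fppf_proper h𝒴
    (isAlgStack_fp h𝒴 h𝒴 h𝒵 g g) (isAlgStack_fp h𝒳 h𝒳 h𝒵 (BasedFunctor.comp f g) (BasedFunctor.comp f g))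
    (diag_rep1_alg h𝒴 h𝒵 g) (z := cmpMap f f g)
    (locQ_cmpMap Groth.L23.etLocal_flat isSmoothLocalST_flat h𝒳 h𝒴 h𝒵 f g hf₂)
    (locQ_cmpMap Groth.L23.etLocal_lfp isSmoothLocalST_lfp h𝒳 h𝒴 h𝒵 f g hf₃)
    (isSurjective_congr (cmpMapIso f f g) (isSurjective_legs h𝒴.isStack.1 h𝒳.isStack.1 h𝒴.isStack.1
      h𝒳.isStack.1 h𝒵.isStack.1 f f _ _ hf₁ hf₁)) ?_
  rw [← cmpLift_fst f f g] at hpost
  exact (repWith_precomp (cmpLift_isEquivOver f f g) _).1 hpost

end Groth.L24.St
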