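import Groth.Agent.L24.St.PointsUniv
import Groth.Agent.L24.St.UnivProps
import Groth.Agent.L24.St.FpAlg
import Groth.Agent.L24.St.QcSep

/-!
Universal injectivity is local on the target.
-/

set_option autoImplicit false
set_option backward.isDefEq.respectTransparency false
set_option backward.isDefEq.respectTransparency.types false

universe u v₄ u₄

open CategoryTheory CategoryTheory.Limits AlgebraicGeometry Opposite AlgSt

noncomputable section

namespace Groth.L24.St

variable {S : Scheme.{u}} {𝒳 𝒴 : AlgSt.Cat S}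

/-- A functor whose base changes along a family of functors covering the points are universally
injective is universally injective. -/
theorem isUnivInjective_of_cover (h𝒳 : IsAlgStack Scheme.fppfPrecoverage 𝒳)
    (h𝒴 : IsAlgStack Scheme.fppfPrecoverage 𝒴) (f : 𝒳 ⥤ᵇ 𝒴)
    (h : ∀ y : Points 𝒴, ∃ (𝒲 : AlgSt.Cat S) (_ : IsAlgStack Scheme.fppfPrecoverage 𝒲) (w : 𝒲 ⥤ᵇ 𝒴),
      y ∈ Set.range (Points.map w) ∧ IsUnivInjective Scheme.fppfPrecoverage (FibCat.fpFst w f)) :
    IsUnivInjective Scheme.fppfPrecoverage f := by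
  intro 𝒵 h𝒵 g u u' huu
  obtain ⟨𝒲, h𝒲, w, ⟨q0, hq0⟩, hw⟩ := h (Points.map g (Points.map (FibCat.fpFst g f) u))
  let p := FibCat.fpFst g w
  let q := FibCat.fpSnd g w
  have hP := isAlgStack_fp h𝒵 h𝒲 h𝒴 g w
  have hfp := isAlgStack_fp h𝒵 h𝒳 h𝒴 g f
  obtain ⟨v, hv, -⟩ := exists_points_fp h𝒲.isStack.1 h𝒴.isStack.1 h𝒵.isStack.1 w g
    (Points.map (FibCat.fpFst g f) u) q0 hq0.symm
  have hq : Function.Injective (Points.map (FibCat.fpFst (BasedFunctor.comp q w) f)) := by
    intro a b hab
    obtain ⟨a', rfl⟩ := (bijective_map_of_isEquivOver (fpPaste_isEquivOver q w f)).surjective a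
    obtain ⟨b', rfl⟩ := (bijective_map_of_isEquivOver (fpPaste_isEquivOver q w f)).surjective b
    rw [← map_comp_apply, ← map_comp_apply, fpPaste_fst] at hab
    rw [hw _ hP q hab]
  let M : FibCat.fp (BasedFunctor.comp p g) f ⥤ᵇ FibCat.fp (BasedFunctor.comp q w) f :=
    fpMap (BasedFunctor.id _) (BasedFunctor.id _) (FibCat.fpIso g w).symm (Iso.refl _)
  have hM := (bijective_map_of_isEquivOver (fpMap_isEquivOver (F := BasedFunctor.comp q w) (G := f)
    (F' := BasedFunctor.comp p g) (G' := f) (isEquivOver_id _) (isEquivOver_id _)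
    (FibCat.fpIso g w).symm (Iso.refl _))).injective
  have hT : Function.Injective (Points.map (FibCat.fpFst (BasedFunctor.comp p g) f)) := by
    intro a b hab
    refine hM (hq ?_)
    rw [← map_comp_apply, ← map_comp_apply]
    exact hab
  obtain ⟨a, ha1, ha2⟩ := exists_points_fp hfp.isStack.1 h𝒵.isStack.1 hP.isStack.1 (FibCat.fpFst g f) p v u hv
  obtain ⟨b, hb1, hb2⟩ := exists_points_fp hfp.isStack.1 h𝒵.isStack.1 hP.isStack.1 (FibCat.fpFst g f) p v u'
    (hv.trans huu)
  have hab : a = b := (bijective_map_of_isEquivOver (fpPaste_isEquivOver p g f)).injective (hT (by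
    rw [← map_comp_apply, ← map_comp_apply, fpPaste_fst, ha1, hb1]))
  rw [← ha2, hab, hb2]

/-- Every point is hit by a functor from the spectrum of a field. -/
theorem exists_field_chart (h𝒴 : FibCat.IsFibGrpd 𝒴.p) (y : Points 𝒴) :
    ∃ (Z : Over S) (_ : IsAffine Z.left) (z : FibCat.overCat Z ⥤ᵇ 𝒴), y ∈ Set.range (Points.map z) := by
  obtain ⟨p, rfl⟩ := Points.mk_surjective y
  obtain ⟨z, φ, -⟩ := exists_overCat_functor h𝒴 p.obj p.lies
  let q : FPt (FibCat.overCat (Over.mk p.str)) :=
    { K := p.K, str := p.str, obj := idObj (Over.mk p.str), lies := rfl }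
  exact ⟨Over.mk p.str, inferInstanceAs (IsAffine (Spec (CommRingCat.of p.K))), z, Points.mk q,
    mk_eq_of_hom (p := q.map z) (q := p) φ.hom⟩

end Groth.L24.St
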