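import Groth.Agent.L24.St.WNA
import Groth.Agent.L24.Quot.Affine
import Groth.Agent.L24.Quot.AffineIsQuot
import Groth.Agent.L24.LocQ.Engine
import Groth.Agent.L23.Epi
import Groth.Agent.L23.Cover
import Groth.Agent.L23.Points
import Mathlib.AlgebraicGeometry.Sites.Fpqc

/-!
A space with a finite flat surjective chart by an affine scheme is an affine scheme.
-/

set_option autoImplicit false
set_option backward.isDefEq.respectTransparency false
set_option backward.isDefEq.respectTransparency.types false

universe u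

open CategoryTheory CategoryTheory.Limits AlgebraicGeometry Opposite AlgSp

noncomputable section

namespace Groth.L24.St.WNA

variable {S : Scheme.{u}} {X : Sp S} {U R : Over S} (p : (yon S).obj U ⟶ X) (t s : R ⟶ U)
  (sq : IsPullback ((yon S).map t) ((yon S).map s) p p)

include sq in
theorem hom_ext_ts {T : Scheme.{u}} {α β : T ⟶ R.left} (ht : α ≫ t.left = β ≫ t.left)
    (hs : α ≫ s.left = β ≫ s.left) : α = β := by
  let a : Over.mk (α ≫ R.hom) ⟶ R := Over.homMk α rfl
  let b : Over.mk (α ≫ R.hom) ⟶ R := Over.homMk β (by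
    show β ≫ R.hom = α ≫ R.hom
    rw [← Over.w t, reassoc_of% ht])
  have e1 : a ≫ t = b ≫ t := Over.OverMorphism.ext ht
  have e2 : a ≫ s = b ≫ s := Over.OverMorphism.ext hs
  exact congrArg (fun k => k.left) ((yon S).map_injective
    (sq.hom_ext (by rw [← Functor.map_comp, ← Functor.map_comp, e1])
      (by rw [← Functor.map_comp, ← Functor.map_comp, e2])) : a = b)

/-- The pairs of composable arrows. -/
abbrev pairs : Over S := Over.mk (pullback.fst s.left t.left ≫ R.hom)

def pairFst : pairs t s ⟶ R := Over.homMk (pullback.fst s.left t.left) rfl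

def pairSnd : pairs t s ⟶ R := Over.homMk (pullback.snd s.left t.left) (by
  show pullback.snd s.left t.left ≫ R.hom = pullback.fst s.left t.left ≫ R.hom
  conv_lhs => rw [← Over.w t, ← Category.assoc, ← pullback.condition, Category.assoc, Over.w s])

theorem pair_condition : pairFst t s ≫ s = pairSnd t s ≫ t := Over.OverMorphism.ext pullback.condition

def compArr : pairs t s ⟶ R :=
  (yon S).preimage (sq.lift ((yon S).map (pairFst t s ≫ t)) ((yon S).map (pairSnd t s ≫ s)) (by
    simp only [Functor.map_comp, Category.assoc]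
    rw [sq.w, ← Functor.map_comp_assoc, pair_condition, Functor.map_comp, Category.assoc, sq.w]))

theorem compArr_t : (compArr p t s sq).left ≫ t.left = pullback.fst s.left t.left ≫ t.left :=
  congrArg (fun k => k.left) ((yon S).map_injective (by
    rw [Functor.map_comp, compArr, Functor.map_preimage, sq.lift_fst]) : compArr p t s sq ≫ t = pairFst t s ≫ t)

theorem compArr_s : (compArr p t s sq).left ≫ s.left = pullback.snd s.left t.left ≫ s.left :=
  congrArg (fun k => k.left) ((yon S).map_injective (by
    rw [Functor.map_comp, compArr, Functor.map_preimage, sq.lift_snd]) : compArr p t s sq ≫ s = pairSnd t s ≫ s)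

def idArr : U ⟶ R := (yon S).preimage (sq.lift (𝟙 _) (𝟙 _) rfl)

theorem idArr_t : (idArr p t s sq).left ≫ t.left = 𝟙 _ :=
  congrArg (fun k => k.left) ((yon S).map_injective (by
    rw [Functor.map_comp, idArr, Functor.map_preimage, sq.lift_fst, CategoryTheory.Functor.map_id]) :
      idArr p t s sq ≫ t = 𝟙 U)

theorem idArr_s : (idArr p t s sq).left ≫ s.left = 𝟙 _ :=
  congrArg (fun k => k.left) ((yon S).map_injective (by
    rw [Functor.map_comp, idArr, Functor.map_preimage, sq.lift_snd, CategoryTheory.Functor.map_id]) :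
      idArr p t s sq ≫ s = 𝟙 U)

def invArr : R ⟶ R := (yon S).preimage (sq.lift ((yon S).map s) ((yon S).map t) sq.w.symm)

theorem invArr_t : (invArr p t s sq).left ≫ t.left = s.left :=
  congrArg (fun k => k.left) ((yon S).map_injective (by
    rw [Functor.map_comp, invArr, Functor.map_preimage, sq.lift_fst]) : invArr p t s sq ≫ t = s)

theorem invArr_s : (invArr p t s sq).left ≫ s.left = t.left :=
  congrArg (fun k => k.left) ((yon S).map_injective (by
    rw [Functor.map_comp, invArr, Functor.map_preimage, sq.lift_snd]) : invArr p t s sq ≫ s = t)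

/-- The groupoid of a kernel pair. -/
def kpGrpd : Grpd.GroupoidScheme S where
  U := U.left
  R := R.left
  pU := U.hom
  pR := R.hom
  s := s.left
  t := t.left
  e := (idArr p t s sq).left
  i := (invArr p t s sq).left
  c := (compArr p t s sq).left
  s_over := Over.w s
  t_over := Over.w t
  comp_s := fun α β h => by simp only [Category.assoc, compArr_s, pullback.lift_snd_assoc]
  comp_t := fun α β h => by simp only [Category.assoc, compArr_t, pullback.lift_fst_assoc]
  assoc := fun α β γ h₁ h₂ => by
    apply hom_ext_ts p t s sq <;>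
      simp only [Category.assoc, compArr_s, compArr_t, pullback.lift_fst_assoc, pullback.lift_snd_assoc]
  e_s := idArr_s p t s sq
  e_t := idArr_t p t s sq
  comp_e := fun α => by
    apply hom_ext_ts p t s sq <;>
      simp only [Category.assoc, compArr_s, compArr_t, pullback.lift_fst_assoc, pullback.lift_snd_assoc,
        idArr_s, Category.comp_id]
  e_comp := fun α => by
    apply hom_ext_ts p t s sq <;>
      simp only [Category.assoc, compArr_s, compArr_t, pullback.lift_fst_assoc, pullback.lift_snd_assoc,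
        idArr_t, Category.comp_id]
  i_s := invArr_s p t s sq
  i_t := invArr_t p t s sq
  comp_i := fun α => by
    apply hom_ext_ts p t s sq <;>
      simp only [Category.assoc, compArr_s, compArr_t, pullback.lift_fst_assoc, pullback.lift_snd_assoc,
        idArr_s, idArr_t, invArr_s, Category.comp_id]
  i_comp := fun α => by
    apply hom_ext_ts p t s sq <;>
      simp only [Category.assoc, compArr_s, compArr_t, pullback.lift_fst_assoc, pullback.lift_snd_assoc,
        idArr_s, idArr_t, invArr_t, Category.comp_id]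

instance : Mono (kpGrpd p t s sq).j := ⟨fun a b h => by
  refine hom_ext_ts p t s sq ?_ ?_
  · have := congrArg (· ≫ pullback.fst _ _) h
    simpa [Grpd.GroupoidScheme.j, kpGrpd] using this
  · have := congrArg (· ≫ pullback.snd _ _) h
    simpa [Grpd.GroupoidScheme.j, kpGrpd] using this⟩

/-- A space with a finite flat surjective chart by an affine scheme is an affine scheme. -/
theorem exists_affine_iso [IsAffine U.left] (hX : IsAlgSpace X) (hfin : IsFiniteMor p) (hfl : LocP @Flat p)
    (hlfp : LocP @LocallyOfFinitePresentation p) (hs : IsSurjectiveMor p) :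
    ∃ (M : Over S) (φ : (yon S).obj M ⟶ X), IsAffine M.left ∧ IsIso φ := by
  have hrep : RepWith @IsFinite p := Groth.L23.isFiniteMor_iff.1 hfin
  let R' : Over S := hrep.1.pullback p
  obtain ⟨t', ht'⟩ := (yon S).map_surjective (hrep.1.fst p)
  let s' : R' ⟶ U := hrep.1.snd p
  have sqp : IsPullback ((yon S).map t') ((yon S).map s') p p := ht'.symm ▸ hrep.1.isPullback p
  have hU := IsAlgSpace.yon_obj U
  have hloc : ∀ {P : MorphismProperty Scheme.{u}}, Groth.L23.EtLocal P → LocP P p → RepWith P p := fun {P} hP h =>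
    haveI := hP.stable
    Groth.L23.repWith_of_snd hrep.1 fun V g => prop_of_locP_map
      (Groth.L23.locP_of_isPullback hP hU hX (IsAlgSpace.yon_obj V) (hrep.1.isPullback g) h)
  have hrf := hloc Groth.L23.etLocal_flat hfl
  have hrl := hloc Groth.L23.etLocal_lfp hlfp
  have hrs : RepWith @Surjective p := Groth.L23.repWith_surjective_of_map hrep.1 hs
  have : Sheaf.IsLocallySurjective p := Groth.L23.isLocallySurjective_of_repWith p hrf hrl hrs
  have : Epi p := inferInstance
  -- the groupoid
  let G := kpGrpd p t' s' sqp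
  have : IsAffine G.U := ‹IsAffine U.left›
  have : IsFinite G.s := Groth.L23.repWith_snd hrep p
  have : Flat G.s := Groth.L23.repWith_snd hrf p
  have : LocallyOfFinitePresentation G.s := Groth.L23.repWith_snd hrl p
  have : Mono G.j := inferInstanceAs (Mono (kpGrpd p t' s' sqp).j)
  obtain ⟨_, _, _⟩ := Groth.Agent.L24.Quot.isFinite_t G
  have : IsAffine G.R := isAffine_of_isAffineHom G.s
  obtain ⟨hqf, hqfl, hqlfp, hqsq⟩ := Groth.Agent.L24.Quot.finite_flat_toQuot G
  have hqs : Surjective G.toQuot := ⟨(Groth.Agent.S1878.result S G).1.1⟩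
  obtain ⟨pM, hpM⟩ : ∃ m, G.toQuot ≫ m = G.pU := by
    refine ⟨EffectiveEpi.desc G.toQuot G.pU fun {Z} a b h => ?_, EffectiveEpi.fac _ _ _⟩
    have e : a = hqsq.lift a b h ≫ G.t := (hqsq.lift_fst _ _ _).symm
    have e' : b = hqsq.lift a b h ≫ G.s := (hqsq.lift_snd _ _ _).symm
    exact (congrArg (· ≫ G.pU) e).trans ((Category.assoc _ _ _).trans
      ((congrArg (hqsq.lift a b h ≫ ·) (G.t_over.trans G.s_over.symm)).trans
        ((Category.assoc _ _ _).symm.trans (congrArg (· ≫ G.pU) e'.symm))))
  let M : Over S := Over.mk pM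
  let qO : U ⟶ M := Over.homMk G.toQuot hpM
  have sqM : IsPullback ((yon S).map t') ((yon S).map s') ((yon S).map qO) ((yon S).map qO) :=
    (IsPullback.of_map (Over.forget S) (Over.OverMorphism.ext hqsq.w : t' ≫ qO = s' ≫ qO) hqsq).map (yon S)
  have : Sheaf.IsLocallySurjective ((yon S).map qO) := Groth.L23.isLocallySurjective_of_repWith _
    ((repWith_yon_map_iff _ _).2 hqfl) ((repWith_yon_map_iff _ _).2 hqlfp) ((repWith_yon_map_iff _ _).2 hqs)
  have : Epi ((yon S).map qO) := inferInstance
  obtain ⟨hc₁⟩ := Groth.L23.nonempty_isColimit_cofork p sqp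
  obtain ⟨hc₂⟩ := Groth.L23.nonempty_isColimit_cofork _ sqM
  exact ⟨M, (hc₂.coconePointUniqueUpToIso hc₁).hom, isAffine_Spec _, inferInstance⟩

open AlgSt in
/-- A well-nigh affine stack which is a space is an affine scheme. -/
theorem exists_affine_equiv {𝒳 : AlgSt.Cat S} (hw : IsWellNighAffine 𝒳) (hsp : RepByAlgSp 𝒳) :
    ∃ (U : Over S) (e : ofSch U ⥤ᵇ 𝒳), IsAffine U.left ∧ FibCat.IsEquivOver e := by
  obtain ⟨F, e, he⟩ := hsp
  obtain ⟨U, x, hU, hx⟩ := hw
  obtain ⟨c, hc, -, -⟩ := exists_inverse he
  let Φ := BasedFunctor.comp (toOverCat U) (BasedFunctor.comp x c)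
  have hUA := IsAlgSpace.yon_obj U
  have key : ∀ {P : MorphismProperty (Sp S)}, RepByAlgSpWith P x → RepByAlgSpWith P (ofSpMap (spMap Φ)) := fun h =>
    (repWith_congr (isoOfSpMap Φ)).1 ((repWith_precomp (toOverCat_isEquivOver U) _).2
      ((repWith_postcomp hc x).2 h))
  have hfl : LocP @Flat (spMap Φ) := prop_of_repWith hasAtlasCovers_atlasCov (pBase_locP Groth.L23.etLocal_flat)
    (isLocalOnBase_locP Groth.L23.etLocal_flat) hUA F.property _
    (key (repWith_mono (fun _ _ _ _ h => h.1.1.2) hx))
  have hlfp : LocP @LocallyOfFinitePresentation (spMap Φ) := prop_of_repWith hasAtlasCovers_atlasCov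
    (pBase_locP Groth.L23.etLocal_lfp) (isLocalOnBase_locP Groth.L23.etLocal_lfp) hUA F.property _
    (key (repWith_mono (fun _ _ _ _ h => h.2) hx))
  have hfin : IsFiniteMor (spMap Φ) := prop_of_repWith hasAtlasCovers_fppf pBase_finite isLocalOnBase_fppf_finite
    hUA F.property _ (key (repWith_mono (fun _ _ _ _ h => h.1.2) hx))
  have hsur : IsSurjectiveMor (spMap Φ) := fun y => by
    obtain ⟨z, hz⟩ := isSurjective_of_repWith (ofSp_isFibGrpd _) (ofSp_isFibGrpd _)
      (key (repWith_mono (fun _ _ _ _ h => h.1.1.1) hx)) (ptMap _ y)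
    obtain ⟨z, rfl⟩ := (ptMap_bijective _).2 z
    rw [ptMap_map] at hz
    exact ⟨z, (ptMap_bijective _).1 hz⟩
  obtain ⟨M, φ, hM, hφ⟩ := exists_affine_iso (spMap Φ) F.property hfin hfl hlfp hsur
  exact ⟨M, BasedFunctor.comp (ofSpMap φ) e, hM, isEquivOver_comp (ofSpMap_isEquivOver φ) he⟩

end Groth.L24.St.WNA
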